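import Cfsg.Agent.KZ.Exc.F4Chr
import Cfsg.Agent.KZ.Cl.Nab
import Cfsg.Agent.KZ.Lie.Loc

/-!
# KZ, `F₄(q)` and `E₆ ^ (-ε) (q)`: the rows from the combinatorial input (helper84)

`Fam11` : eleven members, `Fam11.ten_le`; `AA.nab27`; `AA.rowAt`.
-/

set_option autoImplicit false
set_option linter.unusedSectionVars false

namespace Cfsg.Agent.KZ.Exc

open Cfsg Cfsg.Agent.DL Cfsg.Agent.DL.PP Cfsg.Agent.KZ.Lie Cfsg.Agent.Characters.Core Matrix Cfsg.Agent.KZ.Red
  Cfsg.Agent.KZ.Res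

theorem three_le_cls {E : Type} [Group E] [Finite E] (h : 3 ≤ Nat.card E) : 3 ≤ Nat.card (ConjClasses E) := by
  by_contra hn
  have := Finite.one_lt_card_iff_nontrivial.1 (by omega : 1 < Nat.card E)
  obtain ⟨x, hx⟩ := exists_ne (1 : E)
  have h1 : MulAction.orbit (ConjAct E) x = {1}ᶜ := Set.ext fun y => by
    rw [ConjAct.mem_orbit_conjAct]
    refine ⟨fun h2 e => hx (isConj_one_right.1 (Set.mem_singleton_iff.1 e ▸ h2)), fun hy => by_contra fun h2 => hn ?_⟩
    have := Fintype.ofFinite (ConjClasses E)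
    rw [Nat.card_eq_fintype_card]
    exact Fintype.two_lt_card_iff.2 ⟨.mk 1, .mk y, .mk x,
      fun e => hy (isConj_one_right.1 (ConjClasses.mk_eq_mk_iff_isConj.1 e)),
      fun e => hx (isConj_one_right.1 (ConjClasses.mk_eq_mk_iff_isConj.1 e)),
      fun e => h2 (ConjClasses.mk_eq_mk_iff_isConj.1 e)⟩
  have h2 := (MulAction.stabilizer (ConjAct E) x).index_dvd_card
  have h3 := Set.ncard_add_ncard_compl ({1} : Set E)
  rw [MulAction.index_stabilizer, h1, show Nat.card (ConjAct E) = Nat.card E from rfl, ← h3, Set.ncard_singleton,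
    Nat.dvd_add_left dvd_rfl, Nat.dvd_one] at h2
  rw [h2, Set.ncard_singleton] at h3
  omega

/-- the interchange of the factors -/
def sp : Bool ⊕ Fin 3 × Fin 3 → Bool ⊕ Fin 3 × Fin 3 := Sum.map id Prod.swap

/-- eleven members -/
structure Fam11 (M : Ideal AlgInt) (S : Type) [Group S] where
  ψ : Bool ⊕ Fin 3 × Fin 3 → IrrCharacter S
  inj : Function.Injective ψ
  mem : ∀ j, Mem M (ψ j)
  aut : ∀ (σ : MulAut S) j, ∃ j', (j' = j ∨ j' = sp j) ∧ ∀ x, (ψ j).1 (σ x) = (ψ j').1 x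

namespace Fam11

variable {M : Ideal AlgInt} (hM : IsPModular 3 M) {S S' : Type} [Group S] [Group S'] [Finite S'] (E : Fam11 M S)

/-- transport -/
def congr (e : S' ≃* S) : Fam11 M S' where
  ψ j := tr e (E.ψ j)
  inj := (tr e).injective.comp E.inj
  mem j := (mem_tr hM e).2 (E.mem j)
  aut σ j := (E.aut (MulAut.congr e σ) j).imp fun _ h => ⟨h.1, fun x => by simpa [tr_apply] using h.2 (e x)⟩

/-- the fixed members -/
def dg (i : Bool ⊕ Fin 3) : IrrCharacter S := E.ψ (i.map id fun i => (i, i))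

theorem dg_inj : Function.Injective E.dg := fun i j e => by
  have := E.inj e
  clear e
  revert i j
  decide

theorem fixes (σ : MulAut S) (i : Bool ⊕ Fin 3) : Fixes σ (E.dg i) := by
  obtain ⟨j, h1, h2⟩ := E.aut σ (i.map id fun i => (i, i))
  obtain rfl : j = i.map id fun i => (i, i) := h1.elim id fun h => h.trans (by cases i <;> rfl)
  exact h2

include E in
theorem p4 : P4 M S := p4_of_fam E.dg (by simp) (fun _ => E.mem _) E.dg_inj fun σ _ _ => E.fixes σ

include hM in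
theorem ten_le {A : Type} [Group A] [Finite A] {N : Subgroup A} [N.Normal] (h3 : ¬ 3 ∣ N.index) (E : Fam11 M ↥N) :
    10 ≤ k0 M A := by
  classical
  obtain ⟨P⟩ : Nonempty (Sylow 3 A) := inferInstance
  have := normal_sup_cent P (sylow_le_of_index h3 P)
  have := finite_irr (G := ↥N)
  have h1 : 11 ≤ k0 M ↥N := by
    simpa [k0_eq] using Nat.card_le_card_of_injective (fun j => (⟨E.ψ j, E.mem j⟩ : {χ : IrrCharacter ↥N // Mem M χ}))
      fun _ _ e => E.inj (Subtype.ext_iff.1 e)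
  have h2 : 5 ≤ fx M N := by simpa using le_fx E.dg E.dg_inj (fun _ => E.mem _) fun i g _ => E.fixes _ i
  have h4 : (N ⊔ Subgroup.centralizer ((P : Subgroup A) : Set A)).index ≠ 0 := Subgroup.index_ne_zero_of_finite
  by_cases h5 : (N ⊔ Subgroup.centralizer ((P : Subgroup A) : Set A)).index ≤ 2
  · have := upo hM h3 P h5
    omega
  let ι : Fin 8 → Bool ⊕ Fin 3 × Fin 3 :=
    ![.inl false, .inl true, .inr (0, 0), .inr (1, 1), .inr (2, 2), .inr (0, 1), .inr (0, 2), .inr (1, 2)]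
  have h6 : ∀ i j, ι j = ι i ∨ ι j = sp (ι i) → i = j := by decide
  have h7 := orb_quot hM h3 P (K := N ⊔ _) le_sup_left le_sup_right
    ((Finset.univ.image fun i => E.ψ (ι i)).erase (Tool.triv _))
    (fun θ h => by
      obtain ⟨i, -, rfl⟩ := Finset.mem_image.1 (Finset.mem_of_mem_erase h)
      exact E.mem _) (fun θ h => Tool.nontriv_iff.2 (Finset.ne_of_mem_erase h)) fun θ h θ' h' ⟨g, hg⟩ => by
      obtain ⟨i, -, rfl⟩ := Finset.mem_image.1 (Finset.mem_of_mem_erase h)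
      obtain ⟨j, -, rfl⟩ := Finset.mem_image.1 (Finset.mem_of_mem_erase h')
      obtain ⟨l, h8, h9⟩ := E.aut (MulAut.conjNormal g) (ι i)
      rw [E.inj (Subtype.ext (funext fun x => (h9 x).symm.trans (hg x)))] at h8
      rw [h6 i j h8]
  have h8 := Finset.pred_card_le_card_erase (s := Finset.univ.image fun i => E.ψ (ι i)) (a := Tool.triv _)
  rw [Finset.card_image_of_injective _ fun i j e => h6 i j (.inl (E.inj e).symm), Finset.card_univ,
    Fintype.card_fin] at h8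
  have h9 := three_le_cls (E := A ⧸ (N ⊔ Subgroup.centralizer ((P : Subgroup A) : Set A))) (not_le.1 h5)
  omega

end Fam11

theorem spl_D3 : Spl D3 := by
  refine (spl_dihedral (a := (.sr 0 : D3)) (b := .sr 1) rfl rfl).congr
    ((MulEquiv.subgroupCongr (eq_top_iff.2 fun x _ => ?_)).trans Subgroup.topEquiv)
  have ha : (.sr 0 : D3) ∈ Subgroup.closure {.sr 0, .sr 1} := Subgroup.subset_closure (.inl rfl)
  have hb : (.sr 1 : D3) ∈ Subgroup.closure {.sr 0, .sr 1} := Subgroup.subset_closure (.inr rfl)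
  rcases (by decide : ∀ x : D3, x = 1 ∨ x = .sr 0 ∨ x = .sr 1 ∨ x = .sr 0 * .sr 1 ∨ x = .sr 1 * .sr 0 ∨
    x = .sr 0 * .sr 1 * .sr 0) x with rfl | rfl | rfl | rfl | rfl | rfl
  exacts [one_mem _, ha, hb, mul_mem ha hb, mul_mem hb ha, mul_mem (mul_mem ha hb) ha]

/-- the Sylow subgroup -/
def Rot : Subgroup (D3 × D3) where
  carrier := {x | x ^ 3 = 1}
  one_mem' := one_pow 3
  mul_mem' {a b} := by
    simp only [Set.mem_ofPred_eq]
    revert a b
    decide +kernel
  inv_mem' {a} h := by rw [Set.mem_ofPred_eq, inv_pow, show a ^ 3 = 1 from h, inv_one]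

theorem card_Rot : Nat.card Rot = 3 ^ 2 := by
  rw [show Nat.card Rot = Nat.card {x : D3 × D3 // x ^ 3 = 1} from rfl, Nat.card_eq_fintype_card]
  decide +kernel

theorem three_le_out {A : Type} [Group A] [Finite A] {N₀ : Subgroup A} [N₀.Normal] {P : Sylow 3 A}
    (h : ¬ (P : Subgroup A) ≤ N₀) : 3 ≤ out N₀ P := by
  have : Fact (Nat.Prime 3) := ⟨Nat.prime_three⟩
  have h1 := P.2.map (QuotientGroup.mk' N₀)
  have : Nontrivial ↥((P : Subgroup A).map (QuotientGroup.mk' N₀)) := (Subgroup.nontrivial_iff_ne_bot _).2 fun e =>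
    h (by rwa [Subgroup.map_eq_bot_iff, QuotientGroup.ker_mk'] at e)
  have := h1.isNilpotent
  obtain ⟨x, -, hx⟩ := SetLike.exists_of_lt
    (Group.IsSolvable.commutator_lt_top_of_nontrivial ↥((P : Subgroup A).map (QuotientGroup.mk' N₀)))
  simpa [out] using ClD.three_mul_le h1 le_top (Subgroup.mem_top x) hx

variable {p : ℕ} [Fact p.Prime] {k : Type} [Field k] [CharP k p] {Y : Type} [Group Y] {N : Type} [Fintype N]
  [DecidableEq N] {ρ : Y →* GL N k} {F : MulAut Y} {G : Subgroup Y} [IsAlgClosed k] {D : Datum p ρ F G} {w₀ : D.W}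

theorem rel_inv {u : D.W} {c c' : Lbl D} (h : Rel D u c c') : Rel D u c⁻¹ c'⁻¹ := fun v => by rw [map_inv, map_inv, h]

namespace AA

variable {Adm : Matrix D.R D.R ℤ → Prop} (C : AA D Adm w₀)

theorem s_ne_inv : C.s ≠ C.s⁻¹ := fun h => C.s_ne (by
  have h1 := C.s_cube
  rwa [pow_succ, pow_two, eq_inv_iff_mul_eq_one.1 h, one_mul] at h1)

/-- an element of `3`-power order which normalises the Sylow subgroup -/
theorem mem_of_norm {g : D.W} (hg : g ∈ CW D w₀) {j : ℕ} (h3 : g ^ 3 ^ j = 1)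
    (h : ∀ x ∈ Rot, g⁻¹ * C.δ x * g ∈ C.δ.range) : g ∈ C.δ.range := by
  have h1 : Rel D g C.s (mon (D.Wm g⁻¹)ᵀ C.s) := by
    simpa using Rel.symm (ClD.tr_mon (D.Wm g⁻¹) C.s : Rel D g⁻¹ _ C.s)
  generalize mon (D.Wm g⁻¹)ᵀ C.s = c at h1
  have h2 : ∀ x ∈ Rot, Rel D (C.δ x) c c := fun x hx => by
    have := (h1.symm.trans (C.mem_δ.1 (h x hx)).2).trans h1
    rwa [show g * (g⁻¹ * C.δ x * g * g⁻¹) = C.δ x by group] at this
  have h4 : g * g ∈ C.δ.range := C.mem_δ.2 ⟨mul_mem hg hg, by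
    rcases C.fixed c (fx_of_tc hg h1 C.s_fx) (ClD.cube_of_rel h1 C.s_cube) (h2 (.r 1, 1) rfl) (h2 (1, .r 1) rfl) with
      rfl | rfl | rfl
    · exact absurd (eq_of_chr D fun v => by rw [← h1, map_one, map_one]) C.s_ne
    · exact h1.trans h1
    · simpa using h1.trans (rel_inv h1)⟩
  obtain ⟨n, hn⟩ := exists_sqrt h3
  rw [← hn, ← (Commute.refl g).mul_pow]
  exact pow_mem h4 n

/-- the diagonal -/
def δ' : D3 × D3 →* ↥(CW D w₀) := C.δ.codRestrict _ fun x => (C.mem_δ.1 ⟨x, rfl⟩).1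

theorem δ'_inj : Function.Injective C.δ' := fun _ _ e => C.δ_inj (Subtype.ext_iff.1 e)

theorem card_rot : Nat.card (Rot.map C.δ') = 3 ^ 2 := by rw [Subgroup.card_map_of_injective C.δ'_inj, card_Rot]

include C in
theorem exists_card : ∃ m, ¬ 3 ∣ m ∧ Nat.card (CW D w₀) = 36 * m := by
  have : Fact (Nat.Prime 3) := ⟨Nat.prime_three⟩
  have h0 : Nat.card C.δ'.range = 36 := by
    rw [← Nat.card_congr (C.δ'.ofInjective C.δ'_inj).toEquiv, Nat.card_prod, DihedralGroup.nat_card]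
  refine ⟨_, fun h => ?_, by rw [← h0, C.δ'.range.card_mul_index]⟩
  obtain ⟨K, hK⟩ := Sylow.exists_subgroup_card_pow_prime 3 (Sylow.prime_pow_dvd_card_normalizer (by
    rw [← C.δ'.range.card_mul_index, h0]
    omega) C.card_rot)
  have h1 : K.map (Subgroup.subtype _) ≤ C.δ'.range := by
    rintro _ ⟨g, hg, rfl⟩
    obtain ⟨x, hx⟩ := C.mem_of_norm g.1.2 (j := 2 + 1) (by
      have h2 : (⟨g, hg⟩ : K) ^ 3 ^ (2 + 1) = 1 := hK ▸ pow_card_eq_one'
      exact congrArg (fun x : K => (x.1.1.1 : D.W)) h2) fun x hx => by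
        obtain ⟨y, -, e⟩ := (Subgroup.mem_normalizer_iff''.1 g.2 _).1 ⟨x, hx, rfl⟩
        exact ⟨y, Subtype.ext_iff.1 e⟩
    exact ⟨x, Subtype.ext hx⟩
  have h2 := Subgroup.card_dvd_of_le h1
  rw [Subgroup.card_map_of_injective (Subgroup.subtype_injective _), hK, h0] at h2
  omega

include C in
theorem inn : Lie.Inn D Adm w₀ where
  cen z hz h h3 := by
    obtain ⟨x, rfl⟩ := C.mem_of_norm hz (j := 1) h3 fun x _ =>
      ⟨x, by rw [mul_assoc, ← h (C.δ x) (C.δ' x).2, inv_mul_cancel_left]⟩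
    rw [(by decide +kernel : ∀ x : D3 × D3, (∀ y, x * y = y * x) → x = 1) x fun y => C.δ_inj (by
      rw [map_mul, map_mul]
      exact h _ (C.δ' y).2), map_one]
  sq := by
    rintro _ ⟨⟨v, A, h1, rfl⟩, h2, -⟩
    obtain ⟨⟨m, h3, h4⟩, h5⟩ := C.sq A h1
    obtain ⟨v', h6⟩ := h5 v
    have h7 : D.Wm v * A * (D.Wm v * A) = m • D.Wm (v * v') := by
      rw [mul_assoc, ← mul_assoc A, ← h6, mul_assoc, h4, D.Wm_mul, mul_smul_comm, mul_one, mul_smul_comm]
    refine ⟨v * v', Cl.mem_CW_iff.2 (smul_right_injective _ h3 ?_), fun u _ => ?_⟩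
    · beta_reduce
      rw [← smul_mul_assoc, ← mul_smul_comm, ← h7, mul_assoc, h2, ← mul_assoc, h2, mul_assoc]
    · rw [h7, mul_smul_comm, smul_mul_assoc, ← D.Wm_mul, ← D.Wm_mul, inv_mul_cancel_right]

variable {f : Fr D} [Fintype ↥(GF F G)] (hA : Api f) {S : Type} [Group S] [Finite S] {s : Sit D Adm S} (hc : s.Cop)
include C hA hc

theorem nab27 {A : Type} [Group A] [Finite A] {N₀ : Subgroup A} [N₀.Normal] {P : Sylow 3 A} (L : Loc2 f s w₀ A N₀ P) :
    27 ≤ nab P := by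
  have : Fact (Nat.Prime 3) := ⟨Nat.prime_three⟩
  obtain ⟨m, h1, h2⟩ := C.exists_card
  have h3 : IsPGroup 3 (Rot.map C.δ') := .of_card C.card_rot
  have h4 := (Rot.map C.δ').card_mul_index
  rw [C.card_rot, h2] at h4
  have h5 : nab (h3.toSylow (by omega)) = 9 := by
    show (commutator ↥(Rot.map C.δ')).index = 9
    rw [commutator_def, Subgroup.commutator_eq_bot_iff_le_centralizer.2 fun a _ b _ =>
      ClD.comm_of_le_nine h3 C.card_rot.le b a, Subgroup.index_bot, C.card_rot]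
    rfl
  by_cases hP : (P : Subgroup A) ≤ N₀
  · have h6 := L.nab_ge_in hA hP (h3.toSylow (by omega)) (Cl.fam3 hA hc (c := ![1, C.s, C.s⁻¹])
      (fun i => by
        fin_cases i
        exacts [fx_one _, C.s_fx, fx_inv C.s_fx])
      (fun i => by
        fin_cases i
        exacts [⟨0, one_pow _⟩, C.is3, ⟨1, (inv_pow _ _).trans (inv_eq_one.2 C.s_cube)⟩])
      (fun i j e => by
        have := C.s_ne
        have := C.s_ne_inv
        fin_cases i <;> fin_cases j <;> simp_all [eq_comm]))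
      fun i => ⟨C.δ.range, fun v hv => (C.mem_δ.1 hv).1, by
        rintro _ ⟨x, -, rfl⟩
        exact ⟨x, rfl⟩, ((spl_D3.prod spl_D3).congr (C.δ.ofInjective C.δ_inj)).1, fun u hu => ⟨1, s.tw_one, by
          rw [mul_one]
          fin_cases i
          exacts [fun v => (map_one _).trans (map_one _).symm, (C.mem_δ.1 hu).2, rel_inv (C.mem_δ.1 hu).2]⟩⟩
    simpa [h5] using h6
  · have h6 := L.nab_ge_out C.inn (h3.toSylow (by omega))
    have h7 := three_le_out hP
    rw [h5] at h6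
    omega

theorem fam (hC : Mc f w₀) {M : Ideal AlgInt} (hM : IsPModular 3 M) (hS : ¬ IsMulCommutative S) :
    Nonempty (Fam11 M S) := by
  classical
  obtain ⟨m, h1, h2⟩ := C.exists_card
  let St : IrrCharacter ↥(GF F G) := ⟨_, hA.st.1⟩
  have h3 : ∀ (b : Bool) i, classInner (cond b St (Tool.triv _)).1 (((36 : ℤ) : ℂ)⁻¹ • ZZ (C.R f) i) = 0 := fun b i => by
    rw [classInner_smul_right, ip_ZZ', Finset.sum_eq_zero fun k _ => ?_, mul_zero]
    cases b
    · exact mul_eq_zero_of_right _ ((ip_one _ _).trans (if_neg C.s_ne))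
    · exact mul_eq_zero_of_right _ ((ip_st _ _).trans (if_neg C.s_ne))
  have h4 : St ≠ Tool.triv _ := fun e => by
    obtain ⟨i⟩ := s.exists_root hS
    have h5 := ip_st (f := f) (D.cs.simple i) 1
    rw [show avg f ⊤ (sg D) 1 1 = fun _ => 1 from congrArg Subtype.val e, ip_one, if_pos rfl, if_pos rfl, sg_simple] at h5
    norm_num at h5
  obtain ⟨ψ, h5, h6, h7⟩ := ClD.exists_fam hc hA hC.card hM
    (Sum.elim (fun b => (cond b St (Tool.triv _)).1) fun i => ((36 : ℤ) : ℂ)⁻¹ • ZZ (C.R f) i)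
    (fun j j' => j' = j ∨ j' = sp j) (by
      rintro ((_ | _) | i)
      · exact ⟨_, Tool.mem_triv hM, 1, by simp⟩
      · refine ⟨St, (hC.can M hM St (fun c h => ?_) _ (mS_st w₀)).2 (by simpa using ClD.det_Wm w₀), 1, by simp⟩
        obtain rfl : c = 1 := by_contra fun h1 => h (by rw [ip_st, if_neg h1])
        exact ⟨0, one_pow _⟩
      · exact C.exists_mem hA hC hM h1 h2 i) (by
      rintro (b | i) (b' | i') hn
      · refine classInner_irr_ne (cond b St _).2 (cond b' St _).2 fun e => ?_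
        cases b <;> cases b'
        exacts [hn rfl, h4 (Subtype.ext e).symm, h4 (Subtype.ext e), hn rfl]
      · exact h3 b i'
      · rw [← classInner_conj_symm]
        exact (congrArg _ (h3 b' i)).trans (map_zero _)
      · rw [Sum.elim_inr, Sum.elim_inr, classInner_smul_left, classInner_smul_right, ip_ZZ_ZZ (C.ip_R hA),
          if_neg fun e => hn (congrArg _ e)]
        simp) fun α A h h' j => by
      obtain ⟨t, ht⟩ := C.Z_aut hA h h'
      rcases j with (_ | _) | i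
      · exact ⟨_, .inl rfl, fun _ => rfl⟩
      · exact ⟨_, .inl rfl, st_aut hA h⟩
      · exact ⟨.inr (sw t i), by cases t; exacts [.inl rfl, .inr rfl], fun g => congrArg (((36 : ℤ) : ℂ)⁻¹ • ·) (ht i g)⟩
  exact ⟨⟨ψ, h5, h6, h7⟩⟩

/-- **the rows** -/
theorem rowAt (hC : Mc f w₀) (hp : p ≠ 3) (hAd : AdmC D Adm w₀) (hR : RegC D w₀) (hS : ¬ IsMulCommutative S) :
    Cl.RowAt S where
  up M _ A _ _ N h1 := fun ⟨i⟩ P h2 => by
    have := h1.normal
    obtain ⟨L⟩ := exists_loc s hA hp hC.card hAd hR (.inr hc.idx) A N i P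
    have := C.nab27 hA hc L
    omega
  lo M hM A _ _ N h1 := fun ⟨i⟩ h2 _ _ => by
    have := h1.normal
    obtain ⟨E⟩ := C.fam hA hc hC hM hS
    rcases h2 with h2 | h2
    · exact Fam11.ten_le hM h2 (E.congr hM i)
    · exact le_trans (by norm_num) (twelve_le hM h1.cent h2 (E.congr hM i).p4)
  one _ hM := s.one hA hC hp hM hS

end AA

end Cfsg.Agent.KZ.Exc
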