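import Cfsg.Agent.KZ.Exc.F4Vec
import Cfsg.Agent.KZ.ClD.Fam
import Cfsg.Agent.KZ.Cl.Vec
import Cfsg.Agent.KZ.Lie.ApiC

/-!
# KZ, `F₄(q)` and `E₆ ^ (-ε) (q)`: the members of `G ^ F` (helper84)

`AA D Adm w₀` is the combinatorial input: a label `s` of order three whose stabiliser is `S₃ × S₃` or `S₃ × S₃ × S₃` (two
factors interchanged by `w₀ F`).  `AA.exists_mem` : nine members; `AA.Z_aut` : the action of the automorphisms.
-/

set_option autoImplicit false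
set_option linter.unusedSectionVars false

namespace Cfsg.Agent.KZ.Exc

open Cfsg Cfsg.Agent.DL Cfsg.Agent.DL.PP Cfsg.Agent.KZ.Lie Cfsg.Agent.Characters.Core Matrix
open Cfsg.Agent.KZ.Cl (tau cx se tc_iff' tau_mul tau_eq_iff leviOK_of avg_hom se_tc' conj_se is3_of_rel)
open Cfsg.Agent.KZ.G2 (mu mu_spec mu_eq)

/-- the symmetric group on three letters -/
abbrev D3 : Type := DihedralGroup 3

/-- the class of an element -/
def cl : D3 → Fin 3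
  | .r i => if i = 0 then 0 else 2
  | .sr _ => 1

/-- representatives of the classes -/
def rp : Fin 3 → D3 := ![1, .sr 0, .r 1]

/-- a subgroup of order two -/
def i2 : DihedralGroup 1 →* D3 := MonoidHom.mk' (fun a => match a with | .r _ => 1 | .sr _ => .sr 0) (by decide)

theorem cl_rp : ∀ k, cl (rp k) = k := by decide

theorem exists_conj : ∀ a : D3, ∃ x, rp (cl a) * x = x * a := by decide

theorem card_cl (k : Fin 3) : (Nat.card {a : D3 // cl a = k} : ℤ) = cs k := by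
  rw [Nat.card_eq_fintype_card]
  revert k
  decide

theorem card_conj (k l : Fin 3 × Fin 3) : (Nat.card {x : D3 × D3 // rp l.1 * x.1 = x.1 * rp k.1 ∧ rp l.2 * x.2 = x.2 * rp k.2} : ℤ) =
    if k = l then cz k.1 * cz k.2 else 0 := by
  rw [Nat.card_eq_fintype_card]
  revert k l
  decide +kernel

theorem sum_cl (a : Fin 3 → ℂ) : ∑ x : D3, a (cl x) = a 0 + 3 * a 1 + 2 * a 2 := by
  have h : ∀ k, (Nat.card {a : D3 // cl a = k} : ℂ) = (cs k : ℤ) := fun k => by exact_mod_cast card_cl k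
  rw [sum_fib cl a, Fin.sum_univ_three, h, h, h]
  simp [cs]

theorem sum_i2 (a : D3 → ℂ) : ∑ x, a (i2 x) = a 1 + a (.sr 0) := by
  rw [show (Finset.univ : Finset (DihedralGroup 1)) = {.r 0, .sr 0} by decide, Finset.sum_pair (by decide)]
  rfl

variable {p : ℕ} [Fact p.Prime] {k : Type} [Field k] [CharP k p] {Y : Type} [Group Y] {N : Type} [Fintype N]
  [DecidableEq N] {ρ : Y →* GL N k} {F : MulAut Y} {G : Subgroup Y} [IsAlgClosed k] {D : Datum p ρ F G} {w₀ : D.W}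

theorem fix_of_root {a : D.I → ℤ} (ha : D.Rt a) {μ : D.R → ℤ} : D.Wm (D.rf a) *ᵥ μ = μ ↔ D.wt a ⬝ᵥ μ = 0 := by
  rw [D.Wm_rf ha, sub_mulVec, one_mulVec, vecMulVec_mulVec, sub_eq_self, op_smul_eq_smul]
  refine ⟨fun h => ?_, fun h => by rw [h, zero_smul]⟩
  have h3 := congrArg (D.wt a ⬝ᵥ ·) h
  have h4 : D.wt a ⬝ᵥ D.cor a = 2 := (D.pair_cor ha a).trans (Nodes.Coroot.cpr_self _ _ ha)
  simp only [dotProduct_smul, h4, dotProduct_zero, smul_eq_mul] at h3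
  omega

theorem leviOK_tw {lam x : D.R → ℤ} {Q : ℤ} (hQ : Q ≠ 0) (h : (D.Wm w₀ * D.Mx) *ᵥ lam = Q • lam)
    (h' : ∀ v ∈ Wl D lam, x ᵥ* D.Wm v = x) {ξ : ℂˣ} (hx : Fx D w₀ (cx D x ξ)) {v v' : D.W} (hv : tau D w₀ v' = v)
    (hc : ∀ u ∈ Wl D lam, Commute u v') (hr : Rel D v (cx D x ξ) (cx D x ξ)) : LeviOK D lam (v * w₀) (cx D x ξ) where
  stab a ha h1 := by
    have h2 := (fix_of_root ha).2 h1
    have h3 : D.wt a ⬝ᵥ (D.Wm v'⁻¹ *ᵥ lam) = 0 := (fix_of_root ha).1 (by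
      rw [mulVec_mulVec, ← D.Wm_mul, (hc _ h2).inv_right.eq, D.Wm_mul, ← mulVec_mulVec, h2])
    have h4 := congrArg (· ⬝ᵥ (D.Wm v'⁻¹ *ᵥ lam)) (wt_gw (v * w₀) ha)
    simp only [smul_dotProduct, h3, smul_eq_mul, mul_zero] at h4
    rw [← dotProduct_mulVec, D.Wm_mul, mul_assoc, tau_eq_iff.1 hv, mulVec_mulVec, mul_assoc, ClD.Wm_mul_inv, mul_one, h,
      dotProduct_smul, smul_eq_mul] at h4
    exact (mul_eq_zero.1 h4).resolve_left hQ
  fx := hx.mul hr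
  cen := (leviOK_of hQ h h' hx).cen

theorem ip_zero {f : Fr D} [Fintype ↥(GF F G)] (hA : Api f) {w w' : D.W} {c c' : Lbl D}
    (h : ∀ v, Tc D v w w' → ¬ Rel D v c c') : classInner (RW f w c) (RW f w' c') = 0 := by
  by_cases h1 : Fx D w c
  · by_cases h2 : Fx D w' c'
    · have : IsEmpty {v // Tc D v w w' ∧ Rel D v c c'} := ⟨fun v => h v.1 v.2.1 v.2.2⟩
      rw [hA.ip _ _ _ _ h1 h2, Nat.card_of_isEmpty, Nat.cast_zero]
    · rw [hA.zero _ _ h2, classInner_zero_right]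
  · rw [hA.zero _ _ h1, classInner_zero_left]

theorem mS_of {f : Fr D} [Fintype ↥(GF F G)] (hA : Api f) {s : Lbl D} (h1 : Fx D w₀ s) (h2 : Is3 D s)
    {ψ : ↥(GF F G) → ℂ} {a : ℂ} (h : ∀ c, classInner ψ (RW f w₀ c) = a * classInner (RW f w₀ s) (RW f w₀ c)) :
    Lie.mS f w₀ ψ = a * Nat.card (CW D w₀) := by
  classical
  have := Fintype.ofFinite (CW D w₀)
  let o : CW D w₀ → Lbl D := fun v => mon (D.Wm (v : D.W)⁻¹)ᵀ s
  have ho : ∀ (v : CW D w₀) c, o v = c ↔ Rel D v s c := fun v c =>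
    ⟨fun e => by simpa using Rel.symm (e ▸ ClD.tr_mon (D.Wm (v : D.W)⁻¹) s : Rel D (v : D.W)⁻¹ c s),
      fun e => ClD.tr_unique (ClD.tr_mon _ s) e.symm⟩
  have h3 : ∀ c, (∑ᶠ _ : Is3 D c, classInner ψ (RW f w₀ c)) = a * (Finset.univ.filter fun v => o v = c).card := fun c => by
    by_cases h4 : ∃ v, o v = c
    · obtain ⟨v, hv⟩ := h4
      have h5 := (ho v c).1 hv
      rw [finsum_eq_if, if_pos (is3_of_rel h5 h2), h, hA.ip _ _ _ _ h1 (fx_of_tc v.2 h5 h1), ← Fintype.card_subtype,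
        ← Nat.card_eq_fintype_card]
      exact congrArg (fun n : ℕ => a * n) (Nat.card_congr ((Equiv.subtypeSubtypeEquivSubtypeInter _ _).symm.trans
        (Equiv.subtypeEquivRight fun v => (ho v c).symm)))
    · rw [h, ip_zero hA fun v h5 h6 => h4 ⟨⟨v, h5⟩, (ho _ c).2 h6⟩, Finset.filter_false_of_mem fun v _ e => h4 ⟨v, e⟩]
      simp
  rw [Lie.mS, finsum_congr h3, finsum_eq_sum_of_support_subset (s := Finset.univ.image o) _ fun c hc => by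
    by_contra hn
    refine hc ?_
    beta_reduce
    rw [Finset.filter_false_of_mem fun v _ e => hn (by simpa using ⟨v, v.2, e⟩)]
    simp, ← Finset.mul_sum, ← Nat.cast_sum, ← Finset.card_eq_sum_card_image, Finset.card_univ, Nat.card_eq_fintype_card]

variable (D w₀) in
/-- a Levi subgroup -/
def Lev (J : D3 × D3 × D3 →* D.W) (s : Lbl D) {Γ Δ : Type} [Group Γ] [Group Δ] (ι : Γ →* D3) (κ : Δ →* D3) : Prop :=
  ∃ (lam x : D.R → ℤ) (ξ : ℂˣ) (Q : ℤ), Q ≠ 0 ∧ (D.Wm w₀ * D.Mx) *ᵥ lam = Q • lam ∧ s = cx D x ξ ∧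
    (∀ v ∈ Wl D lam, x ᵥ* D.Wm v = x) ∧ ∀ v, v ∈ Wl D lam ↔ ∃ a b c, J (ι a, κ b, κ c) = v

/-- the interchange of the factors -/
def sw {α : Type} (t : Bool) (k : α × α) : α × α := if t then k.swap else k

variable (D) in
/-- The combinatorial input. -/
structure AA (Adm : Matrix D.R D.R ℤ → Prop) (w₀ : D.W) where
  J : D3 × D3 × D3 →* D.W
  s : Lbl D
  s_cube : s ^ 3 = 1
  s_ne : s ≠ 1
  s_fx : Fx D w₀ s
  stab : ∀ v, Rel D v s s ↔ ∃ u, J u = v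
  inj : ∀ a b c, J (a, b, c) = 1 → a = 1 ∧ b = 1
  tw : (∀ a b c, J (a, b, c) = J (a, b, 1) ∧ tau D w₀ (J (a, b, c)) = J (a, b, c)) ∨
    ∀ a b c, tau D w₀ (J (a, b, c)) = J (a, c, b)
  sgn : ∀ a b, sgZ D (J (a, b, 1)) = ch 2 (cl a) * ch 2 (cl b)
  fus : ∀ (k : Fin 3 × Fin 3) v, Tc D v (J (rp k.1, rp k.2, 1) * w₀) w₀ → k = 0
  l1 : Lev D w₀ J s (MonoidHom.id D3) (1 : Unit →* D3)
  l2 : Lev D w₀ J s (1 : Unit →* D3) (MonoidHom.id D3)
  l3 : Lev D w₀ J s i2 i2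
  fixed : ∀ c, Fx D w₀ c → c ^ 3 = 1 → Rel D (J (.r 1, 1, 1)) c c → Rel D (J (1, .r 1, .r 1)) c c → c = 1 ∨ c = s ∨ c = s⁻¹
  aut : ∀ A, Adm A → ∃ t, ∀ k : Fin 3 × Fin 3, ∃ v, Tr D (A * D.Wm v) s s ∧
    D.Wm (J (rp k.1, rp k.2, 1) * w₀) * D.Mx * (A * D.Wm v) =
      A * D.Wm v * (D.Wm (J (rp (sw t k).1, rp (sw t k).2, 1) * w₀) * D.Mx)
  sq : ∀ A, Adm A → (∃ m : ℤ, m ≠ 0 ∧ A * A = m • 1) ∧ ∀ w, ∃ w', D.Wm w' * A = A * D.Wm w

namespace AA

variable {Adm : Matrix D.R D.R ℤ → Prop} (C : AA D Adm w₀)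

theorem rel (u : D3 × D3 × D3) : Rel D (C.J u) C.s C.s := (C.stab _).2 ⟨u, rfl⟩

theorem fx (u : D3 × D3 × D3) : Fx D (C.J u * w₀) C.s := C.s_fx.mul (C.rel u)

theorem is3 : Is3 D C.s := ⟨1, C.s_cube⟩

theorem uniq {a b c a' b' c' : D3} (h : C.J (a, b, c) = C.J (a', b', c')) : a = a' ∧ b = b' := by
  have h1 := C.inj (a⁻¹ * a') (b⁻¹ * b') (c⁻¹ * c') (by
    rw [show (a⁻¹ * a', b⁻¹ * b', c⁻¹ * c') = (a, b, c)⁻¹ * (a', b', c') from rfl, map_mul, map_inv, h, inv_mul_cancel])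
  rwa [inv_mul_eq_one, inv_mul_eq_one] at h1

/-- the diagonal -/
def δ : D3 × D3 →* D.W := C.J.comp ((MonoidHom.id D3).prodMap ((MonoidHom.id D3).prod (MonoidHom.id D3)))

theorem δ_apply (x : D3 × D3) : C.δ x = C.J (x.1, x.2, x.2) := rfl

theorem δ_inj : Function.Injective C.δ := fun _ _ h => Prod.ext (C.uniq h).1 (C.uniq h).2

theorem tau_δ (x : D3 × D3) : tau D w₀ (C.δ x) = C.δ x := C.tw.elim (fun h => (h _ _ _).2) fun h => h _ _ _

theorem tc_iff {a b a' b' : D3} {v : D.W} : Tc D v (C.J (a, b, 1) * w₀) (C.J (a', b', 1) * w₀) ∧ Rel D v C.s C.s ↔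
    ∃ x, C.δ x = v ∧ a' * x.1 = x.1 * a ∧ b' * x.2 = x.2 * b := by
  rw [tc_iff', C.stab]
  constructor
  · rintro ⟨h1, ⟨x, y, z⟩, rfl⟩
    rcases C.tw with h | h
    · rw [(h _ _ _).2, ← map_mul, ← map_mul] at h1
      exact ⟨(x, y), (h _ _ _).1.trans (h _ _ _).1.symm, C.uniq h1⟩
    · rw [h, ← map_mul, ← map_mul] at h1
      have h2 := congrArg (tau D w₀) h1
      simp only [Prod.mk_mul_mk, h, one_mul, mul_one] at h2
      obtain rfl := (C.uniq h2).2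
      exact ⟨(x, y), rfl, C.uniq h1⟩
  · rintro ⟨x, rfl, h1, h2⟩
    refine ⟨?_, _, rfl⟩
    rw [C.tau_δ, δ_apply, ← map_mul, ← map_mul]
    simp only [Prod.mk_mul_mk, h1, h2, one_mul, mul_one]

theorem mem_δ {v : D.W} : v ∈ C.δ.range ↔ v ∈ CW D w₀ ∧ Rel D v C.s C.s := by
  have h := C.tc_iff (a := 1) (b := 1) (a' := 1) (b' := 1) (v := v)
  rw [show C.J (1, 1, 1) = 1 from map_one C.J, one_mul] at h
  exact ⟨fun ⟨x, e⟩ => h.2 ⟨x, e, by simp⟩, fun h1 => (h.1 h1).imp fun _ h2 => h2.1⟩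

theorem exists_tc : ∃ t : Bool, ∀ a b c, Tc D (C.J (1, (if t then c else 1), 1)) (C.J (a, b, c) * w₀)
    (C.J (a, (if t then c else 1) * b, 1) * w₀) := by
  rcases C.tw with h | h
  · refine ⟨false, fun a b c => ?_⟩
    rw [tc_iff', (h _ _ _).2, ← map_mul, ← map_mul]
    simpa using (h a b c).1.symm
  · refine ⟨true, fun a b c => ?_⟩
    rw [tc_iff', h, ← map_mul, ← map_mul]
    simp

variable (f : Fr D) [Fintype ↥(GF F G)]

/-- the nine characters -/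
noncomputable def R (k : Fin 3 × Fin 3) : ↥(GF F G) → ℂ := RW f (C.J (rp k.1, rp k.2, 1) * w₀) C.s

theorem RW_cl (a b : D3) : RW f (C.J (a, b, 1) * w₀) C.s = C.R f (cl a, cl b) := by
  obtain ⟨x, hx⟩ := exists_conj a
  obtain ⟨y, hy⟩ := exists_conj b
  obtain ⟨h1, h2⟩ := C.tc_iff.2 ⟨(x, y), rfl, hx, hy⟩
  exact RW_conj f h1 h2

variable {f} (hA : Api f)
include hA

theorem ip_R (k l : Fin 3 × Fin 3) :
    classInner (C.R f k) (C.R f l) = ((if k = l then cz k.1 * cz k.2 else 0 : ℤ) : ℂ) := by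
  rw [R, R, hA.ip _ _ _ _ (C.fx _) (C.fx _), ← card_conj, Int.cast_natCast]
  refine congrArg _ (Nat.card_congr (Equiv.ofBijective (fun x => ⟨C.δ x.1, C.tc_iff.2 ⟨x.1, rfl, x.2⟩⟩) ⟨?_, ?_⟩)).symm
  · exact fun _ _ e => Subtype.ext (C.δ_inj (Subtype.ext_iff.1 e))
  · intro v
    obtain ⟨x, e, h⟩ := C.tc_iff.1 v.2
    exact ⟨⟨x, h⟩, Subtype.ext e⟩

theorem lev_dvd {Γ Δ : Type} [Group Γ] [Group Δ] [Fintype Γ] [Fintype Δ] {ι : Γ →* D3} {κ : Δ →* D3}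
    (h : Lev D w₀ C.J C.s ι κ) {a₀ b₀ : D3} (ha : ∀ a, Commute (ι a) a₀) (hb : ∀ b, Commute (κ b) b₀) (e : Bool)
    (χ : IrrCharacter ↥(GF F G)) : ∃ n : ℤ, ∑ a, ∑ b, se e (C.J (ι a, κ b, 1)) * mu (C.R f (cl (ι a * a₀), cl (κ b * b₀))) χ =
      Nat.card Γ * Nat.card Δ * n := by
  obtain ⟨lam, x, ξ, Q, h1, h2, h3, h4, h5⟩ := h
  have h6 : LeviOK D lam (C.J (a₀, b₀, 1) * w₀) C.s := by
    have h7 := C.s_fx
    have h8 := C.rel (a₀, b₀, 1)
    rw [h3] at h7 h8 ⊢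
    rcases C.tw with h | h
    · refine leviOK_tw h1 h2 h4 h7 (h _ _ _).2 (fun u hu => ?_) h8
      obtain ⟨a, b, c, rfl⟩ := (h5 u).1 hu
      exact Commute.map (Commute.prod (ha a) (Commute.prod (hb b) (Commute.one_right _))) C.J
    · refine leviOK_tw h1 h2 h4 h7 (h _ _ _) (fun u hu => ?_) h8
      obtain ⟨a, b, c, rfl⟩ := (h5 u).1 hu
      exact Commute.map (Commute.prod (ha a) (Commute.prod (Commute.one_right _) (hb c))) C.J
  have h7 : IsGeneralizedCharacter _ (avg f (Wl D lam) (se e) (C.J (a₀, b₀, 1) * w₀) C.s) := by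
    cases e
    · exact hA.levi _ _ _ h6
    · exact hA.leviSt _ _ _ h6
  refine ⟨mu (avg f (Wl D lam) (se e) (C.J (a₀, b₀, 1) * w₀) C.s) χ, ?_⟩
  rw [← mu_spec h7 χ, ClD.ip_avg', avg_hom (C.J.comp (ι.prodMap (κ.prodMap κ))) (Subgroup.ext fun v =>
    ⟨fun ⟨y, e⟩ => (h5 v).2 ⟨y.1, y.2.1, y.2.2, e⟩, fun hv => let ⟨a, b, c, e⟩ := (h5 v).1 hv; ⟨(a, b, c), e⟩⟩)
    fun u => (starRingEnd ℂ) (se e u) * classInner χ.1 (RW f (u * (C.J (a₀, b₀, 1) * w₀)) C.s)]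
  obtain ⟨t, ht⟩ := C.exists_tc
  have h8 : ∀ a b c, (starRingEnd ℂ) (se e (C.J (ι a, κ b, κ c))) *
      classInner χ.1 (RW f (C.J (ι a, κ b, κ c) * (C.J (a₀, b₀, 1) * w₀)) C.s) =
      se e (C.J (ι a, κ ((if t then c else 1) * b), 1)) *
        mu (C.R f (cl (ι a * a₀), cl (κ ((if t then c else 1) * b) * b₀))) χ := fun a b c => by
    have h9 : κ (if t then c else 1) = if t then κ c else 1 := by split_ifs <;> simp
    rw [conj_se, ← se_tc' e (ht _ _ _), ← mul_assoc, ← map_mul C.J, Prod.mk_mul_mk, Prod.mk_mul_mk, mul_one,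
      RW_conj f (ht _ _ _) (C.rel _), C.RW_cl, mu_spec (φ := C.R f _) (hA.gen _ _), map_mul κ, h9, mul_assoc]
  have hΓ : (Nat.card Γ : ℂ) ≠ 0 := Nat.cast_ne_zero.2 Nat.card_pos.ne'
  have hΔ : (Nat.card Δ : ℂ) ≠ 0 := Nat.cast_ne_zero.2 Nat.card_pos.ne'
  rw [Fintype.sum_prod_type, Finset.sum_congr rfl fun a _ => ((Fintype.sum_prod_type_right _).trans
    (Finset.sum_congr rfl fun c _ => (Finset.sum_congr rfl fun b _ => h8 a b c).trans (Equiv.sum_comp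
      (Equiv.mulLeft (if t then c else 1)) fun b => se e (C.J (ι a, κ b, 1)) *
        (mu (C.R f (cl (ι a * a₀), cl (κ b * b₀))) χ : ℂ))))]
  simp only [Finset.sum_const, Finset.card_univ, nsmul_eq_mul, ← Nat.card_eq_fintype_card, ← Finset.mul_sum,
    Nat.card_prod, Nat.cast_mul]
  field_simp

theorem se_J (e : Bool) (a b : D3) :
    se e (C.J (a, b, 1)) = ((if e then ch 2 (cl a) * ch 2 (cl b) else 1 : ℤ) : ℂ) := by
  cases e
  · simp [se]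
  · exact congrArg Int.cast (C.sgn a b)

theorem exists_nine (i : Fin 3 × Fin 3) :
    ∃ (χ : IrrCharacter ↥(GF F G)) (ε : ℤˣ), χ.1 = ((ε : ℤ) : ℂ) • ((36 : ℤ) : ℂ)⁻¹ • ZZ (C.R f) i := by
  have h0 : cl 1 = 0 := rfl
  have h1 : ∀ (e : Bool) χ l, 6 ∣ mu (C.R f (0, l)) χ + (if e then -3 else 3) * mu (C.R f (1, l)) χ + 2 * mu (C.R f (2, l)) χ :=
    fun e χ l => by
      obtain ⟨n, h⟩ := C.lev_dvd hA C.l1 (a₀ := 1) (b₀ := rp l) (fun _ => Commute.one_right _)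
        (fun _ => Commute.one_left _) e χ
      simp only [Fintype.sum_unique, C.se_J hA, MonoidHom.id_apply, MonoidHom.one_apply, mul_one, one_mul, cl_rp, h0] at h
      rw [sum_cl fun k => ((if e then ch 2 k * ch 2 0 else 1 : ℤ) : ℂ) * mu (C.R f (k, l)) χ, DihedralGroup.nat_card] at h
      refine ⟨n, Int.cast_injective (α := ℂ) ?_⟩
      cases e <;> simp [ch] at h ⊢ <;> linear_combination h
  have h2 : ∀ (e : Bool) χ l, 6 ∣ mu (C.R f (l, 0)) χ + (if e then -3 else 3) * mu (C.R f (l, 1)) χ + 2 * mu (C.R f (l, 2)) χ :=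
    fun e χ l => by
      obtain ⟨n, h⟩ := C.lev_dvd hA C.l2 (a₀ := rp l) (b₀ := 1) (fun _ => Commute.one_left _)
        (fun _ => Commute.one_right _) e χ
      simp only [Fintype.sum_unique, C.se_J hA, MonoidHom.id_apply, MonoidHom.one_apply, mul_one, one_mul, cl_rp, h0] at h
      rw [sum_cl fun k => ((if e then ch 2 0 * ch 2 k else 1 : ℤ) : ℂ) * mu (C.R f (l, k)) χ, DihedralGroup.nat_card] at h
      refine ⟨n, Int.cast_injective (α := ℂ) ?_⟩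
      cases e <;> simp [ch] at h ⊢ <;> linear_combination h
  refine Exc.exists_nine (C.ip_R hA) (fun _ => hA.gen _ _) (h1 false) (fun χ l => by simpa [sub_eq_add_neg] using h1 true χ l)
    (h2 false) (fun χ l => by simpa [sub_eq_add_neg] using h2 true χ l) (fun χ => ?_) i
  obtain ⟨n, h⟩ := C.lev_dvd hA C.l3 (a₀ := 1) (b₀ := 1) (fun _ => Commute.one_right _) (fun _ => Commute.one_right _)
    false χ
  simp only [se, Bool.false_eq_true, if_false, mul_one, one_mul] at h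
  rw [Finset.sum_congr rfl fun a _ => sum_i2 fun b => (mu (C.R f (cl (i2 a), cl b)) χ : ℂ),
    sum_i2 fun a => (mu (C.R f (cl a, cl 1)) χ : ℂ) + mu (C.R f (cl a, cl (.sr 0))) χ, DihedralGroup.nat_card] at h
  refine ⟨n, Int.cast_injective (α := ℂ) ?_⟩
  rw [h0, show cl (.sr 0) = 1 from rfl] at h
  push_cast at h ⊢
  linear_combination h

theorem ip_Z (i : Fin 3 × Fin 3) (c : Lbl D) :
    classInner (ZZ (C.R f) i) (RW f w₀ c) = co i 0 * classInner (RW f w₀ C.s) (RW f w₀ c) := by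
  rw [ip_ZZ, Finset.sum_eq_single 0 (fun k _ hk => by
    rw [R, ip_zero hA fun v h _ => hk (C.fus k v h), mul_zero]) (by simp), R,
    show C.J (rp (0 : Fin 3 × Fin 3).1, rp (0 : Fin 3 × Fin 3).2, 1) = 1 from map_one C.J, one_mul]

/-- nine members -/
theorem exists_mem (hC : Mc f w₀) {M : Ideal AlgInt} (hM : IsPModular 3 M) {m : ℕ} (hm : ¬ 3 ∣ m)
    (h : Nat.card (CW D w₀) = 36 * m) (i : Fin 3 × Fin 3) : ∃ χ : IrrCharacter ↥(GF F G), Mem M χ ∧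
      ∃ ε : ℤˣ, χ.1 = ((ε : ℤ) : ℂ) • ((36 : ℤ) : ℂ)⁻¹ • ZZ (C.R f) i := by
  obtain ⟨χ, ε, e⟩ := C.exists_nine hA i
  have h1 : ∀ c, classInner χ.1 (RW f w₀ c) = ((ε : ℤ) : ℂ) * ((36 : ℤ) : ℂ)⁻¹ * co i 0 *
      classInner (RW f w₀ C.s) (RW f w₀ c) := fun c => by
    rw [e, classInner_smul_left, classInner_smul_left, C.ip_Z hA]
    ring
  refine ⟨χ, (hC.can M hM χ (fun c hc => ?_) (ε * (co i 0 * m)) ?_).2 fun h2 => ?_, ε, e⟩
  · by_contra hn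
    exact hc (by rw [h1, ip_zero hA fun v _ h => hn (is3_of_rel h C.is3), mul_zero])
  · rw [mS_of hA C.s_fx C.is3 h1, h]
    push_cast
    ring
  · rw [(Units.isUnit ε).dvd_mul_left] at h2
    exact (Int.prime_three.dvd_or_dvd h2).elim ((by decide : ∀ i, ¬ 3 ∣ co i 0) i) fun h3 => hm (by exact_mod_cast h3)

theorem Z_aut {α : MulAut Y} {A : Matrix D.R D.R ℤ} (h : Au D α A) (h' : Adm A) :
    ∃ t, ∀ i g, ZZ (C.R f) i (h.aut g) = ZZ (C.R f) (sw t i) g := by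
  obtain ⟨t, h1⟩ := C.aut A h'
  obtain ⟨⟨a, ha⟩, h2⟩ := hA.aut α A h
  have h3 : ∀ k g, C.R f k (h.aut g) = C.R f (sw t k) g := fun k g => by
    obtain ⟨v, h4, h5⟩ := h1 k
    obtain ⟨w, hw⟩ := a.surjective (C.J (rp k.1, rp k.2, 1) * w₀)
    have h6 := ha w
    rw [hw] at h6
    rw [R, (h2 w _ _ C.s h6 (ClD.tr_mon A C.s) (C.fx _)).2 g _ rfl]
    exact congrFun (RW_conj f (v := v) (Lie.tc_iff.2 (ApiC.cancel' h (by
      rw [← mul_assoc, ← h5, ← mul_assoc, h.wm_Mx h6, ← mul_assoc A _ (D.Wm v)])))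
      fun y => by rw [chr_tr, mulVec_mulVec, h4]).symm g
  refine ⟨t, fun i g => ?_⟩
  simp only [ZZ, Finset.sum_apply, Pi.smul_apply, h3]
  cases t
  · rfl
  · exact Fintype.sum_equiv (Equiv.prodComm _ _) _ _ fun k => by rw [co, co, mul_comm]; rfl

end AA

end Cfsg.Agent.KZ.Exc
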