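import Cfsg.Agent.KZ.Exc.EDefs
import Cfsg.Agent.KZ.DatX.Main
import Cfsg.Agent.KZ.Lie.Ext
import Cfsg.Agent.KZ.Lie.Loc

/-!
# KZ, the groups `E₆^ε`, `E₇`, `E₈` (scalar case): the boxes between the tasks (helper40)

Plan: `notes/KZ/exc.md`.  `Sca s w₀ Q` : the common setting; `In6`, `In7`, `In8` : the frames (labels, stabilisers, generalized
characters); `nu` : the irreducible characters of `S₃`.
-/

set_option autoImplicit false
set_option linter.unusedSectionVars false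

namespace Cfsg.Agent.KZ.Exc

open Cfsg Cfsg.Lie Matrix Cfsg.Agent.DL Cfsg.Agent.DL.PP Cfsg.Agent.KZ.Lie Cfsg.Agent.KZ.DatX Cfsg.Agent.KZ.Cl
  Cfsg.Agent.Characters.Core
open scoped ComplexConjugate

/-- the symmetric group -/
abbrev S3 : Type := Equiv.Perm (Fin 3)

theorem exists_om : ∃ x : ℂˣ, IsPrimitiveRoot x 3 :=
  ⟨_, (IsPrimitiveRoot.coe_units_iff (ζ := ((Complex.isPrimitiveRoot_exp 3 (by decide)).isUnit (by decide)).unit)).1
    (Complex.isPrimitiveRoot_exp 3 (by decide))⟩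

/-- a primitive cube root of unity -/
noncomputable def om : ℂˣ := exists_om.choose

theorem om_prim : IsPrimitiveRoot om 3 := exists_om.choose_spec

theorem om_zpow {a b : ℤ} : om ^ a = om ^ b ↔ 3 ∣ a - b := by
  rw [← mul_inv_eq_one, ← _root_.zpow_sub]
  exact om_prim.zpow_eq_one_iff_dvd _

/-- the irreducible characters `1`, `sgn`, `χ₂` of `S₃` -/
def nuZ (ν : Fin 3) (g : S3) : ℤ :=
  if ν = 0 then 1 else if ν = 1 then Equiv.Perm.sign g else (Finset.univ.filter fun i => g i = i).card - 1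

/-- the irreducible characters `1`, `sgn`, `χ₂` of `S₃` -/
noncomputable def nu (ν : Fin 3) (g : S3) : ℂ := nuZ ν g

theorem nu_class (ν : Fin 3) : IsClassFunction S3 (nu ν) := fun g h => by
  have : ∀ (ν : Fin 3) (g h : S3), nuZ ν (h * g * h⁻¹) = nuZ ν g := by decide +kernel
  rw [nu, nu, this]

theorem nu_one (ν : Fin 3) : nu ν 1 = ((![1, 1, 2] : Fin 3 → ℤ) ν : ℤ) := by
  have : ∀ ν : Fin 3, nuZ ν 1 = (![1, 1, 2] : Fin 3 → ℤ) ν := by decide +kernel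
  rw [nu, this]

theorem ip_nu (ν ν' : Fin 3) : classInner (nu ν) (nu ν') = if ν = ν' then 1 else 0 := by
  have h : ∀ ν ν' : Fin 3, ∑ g : S3, nuZ ν g * nuZ ν' g = if ν = ν' then 6 else 0 := by decide +kernel
  have h1 : ∑ g : S3, nu ν g * conj (nu ν' g) = ((∑ g : S3, nuZ ν g * nuZ ν' g : ℤ) : ℂ) := by simp [nu]
  rw [classInner, h1, h, Nat.card_eq_fintype_card, Fintype.card_perm, Fintype.card_fin]
  split_ifs <;> norm_num [Nat.factorial]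

/-- `ν ⊗ ν ⊗ ν` -/
noncomputable def nu3 (ν : Fin 3) (g : S3 × S3 × S3) : ℂ := nu ν g.1 * (nu ν g.2.1 * nu ν g.2.2)

theorem nu3_class (ν : Fin 3) : IsClassFunction _ (nu3 ν) := class_prod (nu_class ν) (class_prod (nu_class ν) (nu_class ν))

theorem ip_nu3 (ν ν' : Fin 3) : classInner (nu3 ν) (nu3 ν') = if ν = ν' then 1 else 0 := by
  refine (ip_prod (nu ν) (nu ν') (fun g : S3 × S3 => nu ν g.1 * nu ν g.2) fun g => nu ν' g.1 * nu ν' g.2).trans ?_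
  rw [ip_prod, ip_nu]
  split_ifs <;> simp

variable {p : ℕ} [Fact p.Prime] {k : Type} [Field k] [CharP k p] {Y : Type} [Group Y] {N : Type} [Fintype N]
  [DecidableEq N] {ρ : Y →* GL N k} {F : MulAut Y} {G : Subgroup Y} [IsAlgClosed k] {D : Datum p ρ F G}

/-- the common setting -/
structure Sca {Adm : Matrix D.R D.R ℤ → Prop} {S : Type} [Group S] (s : Sit D Adm S) (w₀ : D.W) (Q : ℤ) : Prop where
  sc : Sc D w₀ Q
  hp : p ≠ 3
  adm : ∀ A, Adm A → ∃ (a : ℤ) (u : D.W), ¬ 3 ∣ a ∧ A = a • D.Wm u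
  inj : Function.Injective s.π

variable (f : Fr D) [Fintype ↥(GF F G)] (w₀ : D.W)

/-- the frame of `E₇` -/
structure In7 [Fintype W6] [Fintype W7] where
  c : Lbl D
  Ψ : W6 →* D.W
  Ψ' : W7 →* D.W
  fm : Fm Ψ c
  fm' : Fm Ψ' 1
  cube : c ^ 3 = 1
  idx : (ClA.Wc c).index = 56
  neg : ∃ v, D.Wm v = -1
  gen : ∀ a, IsGeneralizedCharacter ↥(GF F G) (cg f w₀ Ψ c (ph6 a))
  gen' : ∀ a, IsGeneralizedCharacter ↥(GF F G) (cg f w₀ Ψ' 1 (ph7 a))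

/-- the frame of `E₈` -/
structure In8 [Fintype W6] where
  c : Lbl D
  Ψ : W6 × S3 →* D.W
  fm : Fm Ψ c
  cube : c ^ 3 = 1
  idx : (ClA.Wc c).index = 2240
  neg : ∃ v, D.Wm v = -1
  gen : ∀ (a : Fin 8 × Bool) (ν : Fin 3), a.1 ≠ 0 →
    IsGeneralizedCharacter ↥(GF F G) (cg f w₀ Ψ c fun g => ph6 a g.1 * nu ν g.2)
  gen0 : ∀ b : Bool, IsGeneralizedCharacter ↥(GF F G) (cg f w₀ Ψ c fun g => ph6 (0, b) g.1 * (nu 0 g.2 + nu 2 g.2)) ∧
    IsGeneralizedCharacter ↥(GF F G) (cg f w₀ Ψ c fun g => ph6 (0, b) g.1 * (nu 0 g.2 - nu 1 g.2)) ∧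
    IsGeneralizedCharacter ↥(GF F G) (cg f w₀ Ψ c fun g => ph6 (0, b) g.1 * (nu 0 g.2 + nu 1 g.2 - nu 2 g.2))

/-- the frame of `E₆^ε` -/
structure In6 [Fintype W6] where
  c : Lbl D
  cl : Lbl D
  Ψ : S3 × S3 × S3 →* D.W
  Ψ' : W6 →* D.W
  fm : Fm Ψ c
  fm' : Fm Ψ' 1
  cube : c ^ 3 = 1
  cl_cube : cl ^ 3 = 1
  cl_ne : cl ≠ 1
  cl_rel : ∀ u, Rel D u cl cl
  /-- the invariant labels -/
  cl_all : ∀ d : Lbl D, (∀ u, Rel D u d d) → d = 1 ∨ d = cl ∨ d = cl⁻¹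
  idx : (ClA.Wc c).index = 240
  rot : ∃ r, Rel D r c (c * cl) ∧ ∀ γ : S3 × S3 × S3, Ψ (γ.2.2, γ.1, γ.2.1) * r = r * Ψ γ
  inv : ∃ (v : D.W) (a : S3 × S3 × S3 ≃ S3 × S3 × S3), Rel D v c c⁻¹ ∧ (∀ γ, Ψ (a γ) * v = v * Ψ γ) ∧
    ∀ ν γ, nu3 ν (a γ) = nu3 ν γ
  gen' : ∀ a, IsGeneralizedCharacter ↥(GF F G) (cg f w₀ Ψ' 1 (ph6 a))
  gen : (∃ l : ↥(GF F G) →* ℂˣ, ∀ w d g, RW f w (d * cl) g = l g * RW f w d g) →
    ∀ ν, IsGeneralizedCharacter ↥(GF F G) (cg f w₀ Ψ c (nu3 ν))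
  deg : ∀ ν, ∃ n : ℤ, cg f w₀ Ψ c (nu3 ν) 1 = n ∧ 3 ∣ n ∧ ¬ 9 ∣ n

/-- the two facts on the simple group `E₆^ε(q)` -/
structure Gp6 {Adm : Matrix D.R D.R ℤ → Prop} {S : Type} [Group S] (s : Sit D Adm S) : Prop where
  idx : s.H1.index = 3
  cent : ∀ (P : Sylow 3 S), ∀ x ∈ Subgroup.centralizer ((P : Subgroup S) : Set S), ¬ 3 ∣ orderOf x → x = 1

theorem In6.tw [Fintype W6] {f : Fr D} {w₀ : D.W} (I : In6 f w₀) (hA : Api f) {Adm : Matrix D.R D.R ℤ → Prop} {S : Type}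
    [Group S] {s : Sit D Adm S} (h : s.H1.index = 3) : s.Tw f I.cl := by
  by_contra hn
  have h1 : s.H1 = ⊤ := eq_top_of_lin s.comm1 fun l hl => by
    obtain ⟨d, h1, h2, -, h3, -⟩ := s.exists_lbl hA (s.lin_iff.2 hl)
    rcases I.cl_all d h2 with rfl | rfl | rfl
    · exact eq_one_of_pow_one ((h3 1).2 (pow_one _))
    · exact absurd h1 hn
    · exact absurd (by simpa using h1.inv) hn
  rw [h1, Subgroup.index_top] at h
  omega

theorem In6.gen_of [Fintype W6] {f : Fr D} {w₀ : D.W} (I : In6 f w₀) (hA : Api f) {Adm : Matrix D.R D.R ℤ → Prop} {S : Type}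
    [Group S] {s : Sit D Adm S} (h : s.H1.index = 3) (ν : Fin 3) :
    IsGeneralizedCharacter ↥(GF F G) (cg f w₀ I.Ψ I.c (nu3 ν)) :=
  let ⟨l, _, h1⟩ := I.tw hA h
  I.gen ⟨l, h1⟩ ν

/-- `27 ≤ |P : P'|` for all almost simple groups with socle `S` -/
def Nab (S : Type) [Group S] : Prop :=
  ∀ (A : Type) [Group A] [Finite A] (N : Subgroup A), AS A N → Nonempty (↥N ≃* S) → ∀ P : Sylow 3 A, 27 ≤ nab P

/-- the lower bound for all almost simple groups with socle `S` -/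
def Lo (S : Type) [Group S] : Prop :=
  ∀ M, IsPModular 3 M → ∀ (A : Type) [Group A] [Finite A] (N : Subgroup A), AS A N → Nonempty (↥N ≃* S) →
    (¬ 3 ∣ N.index ∨ N.index = 3) → 10 ≤ k0 M A

theorem lo_of_p {S : Type} [Group S] [Finite S] (h : ∀ M, IsPModular 3 M → Res.P10 M S ∧ Res.P4 M S) : Lo S := by
  rintro M hM A _ _ N h1 ⟨e⟩ (h2 | h2) <;> have := h1.normal
  · exact Res.ten_le hM h2 (Res.p10_congr hM e (h M hM).1)
  · exact le_trans (by decide) (Res.twelve_le hM h1.cent h2 (Res.p4_congr hM e (h M hM).2))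

theorem rowAt_of {S : Type} [Group S] (h1 : Nab S) (h2 : Lo S) (h3 : ∀ M, IsPModular 3 M → One M S) : RowAt S where
  up _ _ A _ _ N hN e P h := absurd (h1 A N hN e P) (by omega)
  lo M hM A _ _ N hN e h _ _ := h2 M hM A N hN e h
  one := h3

end Cfsg.Agent.KZ.Exc
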