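import Cfsg.Agent.KZ.Exc.EDefs

/-!
# KZ, the groups `E₆^ε`, `E₇`, `E₈` (scalar case): the closest vector bounds (helper37)

`cvpA`, `cvpB`, `cvpC` : a reduced basis `U`, its orthogonalisation `V = T U`, and an enumeration in the kernel.
-/

set_option autoImplicit false

namespace Cfsg.Agent.KZ.Exc

open Finset

namespace Cvp

/-- evaluate first -/
def frcN (n : ℕ) (f : ℕ → Bool) : Bool :=
  match n with
  | 0 => f 0
  | k + 1 => f (k + 1)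

/-- evaluate first -/
def frc (x : ℤ) (f : ℤ → Bool) : Bool :=
  match x with
  | .ofNat n => frcN n fun n => f (.ofNat n)
  | .negSucc n => frcN n fun n => f (.negSucc n)

theorem frc_eq (x : ℤ) (f : ℤ → Bool) : frc x f = f x := by
  rcases x with n | n <;> cases n <;> rfl

/-- the enumeration -/
def chk (A : ℕ → ℕ → ℤ) (c : ℕ → ℤ) (ω : ℕ → ℕ) (b : ℤ) : ℕ → ℕ → (ℕ → ℤ) → ℤ → Bool
  | 0, _, _, s => decide (b < s)
  | m + 1, i, v, s => decide (b < s) || frc (c i + ∑ j ∈ range i, A i j * v j) fun z =>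
      decide (0 < A i i) && decide (b < s + ω i * (2 * A i i) ^ 2) && [-2, -1, 0, 1].all fun t : ℤ =>
        frc (t - z / A i i) fun k => frc (s + ω i * (z + A i i * k) ^ 2) fun s' =>
          chk A c ω b m (i + 1) (fun j => if j = i then k else v j) s'

theorem chk_sound {A : ℕ → ℕ → ℤ} {c : ℕ → ℤ} {ω : ℕ → ℕ} {b : ℤ} (u : ℕ → ℤ) (m : ℕ) : ∀ (i : ℕ) (v : ℕ → ℤ) (s : ℤ),
    chk A c ω b m i v s = true → (∀ j < i, u j = v j) →
      b < s + ∑ l ∈ range m, ω (i + l) * (c (i + l) + ∑ j ∈ range (i + l + 1), A (i + l) j * u j) ^ 2 := by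
  induction m with
  | zero => intro i v s h _; simpa [chk] using h
  | succ m ih =>
    intro i v s h hu
    have h0 : ∀ (m i : ℕ), 0 ≤ ∑ l ∈ range m, (ω (i + l) : ℤ) * (c (i + l) + ∑ j ∈ range (i + l + 1), A (i + l) j * u j) ^ 2 :=
      fun m i => sum_nonneg fun _ _ => by positivity
    simp only [chk, frc_eq, Bool.or_eq_true, Bool.and_eq_true, decide_eq_true_eq, List.all_eq_true] at h
    rcases h with h | ⟨⟨h1, h2⟩, h3⟩
    · have := h0 (m + 1) i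
      omega
    have e1 : ∑ j ∈ range i, A i j * v j = ∑ j ∈ range i, A i j * u j :=
      sum_congr rfl fun j hj => by rw [hu j (mem_range.1 hj)]
    rw [e1] at h3
    rw [sum_range_succ', add_zero, sum_range_succ, ← add_assoc (c i)]
    simp only [← add_assoc i, add_right_comm i _ 1]
    generalize c i + ∑ j ∈ range i, A i j * u j = z at h3 ⊢
    by_cases ht : u i + z / A i i ∈ ([-2, -1, 0, 1] : List ℤ)
    · have h4 := ih _ _ _ (h3 _ ht) fun j hj => by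
        split_ifs with e
        · rw [e, add_sub_cancel_right]
        · exact hu j (by omega)
      rw [add_sub_cancel_right] at h4
      linarith
    · have h4 := h0 m (i + 1)
      have h5 : (2 * A i i) ^ 2 ≤ (z + A i i * u i) ^ 2 := by
        have e2 : z + A i i * u i = z % A i i + A i i * (u i + z / A i i) := by
          rw [mul_add, Int.emod_def]
          ring
        have e3 := Int.emod_nonneg z h1.ne'
        have e4 := Int.emod_lt_of_pos z h1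
        rw [e2]
        simp only [List.mem_cons, List.not_mem_nil, or_false, not_or] at ht
        generalize u i + z / A i i = t at ht ⊢
        generalize z % A i i = r at e3 e4 ⊢
        rcases (by omega : 2 ≤ t ∨ t ≤ -3) with e | e
        · exact pow_le_pow_left₀ (by omega) (by nlinarith) 2
        · rw [← neg_sq (r + _)]
          exact pow_le_pow_left₀ (by omega) (by nlinarith) 2
      have h6 : (ω i : ℤ) * (2 * A i i) ^ 2 ≤ ω i * (z + A i i * u i) ^ 2 := mul_le_mul_of_nonneg_left h5 (by positivity)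
      linarith

/-- the certificate -/
def Ct {ι : Type} [Fintype ι] (Γ : ι → ι → ℤ) (n : ℕ) (U V W : ℕ → ι → ℤ) (T : ℕ → ℕ → ℤ) (ω : ℕ → ℕ) (N : ℤ) : Prop :=
  0 < N ∧ (∀ i < n, ∀ a, V i a = ∑ j ∈ range (i + 1), T i j * U j a) ∧ (∀ i < n, ∀ b, W i b = ∑ a, V i a * Γ a b) ∧
    ∀ i < n, ∀ j < n, ω i * ∑ b, W i b * V j b = if i = j then N else 0

theorem Ct.bd {ι : Type} [Fintype ι] {Γ : ι → ι → ℤ} {n : ℕ} {U V W : ℕ → ι → ℤ} {T : ℕ → ℕ → ℤ} {ω : ℕ → ℕ} {N : ℤ}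
    (h : Ct Γ n U V W T ω N) {r : ι → ℤ} {b : ℚ} {b' : ℤ} (hb : b * N ≤ b')
    (hc : chk (fun i j => 3 * T i j) (fun i => ∑ a, V i a * r a) ω b' n 0 (fun _ => 0) 0 = true) :
    Bd Γ (fun y => ∀ a, 3 ∣ y a - r a) b := by
  intro y hy
  obtain ⟨hN, h1, h2, h3⟩ := h
  choose x hx using hy
  have h4 := chk_sound (fun j => ∑ a, U j a * x a) n 0 _ _ hc fun j hj => absurd hj (by omega)
  let z : ℕ → ℤ := fun i => ∑ a, V i a * y a
  have h5 : b' < ∑ i ∈ range n, ω i * z i ^ 2 := by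
    refine h4.trans_eq ?_
    rw [zero_add]
    refine sum_congr rfl fun i hi => ?_
    rw [zero_add]
    congr 2
    have e1 : ∀ a, V i a * y a = V i a * r a + ∑ j ∈ range (i + 1), 3 * T i j * (U j a * x a) := fun a => by
      rw [show y a = r a + 3 * x a by rw [← hx]; ring, mul_add]
      congr 1
      rw [h1 i (mem_range.1 hi), sum_mul]
      exact sum_congr rfl fun j _ => by ring
    simp only [z, e1, sum_add_distrib, mul_sum]
    rw [sum_comm]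
  have hN' : (0 : ℚ) < N := by exact_mod_cast hN
  refine ⟨fun a => ∑ i ∈ range n, (z i * ω i / N : ℚ) * V i a, ?_⟩
  have e1 : ∑ a, (∑ i ∈ range n, (z i * ω i / N : ℚ) * V i a) * y a = ∑ i ∈ range n, (ω i * z i ^ 2 / N : ℚ) := by
    simp only [sum_mul]
    rw [sum_comm]
    refine sum_congr rfl fun i _ => ?_
    simp only [mul_assoc (_ / _ : ℚ), ← mul_sum]
    rw [show ∑ a, (V i a : ℚ) * y a = z i by simp only [z, Int.cast_sum, Int.cast_mul]]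
    ring
  have e2 : ∑ a, ∑ a', (∑ i ∈ range n, (z i * ω i / N : ℚ) * V i a) * (∑ i ∈ range n, (z i * ω i / N : ℚ) * V i a') * Γ a a' =
      ∑ i ∈ range n, (ω i * z i ^ 2 / N : ℚ) := by
    have e3 : ∀ a', ∑ a, (∑ i ∈ range n, (z i * ω i / N : ℚ) * V i a) * (∑ i ∈ range n, (z i * ω i / N : ℚ) * V i a') * Γ a a' =
        ∑ i ∈ range n, ∑ j ∈ range n, (z i * z j * ω j / N ^ 2 : ℚ) * (ω i * (W i a' * V j a')) := fun a' => by
      simp only [mul_right_comm _ (∑ i ∈ range n, (z i * ω i / N : ℚ) * V i a'), ← sum_mul]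
      simp only [sum_mul]
      rw [sum_comm]
      simp only [← sum_mul]
      rw [sum_mul]
      refine sum_congr rfl fun i hi => ?_
      simp only [mul_assoc (_ / _ : ℚ), ← mul_sum]
      rw [show ∑ a, (V i a : ℚ) * Γ a a' = W i a' by simp only [h2 i (mem_range.1 hi), Int.cast_sum, Int.cast_mul], mul_sum,
        mul_sum]
      exact sum_congr rfl fun j _ => by ring
    rw [sum_comm]
    simp only [e3]
    rw [sum_comm]
    refine sum_congr rfl fun i hi => ?_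
    rw [sum_comm]
    simp only [← mul_sum]
    have e4 : ∀ j ∈ range n, (z i * z j * ω j / N ^ 2 : ℚ) * (ω i * ∑ a, (W i a : ℚ) * V j a) =
        if i = j then (ω i * z i ^ 2 / N : ℚ) else 0 := fun j hj => by
      have e5 : (ω i * ∑ a, (W i a : ℚ) * V j a) = ((if i = j then N else 0 : ℤ) : ℚ) := by
        rw [← h3 i (mem_range.1 hi) j (mem_range.1 hj)]
        simp only [Int.cast_sum, Int.cast_mul, Int.cast_natCast]
      rw [e5]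
      split_ifs with e
      · subst e
        field_simp
      · simp
    rw [sum_congr rfl e4, sum_ite_eq, if_pos hi]
  rw [e1, e2, two_mul, add_sub_cancel_right, ← sum_div, lt_div_iff₀ hN']
  exact hb.trans_lt (by exact_mod_cast h5)

/-- a matrix given by a list -/
def mt (L : List (List ℤ)) (i j : ℕ) : ℤ := (L.getD i []).getD j 0

/-- a matrix given by a list -/
def mb {n : ℕ} (L : List (List ℤ)) (i : ℕ) (a : Fin n × Bool) : ℤ := mt L i (a.1 + if a.2 then n else 0)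

/-- data -/
def U6 : List (List ℤ) :=
  [[1, 0, 0, 0, 0, 0, 0, 0, 0, 0, 0, 0, 0, 0, 0, 0], [0, 0, 0, 0, 0, 0, 0, 0, 1, 0, 0, 0, 0, 0, 0, 0], [-1, 1, 0, 0, 0, 0, 0, 0, 0,
  0, 0, 0, 0, 0, 0, 0], [0, 0, 0, 0, 0, 0, 0, 0, -1, 1, 0, 0, 0, 0, 0, 0], [1, -1, -2, 1, 0, 0, 2, -1, -1, 1, 2, -1, 0, 0, -2, 1],
  [1, -2, 1, 1, 0, -1, 0, 0, 0, 0, 0, 0, 0, 0, 0, 0], [0, 0, 0, 0, 0, 0, 0, 0, 1, -2, 1, 1, 0, -1, 0, 0], [1, -2, 1, 0, 0, 0, 0,
  0, 0, 0, 0, 0, 0, 0, 0, 0], [0, 1, -2, 0, 0, 1, 0, 0, 0, 0, 0, 0, 0, 0, 0, 0], [0, 0, 0, 0, 0, 0, 0, 0, 0, 0, 0, -1, 0, 1, 0,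
  0], [0, 0, 0, 0, 0, 0, 0, 0, 1, -1, -1, 1, 0, 0, 0, 0], [4, -4, -4, 2, -1, 2, 3, -2, -4, 4, 4, -2, 1, -2, -3, 2], [2, -3, -3, 1,
  0, 2, 3, -2, -4, 4, 4, -2, 1, -2, -3, 2], [-4, 4, 4, -2, 1, -2, -3, 2, 2, -3, -3, 1, 0, 2, 3, -2], [0, -1, 3, 0, 0, -1, -2, 1,
  0, 0, 0, 0, 0, 0, 0, 0], [0, 1, -1, 0, 0, -1, 1, 0, 0, 0, 0, 0, 0, 0, 0, 0]]

/-- data -/
def T6 : List (List ℤ) :=
  [[1], [0, 1], [0, 0, 1], [0, 0, 0, 1], [0, 0, 0, 0, 1], [0, 0, 1, 0, -1, 2], [0, 0, -1, 6, 7, -2, 12], [0, 0, 17, 3, 21, -36, 6,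
  70], [0, 0, -34, -6, -42, 72, -12, 121, 261], [0, 0, 12, 92, -120, 42, 184, -9, 9, 382], [0, 0, -12, -92, 120, -42, -184, 9, -9,
  329, 711], [0, 0, -1, 1, 1, -1, 0, 0, -1, 0, 1, 2], [0, 0, 548, 388, -800, 1658, -264, -541, 1061, 99, 421, -1040, 2080], [0, 0,
  141, 363, 1110, -648, 166, 325, -45, -563, 843, 1443, -883, 2003], [0, 0, 57, 57, 111, -99, 86, -67, -30, -67, -30, 0, 28, 28,
  222], [0, 0, -6, -6, -69, 33, -16, -52, -9, 14, -9, -33, 37, -29, -6, 66]]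

/-- data -/
def V6 : List (List ℤ) :=
  [[1, 0, 0, 0, 0, 0, 0, 0, 0, 0, 0, 0, 0, 0, 0, 0], [0, 0, 0, 0, 0, 0, 0, 0, 1, 0, 0, 0, 0, 0, 0, 0], [-1, 1, 0, 0, 0, 0, 0, 0, 0,
  0, 0, 0, 0, 0, 0, 0], [0, 0, 0, 0, 0, 0, 0, 0, -1, 1, 0, 0, 0, 0, 0, 0], [1, -1, -2, 1, 0, 0, 2, -1, -1, 1, 2, -1, 0, 0, -2, 1],
  [0, -2, 4, 1, 0, -2, -2, 1, 1, -1, -2, 1, 0, 0, 2, -1], [6, -4, -16, 5, 0, 2, 14, -7, -1, -11, 26, 5, 0, -12, -14, 7], [38, -72,
  -8, -15, 0, 36, 42, -21, -18, 12, 48, -15, 0, -6, -42, 21], [185, -117, -245, 30, 0, 189, -84, 42, 36, -24, -96, 30, 0, 12, 84,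
  -42], [-99, 75, 255, -78, 0, -33, -240, 120, 212, -396, -56, -78, 0, 198, 240, -120], [99, -75, -255, 78, 0, 33, 240, -120, 499,
  -315, -655, 78, 0, 513, -240, 120], [9, -9, -9, 4, -2, 4, 8, -5, -9, 9, 9, -4, 2, -4, -8, 5], [-231, -1905, -1485, 858, 1040,
  1483, 1520, -1280, -3591, 3855, 1875, -1222, 1040, -1717, -1520, 1280], [-3360, 4521, 2436, -1541, 560, -2283, -2109, 1776,
  1302, -3471, -2226, 1345, 560, 2157, 2109, -1776], [-168, 54, 366, -16, 28, -153, -222, 111, -168, 54, 366, -16, 28, -153, -222,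
  111], [-24, 69, -42, -7, 4, -36, 39, -3, -24, 69, -42, -7, 4, -36, 39, -3]]

/-- data -/
def W6 : List (List ℤ) :=
  [[1, 1, 1, 1, 1, 1, 1, 1, 0, 0, 0, 0, 0, 0, 0, 0], [0, 0, 0, 0, 0, 0, 0, 0, 1, 1, 1, 1, 1, 1, 1, 1], [0, 2, 3, 5, -1, 5, 6, 9, 0,
  0, 0, 0, 0, 0, 0, 0], [0, 0, 0, 0, 0, 0, 0, 0, 0, 2, 3, 5, -1, 5, 6, 9], [0, 0, 0, 1, 1, 0, 1, 2, 0, 0, 0, -1, -1, 0, -1, -2],
  [0, 0, 3, 6, 0, 3, 7, 11, 0, 0, 0, 1, 1, 0, 1, 0], [0, 0, -3, 0, 6, -3, -1, -11, 0, 0, 18, 35, -1, 18, 41, 66], [0, 0, 261, 140,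
  38, 401, 787, 1237, 0, 0, 9, 0, -18, 9, 3, 33], [0, 0, 0, 764, 185, 764, 1036, 3007, 0, 0, -18, 0, 36, -18, -6, 195], [0, 0, 0,
  0, -99, 0, -96, 51, 0, 0, 1422, 764, 212, 2186, 4294, 6751], [0, 0, 0, 0, 99, 0, 96, 660, 0, 0, 0, 2080, 499, 2080, 2816, 8180],
  [0, 0, 0, 0, -3, 0, 0, 0, 0, 0, 0, 0, 3, 0, 0, 0], [0, 0, 0, 0, 6009, 0, -2304, -5700, 0, 0, 0, 0, 2649, 0, 1056, 1020], [0, 0,
  0, 0, 0, 0, 1995, 3402, 0, 0, 0, 0, 4662, 0, -2667, -5922], [0, 0, 0, 0, 0, 0, 72, 936, 0, 0, 0, 0, 0, 0, 72, 936], [0, 0, 0, 0,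
  0, 0, 279, 558, 0, 0, 0, 0, 0, 0, 279, 558]]

/-- data -/
def O6 : List ℕ :=
  [4347310377965274720, 4347310377965274720, 2173655188982637360, 2173655188982637360, 2173655188982637360, 362275864830439560,
  10350738995155416, 237948022877136, 21801520420680, 8003089774680, 2939596436469, 362275864830439560, 347820447051,
  465551177520, 24725352500030, 236087236774480]

/-- data -/
def N6 : ℤ := 4347310377965274720

/-- data -/
def U7 : List (List ℤ) :=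
  [[1, 0, 0, 0, 0, 0, 0, 0, 0, 0], [0, 0, 0, 0, 0, 1, 0, 0, 0, 0], [-1, 1, 0, 0, 0, 0, 0, 0, 0, 0], [-1, 0, 1, 0, 0, 0, 0, 0, 0, 0],
  [0, -1, 0, 1, 0, 0, 0, 0, 0, 0], [0, 0, -1, 0, 1, 0, 0, 0, 0, 0], [0, 0, 0, 0, 0, -1, 1, 0, 0, 0], [0, 0, 0, 0, 0, -1, 0, 1, 0,
  0], [0, 0, 0, 0, 0, 0, -1, 0, 1, 0], [0, 0, 0, 0, 0, 0, 0, -1, 0, 1]]

/-- data -/
def T7 : List (List ℤ) :=
  [[1], [0, 1], [0, 0, 1], [0, 0, 1, 3], [0, 0, 1, -1, 4], [0, 0, -1, 1, 1, 5], [0, 0, 0, 0, 0, 0, 1], [0, 0, 0, 0, 0, 0, 1, 3], [0,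
  0, 0, 0, 0, 0, 1, -1, 4], [0, 0, 0, 0, 0, 0, -1, 1, 1, 5]]

/-- data -/
def V7 : List (List ℤ) :=
  [[1, 0, 0, 0, 0, 0, 0, 0, 0, 0], [0, 0, 0, 0, 0, 1, 0, 0, 0, 0], [-1, 1, 0, 0, 0, 0, 0, 0, 0, 0], [-4, 1, 3, 0, 0, 0, 0, 0, 0, 0],
  [0, -3, -1, 4, 0, 0, 0, 0, 0, 0], [0, -2, -4, 1, 5, 0, 0, 0, 0, 0], [0, 0, 0, 0, 0, -1, 1, 0, 0, 0], [0, 0, 0, 0, 0, -4, 1, 3,
  0, 0], [0, 0, 0, 0, 0, 0, -3, -1, 4, 0], [0, 0, 0, 0, 0, 0, -2, -4, 1, 5]]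

/-- data -/
def W7 : List (List ℤ) :=
  [[1, 1, 1, 1, 1, 0, 0, 0, 0, 0], [0, 0, 0, 0, 0, 1, 1, 1, 1, 1], [0, 3, -1, 2, 0, 0, 0, 0, 0, 0], [0, 0, 8, 2, 6, 0, 0, 0, 0, 0],
  [0, 0, 0, 10, -2, 0, 0, 0, 0, 0], [0, 0, 0, 0, 12, 0, 0, 0, 0, 0], [0, 0, 0, 0, 0, 0, 3, -1, 2, 0], [0, 0, 0, 0, 0, 0, 0, 8, 2,
  6], [0, 0, 0, 0, 0, 0, 0, 0, 10, -2], [0, 0, 0, 0, 0, 0, 0, 0, 0, 12]]

/-- data -/
def O7 : List ℕ :=
  [120, 120, 40, 5, 3, 2, 40, 5, 3, 2]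

/-- data -/
def N7 : ℤ := 120

theorem ct6 : Ct G6 16 (mb U6) (mb V6) (mb W6) (mt T6) (O6.getD · 0) N6 := by
  unfold Ct
  decide +kernel

theorem ct7 : Ct G7 10 (mb U7) (mb V7) (mb W7) (mt T7) (O7.getD · 0) N7 := by
  unfold Ct
  decide +kernel

/-- the residues -/
def r6 (s t : Fin 3) (a : Fin 8 × Bool) : ℤ := if a.1 = 0 then if a.2 then t else s else 0

theorem res6 (y : Fin 8 × Bool → ℤ) (h : CA y) : ∃ s t : Fin 3, s ≠ 0 ∧ ∀ a, 3 ∣ y a - r6 s t a := by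
  have h0 : ∀ z : ℤ, ∃ s : Fin 3, 3 ∣ z - s := fun z => ⟨⟨(z % 3).toNat, by omega⟩, by simp only; omega⟩
  obtain ⟨s, hs⟩ := h0 (y (0, false))
  obtain ⟨t, ht⟩ := h0 (y (0, true))
  refine ⟨s, t, ?_, fun ⟨i, b⟩ => ?_⟩
  · rintro rfl
    exact h.1 (by simpa using hs)
  · by_cases hi : i = 0
    · subst hi
      cases b
      · exact hs
      · exact ht
    · simpa [r6, hi] using h.2 (i, b) hi

theorem chkA : ∀ s t : Fin 3, s ≠ 0 → chk (fun i j => 3 * mt T6 i j) (fun i => ∑ a, mb V6 i a * r6 s t a) (O6.getD · 0) (3 * N6)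
    16 0 (fun _ => 0) 0 = true := by
  decide +kernel

theorem chkB : ∀ s : Fin 3, s ≠ 0 → chk (fun i j => 3 * mt T6 i j) (fun i => ∑ a, mb V6 i a * r6 s s a) (O6.getD · 0)
    (17 * (N6 / 4)) 16 0 (fun _ => 0) 0 = true := by
  decide +kernel

theorem chkC : chk (fun i j => 3 * mt T7 i j) (fun i => ∑ a : Fin 5 × Bool, mb V7 i a * d7 a.1) (O7.getD · 0) 570
    10 0 (fun _ => 0) 0 = true := by
  decide +kernel

end Cvp

open Cvp

theorem cvpA : CvpA := fun y hy =>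
  let ⟨s, t, h1, h2⟩ := res6 y hy
  ct6.bd (by norm_num) (chkA s t h1) y h2

theorem cvpB : CvpB := fun y hy => by
  obtain ⟨s, t, h1, h2⟩ := res6 y hy.1
  have h3 : s = t := by
    have e1 : 3 ∣ y (0, false) - s := h2 (0, false)
    have e2 : 3 ∣ y (0, true) - t := h2 (0, true)
    have e3 := hy.2
    omega
  subst h3
  exact ct6.bd (by norm_num [N6]) (chkB s h1) y h2

theorem cvpC : CvpC := ct7.bd (by norm_num [N7]) chkC

end Cfsg.Agent.KZ.Exc
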