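import Cfsg.Agent.KZ.ClA.Sv
import Cfsg.Agent.KZ.DatX.Weyl

/-!
# KZ, the groups `E₆^ε`, `E₇`, `E₈` (scalar case): the interface (helper40)

Plan: `notes/KZ/exc.md`.

* `Bd Γ C b` : a lower bound for the projection on a family with Gram matrix `Γ`; boxes `CvpA`, `CvpB`, `CvpC`;
* `Phi U n` : the class function induced from the coset `U n`;
* `wm hp w` : the matrix of an element of the Weyl group, `St hp y` the stabiliser of a cocharacter, `sgn hp`;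
* `ph hp lam n` : the family of the types `(lam i, n i)` and their duals, boxes `Gram6`, `Gram7`;
* `Fm Ψ c` : `Ψ` is an isomorphism onto the stabiliser of the label `c`, `cg f w₀ Ψ c φ` : the almost character.
-/

set_option autoImplicit false
set_option linter.unusedSectionVars false

namespace Cfsg.Agent.KZ.Exc

open CoxeterSystem Cfsg Cfsg.Lie Cfsg.Lie.ChevalleyDatum Matrix
open Cfsg.Agent.ChevalleyStructure Cfsg.Agent.ChevalleyStructure.CoxeterGeom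
  Cfsg.Agent.ChevalleyStructure.CoxeterGeomTypes
open Cfsg.Agent.Tits.Roots Cfsg.Agent.Nodes Cfsg.Agent.Nodes.RGDChev Cfsg.Agent.DL Cfsg.Agent.DL.PP
open Cfsg.Agent.KZ.Lie Cfsg.Agent.KZ.DatX Cfsg.Agent.KZ.Cl Cfsg.Agent.Characters.Core
open scoped ComplexConjugate

/-! ### closest vectors -/

/-- If the inner products `y` of a vector with a family of Gram matrix `Γ` satisfy `C`, then its norm is larger than `b`. -/
def Bd {ι : Type} [Fintype ι] (Γ : ι → ι → ℤ) (C : (ι → ℤ) → Prop) (b : ℚ) : Prop :=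
  ∀ y : ι → ℤ, C y → ∃ t : ι → ℚ, b < 2 * ∑ i, t i * y i - ∑ i, ∑ j, t i * t j * Γ i j

/-- the Gram matrix of the types of `W(E₆)` -/
def p6 : Fin 8 → Fin 8 → ℤ := ![![1, 1, 1, 1, 1, 1, 1, 1], ![1, 3, 4, 6, 0, 6, 7, 10], ![1, 4, 10, 12, 0, 15, 23, 35],
  ![1, 6, 12, 21, 0, 21, 30, 51], ![1, 0, 0, 0, 6, 0, 0, 0], ![1, 6, 15, 21, 0, 26, 39, 65],
  ![1, 7, 23, 30, 0, 39, 68, 115], ![1, 10, 35, 51, 0, 65, 115, 209]]

/-- the inner products with the duals -/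
def m6 : Fin 8 → Fin 8 → ℤ := ![![0, 0, 0, 0, 0, 0, 0, 0], ![0, 0, 0, 0, 0, 0, 0, 0], ![0, 0, 0, 0, 0, 0, 0, 0],
  ![0, 0, 0, 0, 0, 0, 0, 0], ![0, 0, 0, 0, 0, 0, 0, 0], ![0, 0, 0, 0, 0, 0, 0, 1], ![0, 0, 0, 0, 0, 0, 3, 8],
  ![0, 0, 0, 0, 0, 1, 8, 25]]

/-- the Gram matrix of the types of `W(E₇)` -/
def p7 : Fin 5 → Fin 5 → ℤ := ![![1, 1, 1, 1, 1], ![1, 4, 0, 3, 1], ![1, 0, 4, 1, 3], ![1, 3, 1, 5, 1], ![1, 1, 3, 1, 5]]

/-- types and duals -/
def dbl {ι : Type} (P M : ι → ι → ℤ) (a b : ι × Bool) : ℤ := if a.2 = b.2 then P a.1 b.1 else M a.1 b.1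

/-- the Gram matrix for `W(E₆)` -/
def G6 : Fin 8 × Bool → Fin 8 × Bool → ℤ := dbl p6 m6

/-- the Gram matrix for `W(E₇)` -/
def G7 : Fin 5 × Bool → Fin 5 × Bool → ℤ := dbl p7 fun _ _ => 0

/-- the values at `1` -/
def d6 : Fin 8 → ℤ := ![1, 27, 216, 270, 0, 432, 1080, 2160]

/-- the values at `1` -/
def d7 : Fin 5 → ℤ := ![1, 56, 0, 126, 0]

/-- condition A -/
def CA (y : Fin 8 × Bool → ℤ) : Prop := ¬ 3 ∣ y (0, false) ∧ ∀ a, a.1 ≠ 0 → 3 ∣ y a

/-- condition B -/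
def CB (y : Fin 8 × Bool → ℤ) : Prop := CA y ∧ 3 ∣ y (0, true) - y (0, false)

/-- condition C -/
def CC (y : Fin 5 × Bool → ℤ) : Prop := ∀ a, 3 ∣ y a - d7 a.1

/-- box (the minimum is `4.129..`) -/
def CvpA : Prop := Bd G6 CA 3

/-- box (the minimum is `4.516..`) -/
def CvpB : Prop := Bd G6 CB (17 / 4)

/-- box (the minimum is `4.833..`) -/
def CvpC : Prop := Bd G7 CC (19 / 4)

/-! ### functions induced from cosets -/

section Phi

variable {Γ Γ' : Type} [Group Γ] [Group Γ']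

/-- the class function induced from the coset `U n` -/
noncomputable def Phi (U : Subgroup Γ) (n g : Γ) : ℂ := (Nat.card {v : Γ // v⁻¹ * g * v * n⁻¹ ∈ U} : ℂ) / Nat.card U

theorem Phi_class (U : Subgroup Γ) (n : Γ) : IsClassFunction Γ (Phi U n) := fun g h => by
  unfold Phi
  congr 2
  exact Nat.card_congr ⟨fun v => ⟨h⁻¹ * v.1, by simpa [mul_assoc] using v.2⟩, fun v => ⟨h * v.1, by
    simpa [mul_assoc] using v.2⟩, fun v => by simp, fun v => by simp⟩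

theorem conj_Phi (U : Subgroup Γ) (n g : Γ) : conj (Phi U n g) = Phi U n g := by simp [Phi]

theorem Phi_top [Finite Γ] (n g : Γ) : Phi ⊤ n g = 1 := by
  rw [Phi, Subgroup.card_top, Nat.card_congr (Equiv.subtypeUnivEquiv fun _ => Subgroup.mem_top _),
    div_self (Nat.cast_ne_zero.2 Nat.card_pos.ne')]

theorem Phi_prod (U : Subgroup Γ) (U' : Subgroup Γ') (n g : Γ) (n' g' : Γ') :
    Phi (U.prod U') (n, n') (g, g') = Phi U n g * Phi U' n' g' := by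
  rw [Phi, Phi, Phi, div_mul_div_comm, ← Nat.cast_mul, ← Nat.cast_mul, ← Nat.card_prod, ← Nat.card_prod,
    Nat.card_congr (U.prodEquiv U').toEquiv]
  congr 2
  exact Nat.card_congr ⟨fun v => (⟨v.1.1, v.2.1⟩, ⟨v.1.2, v.2.2⟩), fun v => ⟨(v.1.1, v.2.1), v.1.2, v.2.2⟩, fun _ => rfl,
    fun _ => rfl⟩

/-- averages against an induced function -/
theorem avg_Phi [Fintype Γ] {V : Type} [AddCommGroup V] [Module ℂ V] (U : Subgroup Γ) [Fintype U] (n : Γ) {r : Γ → V}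
    (hr : ∀ g v, r (v * g * v⁻¹) = r g) :
    (Nat.card Γ : ℂ)⁻¹ • ∑ g, Phi U n g • r g = (Nat.card U : ℂ)⁻¹ • ∑ u : U, r (u * n) := by
  classical
  have h1 : ∀ g, Phi U n g • r g = (Nat.card U : ℂ)⁻¹ • ∑ v, if v⁻¹ * g * v * n⁻¹ ∈ U then r g else 0 := fun g => by
    rw [Phi, div_eq_inv_mul, mul_smul, Nat.card_eq_fintype_card (α := {v : Γ // v⁻¹ * g * v * n⁻¹ ∈ U}),
      Fintype.card_subtype, ← Finset.sum_filter, Finset.sum_const, Nat.cast_smul_eq_nsmul]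
  have h2 : ∀ v : Γ, (∑ g, if v⁻¹ * g * v * n⁻¹ ∈ U then r g else 0) = ∑ u : U, r (u * n) := fun v => by
    rw [← Finset.sum_filter, Finset.sum_subtype (p := fun g => v⁻¹ * g * v * n⁻¹ ∈ U) _ (by simp)]
    let e : {g : Γ // v⁻¹ * g * v * n⁻¹ ∈ U} ≃ U :=
      { toFun := fun g => ⟨_, g.2⟩
        invFun := fun u => ⟨v * (u * n) * v⁻¹, by simp [mul_assoc]⟩
        left_inv := fun g => Subtype.ext (by simp [mul_assoc])
        right_inv := fun u => Subtype.ext (by simp [mul_assoc]) }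
    refine Fintype.sum_equiv e _ _ fun g => ?_
    rw [← hr _ v⁻¹]
    simp [e]
  simp only [h1]
  rw [← Finset.smul_sum, Finset.sum_comm, smul_comm]
  simp only [h2]
  rw [Finset.sum_const, Finset.card_univ, ← Nat.card_eq_fintype_card, ← Nat.cast_smul_eq_nsmul ℂ,
    inv_smul_smul₀ (Nat.cast_ne_zero.2 Nat.card_pos.ne')]

theorem ip_prod [Fintype Γ] [Fintype Γ'] (φ ψ : Γ → ℂ) (φ' ψ' : Γ' → ℂ) :
    classInner (fun g : Γ × Γ' => φ g.1 * φ' g.2) (fun g => ψ g.1 * ψ' g.2) = classInner φ ψ * classInner φ' ψ' := by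
  simp only [classInner, Nat.card_prod, Fintype.sum_prod_type, map_mul, Nat.cast_mul, _root_.mul_inv_rev]
  rw [mul_mul_mul_comm, Finset.sum_mul_sum, mul_comm ((Nat.card Γ' : ℂ)⁻¹)]
  congr 1
  exact Finset.sum_congr rfl fun _ _ => Finset.sum_congr rfl fun _ _ => by ring

theorem class_prod {φ : Γ → ℂ} {φ' : Γ' → ℂ} (h : IsClassFunction Γ φ) (h' : IsClassFunction Γ' φ') :
    IsClassFunction (Γ × Γ') fun g => φ g.1 * φ' g.2 := fun g v => by
  show φ (v.1 * g.1 * v.1⁻¹) * φ' (v.2 * g.2 * v.2⁻¹) = _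
  rw [h, h']

end Phi

/-! ### the Weyl groups -/

section Weyl

variable {C : ChevalleyDatum} {l : ℕ} {M : CoxeterMatrix (Fin l)} (hp : IsType C l M)

/-- a word -/
abbrev wd (M : CoxeterMatrix (Fin l)) (L : List (Fin l)) : M.Group := M.toCoxeterSystem.wordProd L

/-- the matrix of an element of the Weyl group on the cocharacters -/
def wm : M.Group →* Matrix (Fin l) (Fin l) ℤ where
  toFun w := Matrix.of fun i j => rep M.toCoxeterSystem hp.isCartan w⁻¹ (sr i) j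
  map_one' := by
    ext i j
    simp [sr, Pi.single_apply, Matrix.one_apply, eq_comm]
  map_mul' v w := by
    ext i j
    rw [Matrix.of_apply, _root_.mul_inv_rev, rep_mul_apply, Matrix.mul_apply]
    conv_lhs => rw [pi_eq_sum_univ' (rep M.toCoxeterSystem hp.isCartan v⁻¹ (sr i)), map_sum]
    simp only [map_smul, Finset.sum_apply, Pi.smul_apply, smul_eq_mul, Matrix.of_apply]
    rfl

theorem vecMul_wm (w : M.Group) (a : Fin l → ℤ) : a ᵥ* wm hp w = rep M.toCoxeterSystem hp.isCartan w⁻¹ a := by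
  funext j
  conv_rhs => rw [pi_eq_sum_univ' a, map_sum]
  simp only [map_smul, Finset.sum_apply, Pi.smul_apply, smul_eq_mul]
  rfl

theorem Wm_eq {p : ℕ} [Fact p.Prime] {k : Type} [Field k] [CharP k p] [IsAlgClosed k] {Mx : Matrix (Fin l) (Fin l) ℤ}
    (X : XF hp p k Mx) (w : M.Group) : X.D.Wm w = wm hp w := by
  have h0 : ∀ (B : Matrix (Fin l) (Fin l) ℤ) (i j : Fin l), (sr i ᵥ* B) j = B i j := fun B i j => by
    simp only [sr, single_vecMul, one_smul, Matrix.row]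
  ext i j
  exact (h0 _ i j).symm.trans ((congrFun ((X.D.wt_act' w (sr i)).symm.trans (vecMul_wm hp w (sr i)).symm) j).trans (h0 _ i j))

theorem wm_inj : Function.Injective (wm hp) := fun v w h => by
  refine inv_injective (rep_injective M.toCoxeterSystem hp.isCartan (LinearMap.ext fun a => ?_))
  rw [← vecMul_wm hp, ← vecMul_wm hp, h]

theorem wm_simple (i : Fin l) : wm hp (M.toCoxeterSystem.simple i) = sM C l i := by
  ext a b
  show rep M.toCoxeterSystem hp.isCartan (M.toCoxeterSystem.simple i)⁻¹ (sr a) b = _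
  rw [inv_simple, rep, lift_apply_simple, sr, refl_single]
  simp only [sM, Matrix.of_apply, Pi.sub_apply, Pi.single_apply, mul_one, eq_comm]

theorem wm_wd (L : List (Fin l)) : wm hp (wd M L) = (L.map (sM C l)).prod := by
  induction L with
  | nil => rw [wd, wordProd_nil, map_one]; rfl
  | cons i L ih => rw [wd, wordProd_cons, map_mul, wm_simple, List.map_cons, List.prod_cons, ← ih]

/-- the stabiliser of a cocharacter -/
def St (y : Fin l → ℤ) : Subgroup M.Group where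
  carrier := {u | wm hp u *ᵥ y = y}
  one_mem' := by
    show wm hp 1 *ᵥ y = y
    rw [map_one, one_mulVec]
  mul_mem' {a b} ha hb := by
    have ha' : wm hp a *ᵥ y = y := ha
    have hb' : wm hp b *ᵥ y = y := hb
    show wm hp (a * b) *ᵥ y = y
    rw [map_mul, ← mulVec_mulVec, hb', ha']
  inv_mem' {a} ha := by
    have ha' : wm hp a *ᵥ y = y := ha
    show wm hp a⁻¹ *ᵥ y = y
    conv_lhs => rw [← ha', mulVec_mulVec, ← map_mul, inv_mul_cancel, map_one, one_mulVec]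

theorem mem_St {y : Fin l → ℤ} {u : M.Group} : u ∈ St hp y ↔ wm hp u *ᵥ y = y := Iff.rfl

/-- the sign -/
noncomputable def sgn (w : M.Group) : ℂ := ((wm hp w).det : ℂ)

theorem sgn_mul (v w : M.Group) : sgn hp (v * w) = sgn hp v * sgn hp w := by simp [sgn]

theorem sgn_one : sgn hp 1 = 1 := by simp [sgn]

theorem sgn_class : IsClassFunction M.Group (sgn hp) := fun g h => by
  rw [sgn_mul, sgn_mul, mul_right_comm, ← sgn_mul, mul_inv_cancel, sgn_one, one_mul]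

/-- the functions of the types `(lam i, n i)` and their duals -/
noncomputable def ph {ι : Type} (lam : ι → Fin l → ℤ) (n : ι → List (Fin l)) (a : ι × Bool) (g : M.Group) : ℂ :=
  Phi (St hp (lam a.1)) (wd M (n a.1)) g * if a.2 then sgn hp g else 1

theorem ph_class {ι : Type} (lam : ι → Fin l → ℤ) (n : ι → List (Fin l)) (a : ι × Bool) :
    IsClassFunction M.Group (ph hp lam n a) := fun g h => by
  rw [ph, ph, Phi_class, sgn_class]

/-- the facts on a family of types -/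
structure Gram {ι : Type} (lam : ι → Fin l → ℤ) (n : ι → List (Fin l)) (Γ : ι × Bool → ι × Bool → ℤ) (d : ι → ℤ) :
    Prop where
  ip : ∀ [Fintype M.Group] (a b : ι × Bool), classInner (ph hp lam n a) (ph hp lam n b) = Γ a b
  one : ∀ a, ph hp lam n a 1 = d a.1
  norm : ∀ i, wd M (n i) ∈ Subgroup.normalizer (St hp (lam i) : Set M.Group)

end Weyl

/-- `W(E₆)` -/
abbrev W6 : Type := CoxeterMatrix.E₆.Group

/-- `W(E₇)` -/
abbrev W7 : Type := CoxeterMatrix.E₇.Group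

/-- `W(E₈)` -/
abbrev W8 : Type := CoxeterMatrix.E₈.Group

/-- the types `E₆ D₅ A₄A₁ D₄ D₄ A₄ A₃A₁ A₃` -/
def lam6 : Fin 8 → Fin 6 → ℤ := ![![0, 0, 0, 0, 0, 0], ![1, 0, 0, 0, 0, 0], ![0, 0, 1, 0, 0, 0], ![1, 0, 0, 0, 0, 2],
  ![1, 0, 0, 0, 0, 2], ![1, 1, 0, 0, 0, 0], ![0, 1, 1, 0, 0, 0], ![1, 1, 2, 0, 0, 0]]

/-- the twists -/
def n6 : Fin 8 → List (Fin 6) := ![[], [], [], [], [5, 4, 3, 2, 1, 3, 4, 5, 0, 2, 3, 4, 1, 3, 2, 0], [], [], []]

/-- the types `E₇ E₆ E₆ D₆ D₆` -/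
def lam7 : Fin 5 → Fin 7 → ℤ := ![![0, 0, 0, 0, 0, 0, 0], ![0, 0, 0, 0, 0, 0, 1], ![0, 0, 0, 0, 0, 0, 1],
  ![1, 0, 0, 0, 0, 0, 0], ![1, 0, 0, 0, 0, 0, 0]]

/-- the twists -/
def n7 : Fin 5 → List (Fin 7) := ![[], [], [6, 5, 4, 3, 2, 1, 3, 4, 5, 6, 0, 2, 3, 4, 5, 1, 3, 4, 2, 3, 0, 2, 1, 3, 4, 5, 6], [],
  [0, 2, 3, 4, 5, 1, 3, 4, 2, 3, 0, 2, 1, 3, 4, 5, 6, 5, 4, 3, 2, 1, 3, 4, 5, 0, 2, 3, 4, 1, 3, 2, 0]]

/-- the family on `W(E₆)` -/
noncomputable abbrev ph6 : Fin 8 × Bool → W6 → ℂ := ph hpE6 lam6 n6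

/-- the family on `W(E₇)` -/
noncomputable abbrev ph7 : Fin 5 × Bool → W7 → ℂ := ph hpE7 lam7 n7

/-- box -/
abbrev Gram6 : Prop := Gram hpE6 lam6 n6 G6 d6

/-- box -/
abbrev Gram7 : Prop := Gram hpE7 lam7 n7 G7 d7

/-! ### almost characters -/

variable {p : ℕ} [Fact p.Prime] {k : Type} [Field k] [CharP k p] {Y : Type} [Group Y] {N : Type} [Fintype N]
  [DecidableEq N] {ρ : Y →* GL N k} {F : MulAut Y} {G : Subgroup Y} [IsAlgClosed k] {D : Datum p ρ F G}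
  {Γ : Type} [Group Γ] {Ψ : Γ →* D.W} {c c' : Lbl D}

/-- `Ψ` is an isomorphism onto the stabiliser of `c` -/
structure Fm (Ψ : Γ →* D.W) (c : Lbl D) : Prop where
  inj : Function.Injective Ψ
  mem : ∀ v, Rel D v c c ↔ ∃ γ, Ψ γ = v

theorem fm_one : Fm (MonoidHom.id D.W) (1 : Lbl D) :=
  ⟨fun _ _ h => h, fun v => ⟨fun _ => ⟨v, rfl⟩, fun _ _ => by rw [map_one, map_one]⟩⟩

theorem Fm.rel (E : Fm Ψ c) (γ : Γ) : Rel D (Ψ γ) c c := (E.mem _).2 ⟨γ, rfl⟩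

theorem Fm.range (E : Fm Ψ c) : Ψ.range = ClA.Wc c := Subgroup.ext fun v => (E.mem v).symm

theorem Fm.of_eq (E : Fm Ψ c) (h : ClA.Wc c' = ClA.Wc c) : Fm Ψ c' :=
  ⟨E.inj, fun v => by rw [← E.mem, ← ClA.mem_Wc, h, ClA.mem_Wc]⟩

theorem Fm.index_mul (E : Fm Ψ c) : (ClA.Wc c).index * Nat.card Γ = Nat.card D.W := by
  rw [← (ClA.Wc c).index_mul_card, ← E.range, Nat.card_congr (MonoidHom.ofInjective E.inj).toEquiv]

variable [Fintype Γ] (f : Fr D) [Fintype ↥(GF F G)] {w₀ : D.W} {Q : ℤ}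

/-- the almost character -/
noncomputable def cg (w₀ : D.W) (Ψ : Γ →* D.W) (c : Lbl D) : (Γ → ℂ) →ₗ[ℂ] ↥(GF F G) → ℂ where
  toFun φ := (Nat.card Γ : ℂ)⁻¹ • ∑ γ, φ γ • RW f (Ψ γ * w₀) c
  map_add' φ φ' := by simp only [Pi.add_apply, add_smul, Finset.sum_add_distrib, smul_add]
  map_smul' a φ := by
    simp only [Pi.smul_apply, smul_eq_mul, mul_smul, ← Finset.smul_sum, RingHom.id_apply]
    rw [smul_comm]

theorem cg_eq (φ : Γ → ℂ) : cg f w₀ Ψ c φ = (Nat.card Γ : ℂ)⁻¹ • ∑ γ, φ γ • RW f (Ψ γ * w₀) c := rfl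

variable {f} {φ φ' : Γ → ℂ}

theorem rel_of_cg {w : D.W} (h : classInner (cg f w₀ Ψ c φ) (RW f w c') ≠ 0) : Fx D w c' ∧ ∃ v, Rel D v c c' := by
  simp only [cg_eq, classInner_smul_left, classInner_sum_left] at h
  obtain ⟨γ, -, h1⟩ := Finset.exists_ne_zero_of_sum_ne_zero (right_ne_zero_of_mul h)
  obtain ⟨-, h2, v, -, h3⟩ := rel_of_ne (right_ne_zero_of_mul h1)
  exact ⟨h2, v, h3⟩

theorem rel_of_cg' {Γ' : Type} [Group Γ'] [Fintype Γ'] {Ψ' : Γ' →* D.W} {ψ : Γ' → ℂ}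
    (h : classInner (cg f w₀ Ψ c φ) (cg f w₀ Ψ' c' ψ) ≠ 0) : ∃ v, Rel D v c c' := by
  rw [cg_eq f ψ] at h
  simp only [classInner_smul_right, classInner_sum_right] at h
  obtain ⟨γ, -, h1⟩ := Finset.exists_ne_zero_of_sum_ne_zero (right_ne_zero_of_mul h)
  exact (rel_of_cg (right_ne_zero_of_mul h1)).2

/-- the label `1` is orthogonal to the other labels -/
theorem ip_cg_ne {Γ' : Type} [Group Γ'] [Fintype Γ'] {Ψ' : Γ' →* D.W} {ψ : Γ' → ℂ} (h : c' ≠ 1) :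
    classInner (cg f w₀ Ψ 1 φ) (cg f w₀ Ψ' c' ψ) = 0 := by
  by_contra h1
  obtain ⟨v, hv⟩ := rel_of_cg' h1
  exact h (eq_one_of_rel hv)

theorem cg_twist {l : ↥(GF F G) →* ℂˣ} {cl : Lbl D} (h' : ∀ w c g, RW f w (c * cl) g = l g * RW f w c g)
    (g : ↥(GF F G)) : cg f w₀ Ψ (c * cl) φ g = l g * cg f w₀ Ψ c φ g := by
  simp only [cg_eq, Pi.smul_apply, Finset.sum_apply, smul_eq_mul, h', Finset.mul_sum]
  exact Finset.sum_congr rfl fun u _ => by ring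

theorem cg_aut (hA : Api f) (E : Fm Ψ c) {α : MulAut Y} {A : Matrix D.R D.R ℤ} (h : Au D α A) {v : D.W} {a : ℤ}
    (hv : D.Wm v * A = a • (1 : Matrix D.R D.R ℤ)) (ha : a ≠ 0) (hF : Fx D w₀ c) (g : ↥(GF F G)) :
    cg f w₀ Ψ c φ (h.aut g) = cg f w₀ Ψ (c ^ a) φ g := by
  simp only [cg_eq, Pi.smul_apply, Finset.sum_apply, smul_eq_mul]
  congr 1
  exact Finset.sum_congr rfl fun u _ => by rw [RW_scalar f hA h hv ha (hF.mul (E.rel u))]

variable (h : Sc D w₀ Q)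
include h

/-- transport along an element which normalises the image of `Ψ` -/
theorem cg_rel {v : D.W} (hv : Rel D v c c') (a : Γ ≃ Γ) (ha : ∀ γ, Ψ (a γ) * v = v * Ψ γ) :
    cg f w₀ Ψ c (fun γ => φ (a γ)) = cg f w₀ Ψ c' φ := by
  rw [cg_eq, cg_eq]
  congr 1
  exact Fintype.sum_equiv a _ _ fun γ => by rw [RW_conj f ((ClA.tc_sc h).2 (ha γ)) hv]

/-- `-1` is in the Weyl group -/
theorem cg_inv {v : D.W} (hv : D.Wm v = -1) : cg f w₀ Ψ c⁻¹ φ = cg f w₀ Ψ c φ :=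
  (cg_rel h (c := c) (v := v) (fun z => by rw [hv, neg_mulVec, one_mulVec, map_inv, DL.chr_neg, inv_inv]) (Equiv.refl _)
    fun γ => D.Wm_injective (by rw [D.Wm_mul, D.Wm_mul, hv, mul_neg_one, neg_one_mul]; rfl)).symm

variable (E : Fm Ψ c)
include E

theorem RW_class (g v : Γ) : RW f (Ψ (v * g * v⁻¹) * w₀) c = RW f (Ψ g * w₀) c :=
  (RW_conj f ((ClA.tc_sc h).2 (by rw [← map_mul, ← map_mul, inv_mul_cancel_right])) (E.rel v)).symm

theorem ip_cg_RW (hF : Fx D w₀ c) (hφ : IsClassFunction Γ φ) (u : Γ) :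
    classInner (cg f w₀ Ψ c φ) (RW f (Ψ u * w₀) c) = φ u := by
  have h1 := sum_fib (fun v : Γ => v⁻¹ * u * v) fun z => φ z
  have h2 : ∀ v : Γ, φ (v⁻¹ * u * v) = φ u := fun v => by simpa using hφ u v⁻¹
  have h3 : ∀ z : Γ, classInner (RW f (Ψ z * w₀) c) (RW f (Ψ u * w₀) c) = Nat.card {v : Γ // v⁻¹ * u * v = z} :=
    fun z => by
    rw [RW_ip f (hF.mul (E.rel z)) (hF.mul (E.rel u))]
    congr 1
    let j : {v : Γ // v⁻¹ * u * v = z} → {v : D.W // Tc D v (Ψ z * w₀) (Ψ u * w₀) ∧ Rel D v c c} := fun v =>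
      ⟨Ψ v.1, (ClA.tc_sc h).2 (by rw [← map_mul, ← map_mul, ← inv_mul_eq_iff_eq_mul.1 ((mul_assoc _ _ _).symm.trans v.2)]), E.rel _⟩
    refine (Nat.card_congr (Equiv.ofBijective j ⟨fun a b e => Subtype.ext (E.inj (congrArg Subtype.val e)), fun v => ?_⟩)).symm
    obtain ⟨γ, hγ⟩ := (E.mem _).1 v.2.2
    refine ⟨⟨γ, E.inj ?_⟩, Subtype.ext hγ⟩
    rw [map_mul, map_mul, map_inv, hγ, mul_assoc, (ClA.tc_sc h).1 v.2.1, inv_mul_cancel_left]
  simp only [h2, Finset.sum_const, Finset.card_univ, nsmul_eq_mul, ← Nat.card_eq_fintype_card] at h1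
  simp only [cg_eq, classInner_smul_left, classInner_sum_left, h3, mul_comm (φ _)]
  rw [← h1, inv_mul_cancel_left₀ (Nat.cast_ne_zero.2 Nat.card_pos.ne')]

theorem ip_cg_one (hF : Fx D w₀ c) (hφ : IsClassFunction Γ φ) : classInner (cg f w₀ Ψ c φ) (RW f w₀ c) = φ 1 := by
  have h1 := ip_cg_RW (f := f) h E hF hφ 1
  rwa [map_one, one_mul] at h1

/-- **isometry** -/
theorem ip_cg (hF : Fx D w₀ c) (hφ : IsClassFunction Γ φ) :
    classInner (cg f w₀ Ψ c φ) (cg f w₀ Ψ c φ') = classInner φ φ' := by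
  rw [cg_eq f φ']
  simp only [classInner_smul_right, classInner_sum_right, ip_cg_RW h E hF hφ, map_inv₀, map_natCast,
    mul_comm (conj (φ' _))]
  rfl

theorem mS_cg (hF : Fx D w₀ c) (hc : Is3 D c) (hφ : IsClassFunction Γ φ) :
    Lie.mS f w₀ (cg f w₀ Ψ c φ) = φ 1 * (ClA.Wc c).index := by
  let _ := lact D
  have h1 : ∀ c', c' ∈ MulAction.orbit D.W c ↔ ∃ v, Rel D v c c' := fun c' =>
    ⟨fun ⟨v, hv⟩ => ⟨v, rel_iff.2 hv⟩, fun ⟨v, h⟩ => ⟨v, rel_iff.1 h⟩⟩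
  have h2 : (MulAction.orbit D.W c).Finite := Set.finite_range _
  have h3 : ClA.Wc c = MulAction.stabilizer D.W c := Subgroup.ext fun v => rel_iff
  rw [Lie.mS, h3, MulAction.index_stabilizer, Set.ncard_eq_toFinset_card _ h2, mul_comm, ← nsmul_eq_mul, ← Finset.sum_const,
    finsum_eq_sum_of_support_subset (s := h2.toFinset)]
  · refine Finset.sum_congr rfl fun c' hc' => ?_
    obtain ⟨v, h4⟩ := (h1 c').1 (h2.mem_toFinset.1 hc')
    rw [finsum_eq_single _ (is3_of_rel h4 hc) fun _ h => absurd rfl h,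
      ← RW_conj f (show v ∈ CW D w₀ by rw [h.cw_top]; trivial) h4, ip_cg_one h E hF hφ]
  · intro c' hc'
    have h4 : classInner (cg f w₀ Ψ c φ) (RW f w₀ c') ≠ 0 := fun h => hc' (by simp [h])
    exact h2.mem_toFinset.2 ((h1 c').2 (rel_of_cg h4).2)

/-- an average over a coset -/
theorem cg_Phi (U : Subgroup Γ) (n : Γ) {η : D.W → ℂ} (hη : IsClassFunction D.W η) :
    cg f w₀ Ψ c (fun g => Phi U n g * η (Ψ g)) = avg f (U.map Ψ) (fun u => η (u * Ψ n)) (Ψ n * w₀) c := by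
  have := Fintype.ofFinite U
  have := Fintype.ofFinite (U.map Ψ)
  have h1 := avg_Phi U n (r := fun g => η (Ψ g) • RW f (Ψ g * w₀) c) fun g v => by
    rw [RW_class h E, map_mul, map_mul, map_inv, hη]
  simp only [cg_eq, mul_smul, h1, ClA.avg_eq]
  rw [Nat.card_congr (U.equivMapOfInjective Ψ E.inj).toEquiv]
  congr 1
  refine Fintype.sum_equiv (U.equivMapOfInjective Ψ E.inj).toEquiv _ _ fun u => ?_
  rw [map_mul, mul_assoc]
  rfl

/-- **Levi subgroups**: `U` is the stabiliser of `lam`, `n` normalises `U`, and `U` fixes `x` where `c = ξ ^ x`. -/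
theorem gen (hA : Api f) (hF : Fx D w₀ c) {U : Subgroup Γ} {n : Γ} (hn : n ∈ Subgroup.normalizer (U : Set Γ))
    {lam x : D.R → ℤ} (hU : Wl D lam = U.map Ψ) {ξ : ℂˣ} (hc : c = cx D x ξ) (hx : ∀ u ∈ U, x ᵥ* D.Wm (Ψ u) = x) :
    IsGeneralizedCharacter ↥(GF F G) (cg f w₀ Ψ c (Phi U n)) ∧
      IsGeneralizedCharacter ↥(GF F G) (cg f w₀ Ψ c fun g => Phi U n g * sg D (Ψ g)) := by
  have hr : ∀ a, D.Rt a → ∀ y, D.rf a ∈ Wl D y ↔ D.wt a ⬝ᵥ y = 0 := fun a ha y => by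
    show D.Wm (D.rf a) *ᵥ y = y ↔ _
    rw [D.Wm_rf ha, sub_mulVec, one_mulVec, vecMulVec_mulVec, sub_eq_self]
    refine ⟨fun e => ?_, fun e => by rw [e, MulOpposite.op_zero, zero_smul]⟩
    have h3 := congrArg (D.wt a ⬝ᵥ ·) e
    have h4 : D.wt a ⬝ᵥ D.cor a = 2 := (D.pair_cor ha a).trans (Nodes.Coroot.cpr_self _ _ ha)
    simp only [dotProduct_zero, op_smul_eq_smul, dotProduct_smul, h4, smul_eq_mul] at h3
    omega
  have hL : LeviOK D lam (Ψ n * w₀) c := by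
    refine ⟨fun a ha h1 => ?_, hF.mul (E.rel n), ξ, x, fun a ha h1 => ?_, hc⟩
    · have hb : D.Rt (D.act (Ψ n * w₀) (D.g a)) := IsRoot.act (D.g_root a ha) _
      have h2 := congrArg (· ⬝ᵥ lam) (wt_gw (Ψ n * w₀) ha)
      rw [D.Wm_mul, mul_assoc, h.eq, Matrix.mul_smul, mul_one] at h2
      simp only [← dotProduct_mulVec, smul_mulVec, dotProduct_smul, smul_dotProduct, h1, smul_eq_mul, mul_zero] at h2
      have h3 := (hr _ hb _).2 ((mul_eq_zero.1 h2).resolve_left h.ne_zero)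
      refine (hr _ hb _).1 ?_
      have h4 : (Ψ n)⁻¹ * D.rf (D.act (Ψ n * w₀) (D.g a)) * Ψ n ∈ Wl D lam := by
        show D.Wm _ *ᵥ lam = lam
        rw [D.Wm_mul, D.Wm_mul, ← mulVec_mulVec, ← mulVec_mulVec, h3, mulVec_mulVec, ← D.Wm_mul, inv_mul_cancel, D.Wm_one,
          one_mulVec]
      rw [hU] at h4 ⊢
      obtain ⟨u, hu, e⟩ := h4
      exact ⟨n * u * n⁻¹, (Subgroup.mem_normalizer_iff.1 hn u).1 hu, by simp [e, mul_assoc]⟩
    · obtain ⟨u, hu, e⟩ : D.rf a ∈ U.map Ψ := hU ▸ (hr a ha lam).2 h1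
      have h2 := hx u hu
      rw [e, D.Wm_rf ha, vecMul_sub, vecMul_one, vecMul_vecMulVec, sub_eq_self] at h2
      have h3 := congrArg (· ⬝ᵥ D.cor a) h2
      have h4 : D.wt a ⬝ᵥ D.cor a = 2 := (D.pair_cor ha a).trans (Nodes.Coroot.cpr_self _ _ ha)
      simp only [smul_dotProduct, h4, zero_dotProduct, smul_eq_mul] at h3
      omega
  constructor
  · have h1 := cg_Phi (f := f) h E U n (η := fun _ => 1) fun _ _ => rfl
    simp only [mul_one] at h1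
    rw [show Phi U n = fun g => Phi U n g from rfl, h1, ← hU]
    exact hA.levi _ _ _ hL
  · have h0 : ∀ a b, sg D (a * b) = sg D a * sg D b := se_mul true
    rw [cg_Phi h E U n (η := sg D) fun g v => by
      rw [h0, h0, mul_right_comm, ← h0, mul_inv_cancel, show sg D 1 = 1 from se_one true, one_mul], ← hU]
    have h1 : avg f (Wl D lam) (fun u => sg D (u * Ψ n)) (Ψ n * w₀) c =
        (((D.Wm (Ψ n)).det : ℤ) : ℂ) • avg f (Wl D lam) (sg D) (Ψ n * w₀) c := by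
      have := Fintype.ofFinite (Wl D lam)
      rw [ClA.avg_eq, ClA.avg_eq, smul_comm (((D.Wm (Ψ n)).det : ℤ) : ℂ), Finset.smul_sum (r := (((D.Wm (Ψ n)).det : ℤ) : ℂ))]
      congr 1
      exact Finset.sum_congr rfl fun u _ => by rw [h0, mul_comm, mul_smul]; rfl
    rw [h1, Int.cast_smul_eq_zsmul]
    exact (Sym.genL _).zsmul_mem (hA.leviSt _ _ _ hL) _

end Cfsg.Agent.KZ.Exc
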