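import Cfsg.Agent.KZ.Exc.EBox

/-!
# KZ, the groups `E₆^ε`, `E₇`, `E₈`: generic pieces for the frames (helper52)

* `S3m hp x` : the stabiliser of a weight modulo three, `rel_cx_iff`, `Wc_cx`, `fx_cx`, `cube_cx`;
* `Cm`, `fix_iff` : `v` fixes `C x` iff `v` fixes `x`;
* `orb`, `le_index` : a lower bound for the index of `S3m hp x` by a search in the kernel, `fm_of`;
* `gen_lev` : the Levi subgroups;
* `emb` : the embeddings of parabolic subgroups; `s3hom`, `tri` : the subsystems of type `A₂`;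
* `Sf t` : the stabilisers in `S₃`, `Phi_*` : the induced functions on `S₃`.
-/

set_option autoImplicit false
set_option linter.unusedSectionVars false
set_option linter.unusedVariables false
set_option maxHeartbeats 400000

namespace Cfsg.Agent.KZ.Exc.EFr

open CoxeterSystem Cfsg Cfsg.Lie Cfsg.Lie.ChevalleyDatum Matrix
open Cfsg.Agent.ChevalleyStructure Cfsg.Agent.ChevalleyStructure.CoxeterGeom
  Cfsg.Agent.ChevalleyStructure.CoxeterGeomTypes
open Cfsg.Agent.Tits.Roots Cfsg.Agent.Nodes Cfsg.Agent.Nodes.RGDChev Cfsg.Agent.DL Cfsg.Agent.DL.PP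
open Cfsg.Agent.KZ.Lie Cfsg.Agent.KZ.DatX Cfsg.Agent.KZ.Cl Cfsg.Agent.Characters.Core

/-! ### labels of order three -/

section labels

variable {p : ℕ} [Fact p.Prime] {k : Type} [Field k] [CharP k p] {Y : Type} [Group Y] {N : Type} [Fintype N]
  [DecidableEq N] {ρ : Y →* GL N k} {F : MulAut Y} {G : Subgroup Y} [IsAlgClosed k] {D : Datum p ρ F G}

theorem dvd_dot_iff {ι : Type} [Fintype ι] [DecidableEq ι] {x : ι → ℤ} : (∀ z, (3 : ℤ) ∣ x ⬝ᵥ z) ↔ ∀ i, (3 : ℤ) ∣ x i :=
  ⟨fun h i => by simpa using h (Pi.single i 1), fun h z => Finset.dvd_sum fun i _ => (h i).mul_right _⟩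

theorem dvd_vecMul {ι : Type} [Fintype ι] {x : ι → ℤ} (h : ∀ i, (3 : ℤ) ∣ x i) (B : Matrix ι ι ℤ) (j : ι) :
    (3 : ℤ) ∣ (x ᵥ* B) j := Finset.dvd_sum (s := Finset.univ) (f := fun i => x i * B i j) fun i _ => (h i).mul_right _

theorem rel_cx_iff {v : D.W} {x x' : D.R → ℤ} :
    Rel D v (cx D x om) (cx D x' om) ↔ ∀ i, (3 : ℤ) ∣ (x' ᵥ* D.Wm v - x) i := by
  rw [← dvd_dot_iff]
  refine forall_congr' fun z => ?_
  rw [chr_cx, chr_cx, om_zpow, dotProduct_mulVec, sub_dotProduct]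

theorem cx_eq_iff {x x' : D.R → ℤ} : cx D x om = cx D x' om ↔ ∀ i, (3 : ℤ) ∣ (x - x') i :=
  funext_iff.trans (forall_congr' fun _ => om_zpow)

theorem cx_mul (x x' : D.R → ℤ) (ξ : ℂˣ) : cx D x ξ * cx D x' ξ = cx D (x + x') ξ :=
  funext fun i => (_root_.zpow_add ξ (x i) (x' i)).symm

theorem cx_inv (x : D.R → ℤ) (ξ : ℂˣ) : (cx D x ξ)⁻¹ = cx D (-x) ξ := funext fun i => (_root_.zpow_neg ξ (x i)).symm

theorem cx_zero (ξ : ℂˣ) : cx D 0 ξ = 1 := funext fun _ => zpow_zero ξ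

theorem cube_cx (x : D.R → ℤ) : cx D x om ^ 3 = 1 := by
  rw [← zpow_natCast, ← cx_zpow, zpow_natCast, om_prim.pow_eq_one]
  exact funext fun _ => _root_.one_zpow _

theorem fx_cx {w₀ : D.W} {Q : ℤ} (h : Sc D w₀ Q) (x : D.R → ℤ) : Fx D w₀ (cx D x om) := fun z => by
  rw [chr_cx, chr_cx, om_zpow, h.eq, smul_mulVec, one_mulVec, dotProduct_smul, smul_eq_mul, ← sub_one_mul]
  exact h.dvd.mul_right _

theorem fx_one (w : D.W) : Fx D w 1 := fun z => by rw [map_one, map_one]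

end labels

variable {C : ChevalleyDatum} {l : ℕ} {M : CoxeterMatrix (Fin l)} (hp : IsType C l M)

/-- the stabiliser of a weight modulo three -/
def S3m (x : Fin l → ℤ) : Subgroup M.Group where
  carrier := {v | ∀ i, (3 : ℤ) ∣ (x ᵥ* wm hp v - x) i}
  one_mem' i := by rw [map_one, vecMul_one, sub_self]; exact dvd_zero _
  mul_mem' {a b} ha hb i := by
    have h : x ᵥ* wm hp (a * b) - x = (x ᵥ* wm hp a - x) ᵥ* wm hp b + (x ᵥ* wm hp b - x) := by
      rw [map_mul, ← vecMul_vecMul, sub_vecMul, sub_add_sub_cancel]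
    rw [h]
    exact dvd_add (dvd_vecMul ha _ i) (hb i)
  inv_mem' {a} ha i := by
    have h : x ᵥ* wm hp a⁻¹ - x = -((x ᵥ* wm hp a - x) ᵥ* wm hp a⁻¹) := by
      rw [sub_vecMul, vecMul_vecMul, ← map_mul, mul_inv_cancel, map_one, vecMul_one, neg_sub]
    rw [h]
    exact dvd_neg.2 (dvd_vecMul ha _ i)

theorem mem_S3m {x : Fin l → ℤ} {v : M.Group} : v ∈ S3m hp x ↔ ∀ i, (3 : ℤ) ∣ (x ᵥ* wm hp v - x) i := Iff.rfl

theorem mem_S3m_of {x x0 : Fin l → ℤ} {v : M.Group} (h : x ᵥ* wm hp v = x) (hx : ∀ i, (3 : ℤ) ∣ (x - x0) i) :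
    v ∈ S3m hp x0 := fun i => by
  have e : x0 ᵥ* wm hp v - x0 = (x - x0) - (x - x0) ᵥ* wm hp v := by rw [sub_vecMul, h]; abel
  rw [e]
  exact dvd_sub (hx i) (dvd_vecMul hx _ i)

/-- the stabiliser of a weight -/
def Sw (x : Fin l → ℤ) : Subgroup M.Group where
  carrier := {v | x ᵥ* wm hp v = x}
  one_mem' := by
    show x ᵥ* wm hp 1 = x
    rw [map_one, vecMul_one]
  mul_mem' {a b} ha hb := by
    have ha' : x ᵥ* wm hp a = x := ha
    have hb' : x ᵥ* wm hp b = x := hb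
    show x ᵥ* wm hp (a * b) = x
    rw [map_mul, ← vecMul_vecMul, ha', hb']
  inv_mem' {a} ha := by
    have ha' : x ᵥ* wm hp a = x := ha
    show x ᵥ* wm hp a⁻¹ = x
    conv_lhs => rw [← ha', vecMul_vecMul, ← map_mul, mul_inv_cancel, map_one, vecMul_one]

theorem mem_Sw {x : Fin l → ℤ} {v : M.Group} : v ∈ Sw hp x ↔ x ᵥ* wm hp v = x := Iff.rfl

theorem dot_wm {x : Fin l → ℤ} {v : M.Group} (h : v ∈ Sw hp x) (y : Fin l → ℤ) : x ⬝ᵥ (wm hp v *ᵥ y) = x ⬝ᵥ y := by
  rw [dotProduct_mulVec, (mem_Sw hp).1 h]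

theorem vecMul_sM (i : Fin l) (x : Fin l → ℤ) :
    x ᵥ* sM C l i = fun b => x b - if b = i then cartanOf C l i ⬝ᵥ x else 0 := by
  funext b
  simp only [vecMul, dotProduct, sM, Matrix.of_apply, mul_sub, mul_ite, mul_one, mul_zero, Finset.sum_sub_distrib,
    Finset.sum_ite_eq', Finset.mem_univ, if_true]
  by_cases h : b = i
  · simp only [h, if_true, mul_comm]
  · simp only [h, if_false, Finset.sum_const_zero]

theorem simple_mem_Sw {x : Fin l → ℤ} {i : Fin l} (h : cartanOf C l i ⬝ᵥ x = 0) : M.toCoxeterSystem.simple i ∈ Sw hp x := by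
  rw [mem_Sw, wm_simple, vecMul_sM, h]
  funext b
  rw [ite_self, sub_zero]

theorem simple_mem_S3m {x : Fin l → ℤ} {i : Fin l} (h : 3 ∣ cartanOf C l i ⬝ᵥ x) :
    M.toCoxeterSystem.simple i ∈ S3m hp x := fun b => by
  rw [wm_simple, vecMul_sM, Pi.sub_apply, sub_sub_cancel_left, dvd_neg]
  split_ifs
  exacts [h, dvd_zero _]

/-! ### the Cartan matrix -/

variable (C l) in
/-- the Cartan matrix -/
def Cm : Matrix (Fin l) (Fin l) ℤ := Matrix.of (cartanOf C l)

variable (C l) in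
/-- the Cartan matrix is symmetric and nonsingular -/
def Sy : Prop := (∀ i j, cartanOf C l i j = cartanOf C l j i) ∧ ∀ x, Cm C l *ᵥ x = 0 → x = 0

theorem sy_of {B : Matrix (Fin l) (Fin l) ℤ} {n : ℤ} (h1 : ∀ i j, cartanOf C l i j = cartanOf C l j i) (hn : n ≠ 0)
    (h2 : B * Cm C l = n • 1) : Sy C l := ⟨h1, fun x hx => by
  have h := congrArg (· *ᵥ x) h2
  simp only [← mulVec_mulVec, hx, mulVec_zero, smul_mulVec, one_mulVec] at h
  exact (smul_eq_zero.1 h.symm).resolve_left hn⟩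

theorem sy6 : Sy chevE6 6 :=
  sy_of (n := 3) (B := !![4, 3, 5, 6, 4, 2; 3, 6, 6, 9, 6, 3; 5, 6, 10, 12, 8, 4; 6, 9, 12, 18, 12, 6; 4, 6, 8, 12, 10, 5;
    2, 3, 4, 6, 5, 4]) (by decide +kernel) (by decide) (by decide +kernel)

/-- twice the inverse of the Cartan matrix -/
def inv7 : Matrix (Fin 7) (Fin 7) ℤ := !![4, 4, 6, 8, 6, 4, 2; 4, 7, 8, 12, 9, 6, 3; 6, 8, 12, 16, 12, 8, 4;
  8, 12, 16, 24, 18, 12, 6; 6, 9, 12, 18, 15, 10, 5; 4, 6, 8, 12, 10, 8, 4; 2, 3, 4, 6, 5, 4, 3]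

/-- the inverse of the Cartan matrix -/
def inv8 : Matrix (Fin 8) (Fin 8) ℤ := !![4, 5, 7, 10, 8, 6, 4, 2; 5, 8, 10, 15, 12, 9, 6, 3; 7, 10, 14, 20, 16, 12, 8, 4;
  10, 15, 20, 30, 24, 18, 12, 6; 8, 12, 16, 24, 20, 15, 10, 5; 6, 9, 12, 18, 15, 12, 8, 4; 4, 6, 8, 12, 10, 8, 6, 3;
  2, 3, 4, 6, 5, 4, 3, 2]

theorem sy7 : Sy chevE7 7 := sy_of (n := 2) (B := inv7) (by decide +kernel) (by decide) (by decide +kernel)

theorem sy8 : Sy chevE8 8 := sy_of (n := 1) (B := inv8) (by decide +kernel) (by decide) (by decide +kernel)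

theorem Cm_inv7 : Cm chevE7 7 * inv7 = (2 : ℤ) • 1 := by decide +kernel

theorem Cm_inv8 : Cm chevE8 8 * inv8 = 1 := by decide +kernel

/-- equivariance -/
theorem wm_Cm (hs : Sy C l) (w : M.Group) (x : Fin l → ℤ) : wm hp w *ᵥ (Cm C l *ᵥ (x ᵥ* wm hp w)) = Cm C l *ᵥ x := by
  induction w using M.toCoxeterSystem.simple_induction generalizing x with
  | one => rw [map_one, vecMul_one, one_mulVec]
  | mul v w hv hw => rw [map_mul, ← mulVec_mulVec, ← vecMul_vecMul, hw, hv]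
  | simple i =>
    have h1 : ∀ z : Fin l → ℤ, sM C l i *ᵥ (Cm C l *ᵥ z) = Cm C l *ᵥ (z ᵥ* sM C l i) := fun z => by
      rw [sM_mulVec, vecMul_sM]
      funext a
      show _ = cartanOf C l a ⬝ᵥ (z - fun b => if b = i then cartanOf C l i ⬝ᵥ z else 0)
      rw [dotProduct_sub]
      congr 1
      simp only [dotProduct, mul_ite, mul_zero, Finset.sum_ite_eq', Finset.mem_univ, if_true]
      rw [hs.1 a i, mul_comm]
      rfl
    rw [wm_simple, h1, vecMul_vecMul, ← wm_simple hp, ← map_mul, simple_mul_simple_self, map_one, vecMul_one]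

/-- `v` fixes `C x` iff `v` fixes `x` -/
theorem fix_iff (hs : Sy C l) {v : M.Group} {x : Fin l → ℤ} : v ∈ St hp (Cm C l *ᵥ x) ↔ v ∈ Sw hp x := by
  rw [← inv_mem_iff, mem_St, mem_Sw]
  have h1 : wm hp v⁻¹ *ᵥ (Cm C l *ᵥ x) = Cm C l *ᵥ (x ᵥ* wm hp v) := by
    rw [← wm_Cm hp hs v x, mulVec_mulVec, ← map_mul, inv_mul_cancel, map_one, one_mulVec]
  rw [h1]
  exact ⟨fun h => sub_eq_zero.1 (hs.2 _ (by rw [mulVec_sub, h, sub_self])), fun h => by rw [h]⟩

theorem sgn_simple (i : Fin l) : sgn hp (M.toCoxeterSystem.simple i) = -1 := by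
  have h : sM C l i = 1 + replicateCol Unit (-cartanOf C l i) * replicateRow Unit (Pi.single i (1 : ℤ)) := by
    ext a b
    simp only [sM, Matrix.of_apply, Matrix.add_apply, Matrix.one_apply, Matrix.mul_apply, replicateCol_apply,
      replicateRow_apply, Finset.univ_unique, Finset.sum_singleton, Pi.neg_apply, Pi.single_apply, mul_ite, mul_one, mul_zero]
    split_ifs <;> ring
  show (((wm hp _).det : ℤ) : ℂ) = _
  rw [wm_simple, h, det_one_add_replicateCol_mul_replicateRow, single_dotProduct, Pi.neg_apply, hp.isCartan.diag]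
  norm_num

/-! ### orbits modulo three -/

/-- the dot product of lists -/
def dotL (a b : List ℤ) : ℤ := (List.zipWith (· * ·) a b).sum

/-- a simple reflection acting on a weight -/
def wr (A : List (List ℤ)) (i : ℕ) (u : List ℤ) : List ℤ := u.set i (u.getD i 0 - dotL (A.getD i []) u)

/-- the key of a weight modulo three -/
def key (u : List ℤ) : ℕ := u.foldr (fun a n => (a % 3).toNat + 3 * n) 0

/-- the state of the search: stack, mask, count -/
structure Stt where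
  /-- the stack -/
  todo : List (List ℤ)
  /-- the mask -/
  mask : ℕ
  /-- the count -/
  cnt : ℕ

/-- visit a weight -/
noncomputable def visit (u : List ℤ) (s : Stt) : Stt :=
  Stt.casesOn s fun t m c => cond (Nat.testBit m (key u)) ⟨t, m, c⟩ ⟨u :: t, Nat.lor m (Nat.shiftLeft 1 (key u)), Nat.succ c⟩

/-- one step -/
noncomputable def step (A : List (List ℤ)) (I : List ℕ) (s : Stt) : Stt :=
  Stt.casesOn s fun t m c => List.casesOn (motive := fun _ => Stt) t ⟨[], m, c⟩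
    fun u t' => List.rec (motive := fun _ => Stt) ⟨t', m, c⟩ (fun i _ ih => visit (wr A i u) ih) I

/-- `n` steps -/
noncomputable def run (A : List (List ℤ)) (I : List ℕ) (n : ℕ) : Stt → Stt :=
  Nat.rec (motive := fun _ => Stt → Stt) (fun s => s) (fun _ ih s => Stt.casesOn (step A I s) fun t m c => ih ⟨t, m, c⟩) n

/-- the number of weights found after `n` steps -/
noncomputable def orb (A : List (List ℤ)) (l n : ℕ) (u : List ℤ) : ℕ := (run A (List.range l) n (visit u ⟨[], 0, 0⟩)).cnt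

theorem dotL_ofFn (a b : Fin l → ℤ) : dotL (List.ofFn a) (List.ofFn b) = a ⬝ᵥ b := by
  rw [dotL, dotProduct, ← List.sum_ofFn]
  congr 1
  apply List.ext_getElem <;> simp

theorem wr_ofFn {A : List (List ℤ)} (h : IsRows C l A) (i : Fin l) (x : Fin l → ℤ) :
    wr A i (List.ofFn x) = List.ofFn (x ᵥ* sM C l i) := by
  rw [wr, h, getD_ofFn, dotL_ofFn, vecMul_sM]
  apply List.ext_getElem
  · simp
  · intro j h1 h2
    rw [List.getElem_set, List.getElem_ofFn, List.getElem_ofFn]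
    by_cases e : (i : ℕ) = j
    · subst e
      rw [if_pos rfl, if_pos rfl]
    · rw [if_neg e, if_neg fun e' => e (congrArg Fin.val e').symm, sub_zero]

theorem key_congr {n : ℕ} {a b : Fin n → ℤ} (h : ∀ i, (3 : ℤ) ∣ (a - b) i) : key (List.ofFn a) = key (List.ofFn b) := by
  induction n with
  | zero => rw [List.ofFn_zero, List.ofFn_zero]
  | succ n ih =>
    rw [List.ofFn_succ, List.ofFn_succ]
    show (a 0 % 3).toNat + 3 * key _ = (b 0 % 3).toNat + 3 * key _
    rw [ih (a := fun i => a i.succ) (b := fun i => b i.succ) fun i => h i.succ,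
      Int.emod_eq_emod_iff_emod_sub_eq_zero.2 (Int.emod_eq_zero_of_dvd (h 0))]

/-- the invariant of the search -/
def Inv (x : Fin l → ℤ) (s : Stt) : Prop :=
  (∀ u ∈ s.todo, ∃ w, u = List.ofFn (x ᵥ* wm hp w)) ∧ ∃ S : Finset ℕ, S.card = s.cnt ∧
    ∀ n ∈ S, s.mask.testBit n = true ∧ ∃ w, n = key (List.ofFn (x ᵥ* wm hp w))

theorem Inv.visit {x : Fin l → ℤ} {s : Stt} (h : Inv hp x s) {u : List ℤ} (hu : ∃ w, u = List.ofFn (x ᵥ* wm hp w)) :
    Inv hp x (visit u s) := by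
  obtain ⟨t, m, c⟩ := s
  show Inv hp x (cond (Nat.testBit m (key u)) _ _)
  cases e : Nat.testBit m (key u)
  · obtain ⟨h1, S, h2, h3⟩ := h
    have h4 : key u ∉ S := fun h5 => by
      have h6 : Nat.testBit m (key u) = true := (h3 _ h5).1
      rw [e] at h6
      exact Bool.false_ne_true h6
    refine ⟨List.forall_mem_cons.2 ⟨hu, h1⟩, insert (key u) S, by rw [Finset.card_insert_of_notMem h4, h2]; rfl, fun n hn => ?_⟩
    have h5 : ∀ j, (Nat.lor m (Nat.shiftLeft 1 (key u))).testBit j = (m.testBit j || (2 ^ key u).testBit j) := fun j => by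
      rw [← Nat.testBit_or, ← Nat.one_shiftLeft]
      rfl
    rcases Finset.mem_insert.1 hn with rfl | hn
    · exact ⟨(h5 _).trans (by rw [Nat.testBit_two_pow_self, Bool.or_true]), hu.imp fun w hw => by rw [hw]⟩
    · exact ⟨(h5 _).trans (by rw [show m.testBit n = true from (h3 n hn).1, Bool.true_or]), (h3 n hn).2⟩
  · exact h

theorem Inv.step {A : List (List ℤ)} (hA : IsRows C l A) {I : List ℕ} (hI : ∀ i ∈ I, i < l) {x : Fin l → ℤ} {s : Stt}
    (h : Inv hp x s) : Inv hp x (step A I s) := by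
  obtain ⟨t, m, c⟩ := s
  cases t with
  | nil => exact h
  | cons u t =>
    obtain ⟨w, hw⟩ := h.1 u List.mem_cons_self
    induction I with
    | nil => exact ⟨fun v hv => h.1 v (List.mem_cons_of_mem _ hv), h.2⟩
    | cons i I ih =>
      refine (ih fun j hj => hI j (List.mem_cons_of_mem _ hj)).visit hp
        ⟨w * M.toCoxeterSystem.simple ⟨i, hI i List.mem_cons_self⟩, ?_⟩
      rw [map_mul, ← vecMul_vecMul, wm_simple, ← wr_ofFn hA, hw]

theorem Inv.run {A : List (List ℤ)} (hA : IsRows C l A) {I : List ℕ} (hI : ∀ i ∈ I, i < l) {x : Fin l → ℤ} (n : ℕ) {s : Stt}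
    (h : Inv hp x s) : Inv hp x (run A I n s) := by
  induction n generalizing s with
  | zero => exact h
  | succ n ih => exact ih (h.step hp hA hI)

/-- **The orbit count.** -/
theorem le_index {A : List (List ℤ)} (hA : IsRows C l A) (n : ℕ) (x : Fin l → ℤ) :
    orb A l n (List.ofFn x) ≤ (S3m hp x).index := by
  have := finite_W hp M.toCoxeterSystem
  have h0 : Inv hp x ⟨[], 0, 0⟩ := ⟨fun _ h => absurd h List.not_mem_nil, ∅, rfl, fun _ h => absurd h (Finset.notMem_empty _)⟩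
  obtain ⟨-, S, h1, h2⟩ := (h0.visit hp ⟨1, by rw [map_one, vecMul_one]⟩).run hp hA (I := List.range l)
    (fun i hi => List.mem_range.1 hi) n
  let g : M.Group ⧸ S3m hp x → ℕ := Quotient.lift (fun w => key (List.ofFn (x ᵥ* wm hp w⁻¹))) fun a b hab => by
    have h3 : a⁻¹ * b ∈ S3m hp x := QuotientGroup.leftRel_apply.1 hab
    refine key_congr fun i => ?_
    have e : x ᵥ* wm hp a⁻¹ - x ᵥ* wm hp b⁻¹ = (x ᵥ* wm hp (a⁻¹ * b) - x) ᵥ* wm hp b⁻¹ := by
      rw [sub_vecMul, vecMul_vecMul, ← map_mul, mul_inv_cancel_right]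
    rw [e]
    exact dvd_vecMul h3 _ i
  have h3 : (S : Set ℕ) ⊆ Set.range g := fun m hm => by
    obtain ⟨w, hw⟩ := (h2 m hm).2
    exact ⟨QuotientGroup.mk w⁻¹, by rw [hw]; exact congrArg (fun v => key (List.ofFn (x ᵥ* wm hp v))) (inv_inv w)⟩
  calc _ = S.card := h1.symm
    _ = (S : Set ℕ).ncard := (Set.ncard_coe_finset S).symm
    _ ≤ (Set.range g).ncard := Set.ncard_le_ncard h3 (Set.finite_range g)
    _ ≤ _ := by
      rw [← Set.image_univ, Subgroup.index, ← Set.ncard_univ]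
      exact Set.ncard_image_le Set.finite_univ

/-- the stabiliser by counting -/
theorem range_eq {Γ : Type} [Group Γ] {Ψ : Γ →* M.Group} (hi : Function.Injective Ψ) {x : Fin l → ℤ}
    (hle : ∀ γ, Ψ γ ∈ S3m hp x) {n : ℕ} (hn : n ≤ (S3m hp x).index) (hc : n * Nat.card Γ = Nat.card M.Group) :
    Ψ.range = S3m hp x ∧ (S3m hp x).index = n := by
  have := finite_W hp M.toCoxeterSystem
  have h1 : Ψ.range ≤ S3m hp x := by rintro _ ⟨γ, rfl⟩; exact hle γ
  have h2 : Ψ.range.index = n := by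
    have h3 := Ψ.range.index_mul_card
    rw [← Nat.card_congr (MonoidHom.ofInjective hi).toEquiv, ← hc] at h3
    refine Nat.eq_of_mul_eq_mul_right (Nat.pos_of_ne_zero fun h => ?_) h3
    rw [h, mul_zero] at hc
    exact Nat.card_pos.ne hc
  have h4 : (S3m hp x).index = n := le_antisymm (h2 ▸ Subgroup.index_antitone h1) hn
  refine ⟨Subgroup.eq_of_le_of_card_ge h1 (le_of_eq (Nat.eq_of_mul_eq_mul_left (n := n) ?_ ?_)), h4⟩
  · rw [← h2]
    exact Nat.pos_of_ne_zero Subgroup.index_ne_zero_of_finite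
  · conv_lhs => rw [← h4, Subgroup.index_mul_card]
    rw [← h2, Subgroup.index_mul_card]

section datum

variable {hp} {p : ℕ} [Fact p.Prime] {k : Type} [Field k] [CharP k p] [IsAlgClosed k] {Mx : Matrix (Fin l) (Fin l) ℤ}
  (X : XF hp p k Mx)

theorem rel_iff {v : M.Group} {x x' : Fin l → ℤ} :
    PP.Rel X.D v (cx X.D x om) (cx X.D x' om) ↔ ∀ i, (3 : ℤ) ∣ (x' ᵥ* wm hp v - x) i :=
  (rel_cx_iff (D := X.D)).trans
    (Iff.of_eq (congrArg (fun B : Matrix (Fin l) (Fin l) ℤ => ∀ i, (3 : ℤ) ∣ (x' ᵥ* B - x) i) (Wm_eq hp X v)))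

theorem Wc_cx (x : Fin l → ℤ) : ClA.Wc (cx X.D x om) = S3m hp x := Subgroup.ext fun v => rel_iff X

theorem Wl_eq (y : Fin l → ℤ) : Wl X.D y = St hp y := Subgroup.ext fun v =>
  Iff.of_eq (congrArg (fun B : Matrix (Fin l) (Fin l) ℤ => B *ᵥ y = y) (Wm_eq hp X v))

theorem sg_eq (w : M.Group) : sg X.D w = sgn hp w :=
  congrArg (fun B : Matrix (Fin l) (Fin l) ℤ => ((B.det : ℤ) : ℂ)) (Wm_eq hp X w)

theorem fm_of {Γ : Type} [Group Γ] {Ψ : Γ →* M.Group} (hi : Function.Injective Ψ) {x : Fin l → ℤ}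
    (h : Ψ.range = S3m hp x) : Fm (D := X.D) Ψ (cx X.D x om) :=
  ⟨hi, fun v => (rel_iff X).trans (SetLike.ext_iff.1 h v).symm⟩

variable [Fintype ↥(GF X.F ⊤)] {f : Fr X.D} {w₀ : X.D.W} {Q : ℤ}

/-- **Levi subgroups**: `U` is the stabiliser of `C x`, where `x ≡ x0`. -/
theorem gen_lev (hs : Sy C l) (h : Sc X.D w₀ Q) (hA : Api f) {Γ : Type} [Group Γ] [Fintype Γ] {Ψ : Γ →* M.Group}
    {x0 : Fin l → ℤ} (E : Fm (D := X.D) Ψ (cx X.D x0 om)) {U : Subgroup Γ} {n : Γ}
    (hn : n ∈ Subgroup.normalizer (U : Set Γ)) {x : Fin l → ℤ} (hx : ∀ i, (3 : ℤ) ∣ (x - x0) i)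
    (hU : ∀ γ, γ ∈ U ↔ Ψ γ ∈ St hp (Cm C l *ᵥ x)) :
    IsGeneralizedCharacter ↥(GF X.F ⊤) (cg (D := X.D) f w₀ Ψ (cx X.D x0 om) (Phi U n)) ∧
      IsGeneralizedCharacter ↥(GF X.F ⊤) (cg (D := X.D) f w₀ Ψ (cx X.D x0 om) fun g => Phi U n g * sgn hp (Ψ g)) := by
  have h1 := gen h E hA (fx_cx h x0) hn (lam := Cm C l *ᵥ x) (x := x) (ξ := om) ?_ ((cx_eq_iff (D := X.D)).2 hx).symm
    fun u hu => (congrArg (x ᵥ* ·) (Wm_eq hp X _)).trans ((fix_iff hp hs).1 ((hU u).1 hu))
  · have e : (fun g => Phi U n g * sgn hp (Ψ g)) = fun g => Phi U n g * sg X.D (Ψ g) :=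
      funext fun g => congrArg _ (sg_eq X _).symm
    rw [e]
    exact h1
  refine (Wl_eq X _).trans (Subgroup.ext fun v => ⟨fun hv => ?_, ?_⟩)
  · obtain ⟨γ, rfl⟩ := (E.mem v).1 ((rel_iff X).2 (mem_S3m_of hp ((fix_iff hp hs).1 hv) hx))
    exact ⟨γ, (hU γ).2 hv, rfl⟩
  · rintro ⟨γ, hγ, rfl⟩
    exact (hU γ).1 hγ

/-- the label `1` -/
theorem gen_one (h : Sc X.D w₀ Q) (hA : Api f) [Fintype M.Group] {ι : Type} {lam : ι → Fin l → ℤ} {n : ι → List (Fin l)}
    (hn : ∀ i, wd M (n i) ∈ Subgroup.normalizer (St hp (lam i) : Set M.Group)) (a : ι × Bool) :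
    IsGeneralizedCharacter ↥(GF X.F ⊤) (cg (D := X.D) (Γ := M.Group) f w₀ (MonoidHom.id _) 1 (ph hp lam n a)) := by
  have h1 := gen (Γ := M.Group) (Ψ := MonoidHom.id _) h fm_one hA (fx_one w₀) (hn a.1) (lam := lam a.1) (x := 0) (ξ := om)
    ((Wl_eq X _).trans (Subgroup.map_id _).symm) (cx_zero om).symm fun u _ => zero_vecMul _
  obtain ⟨i, _ | _⟩ := a
  · have e : ph hp lam n (i, false) = Phi (St hp (lam i)) (wd M (n i)) := funext fun g => mul_one _
    rw [e]
    exact h1.1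
  · have e : ph hp lam n (i, true) = fun g => Phi (St hp (lam i)) (wd M (n i)) g * sg X.D g :=
      funext fun g => congrArg _ (sg_eq X g).symm
    rw [e]
    exact h1.2

end datum

/-! ### the three orbits -/

theorem idx6 : 240 ≤ (S3m hpE6 ![2, 3, 4, 6, 4, 2]).index :=
  le_trans (by decide +kernel) (le_index hpE6 isRows_E6 240 ![2, 3, 4, 6, 4, 2])

theorem idx7 : 56 ≤ (S3m hpE7 ![2, 3, 4, 6, 5, 4, 3]).index :=
  le_trans (by decide +kernel) (le_index hpE7 isRows_E7 56 ![2, 3, 4, 6, 5, 4, 3])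

theorem idx8 : 2240 ≤ (S3m hpE8 ![4, 6, 8, 12, 10, 8, 6, 3]).index :=
  le_trans (by decide +kernel) (le_index hpE8 isRows_E8 2240 ![4, 6, 8, 12, 10, 8, 6, 3])

/-! ### parabolic subgroups -/

section emb

variable {C' : ChevalleyDatum} {m : ℕ} {M' : CoxeterMatrix (Fin m)} (hp' : IsType C' m M') {e : Fin m → Fin l}

/-- the embedding of a parabolic subgroup -/
noncomputable def emb (he : ∀ i j, M' i j = M (e i) (e j)) : M'.Group →* M.Group :=
  M'.toCoxeterSystem.lift ⟨fun i => M.toCoxeterSystem.simple (e i), fun i j => by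
    rw [he]; exact M.toCoxeterSystem.simple_mul_simple_pow _ _⟩

variable (he : ∀ i j, M' i j = M (e i) (e j))

theorem emb_simple (i : Fin m) : emb he (M'.toCoxeterSystem.simple i) = M.toCoxeterSystem.simple (e i) :=
  lift_apply_simple _ _ i

theorem emb_mem {H : Subgroup M.Group} (h : ∀ i, M.toCoxeterSystem.simple (e i) ∈ H) (w : M'.Group) : emb he w ∈ H := by
  induction w using M'.toCoxeterSystem.simple_induction with
  | one => rw [map_one]; exact H.one_mem
  | mul v w hv hw => rw [map_mul]; exact H.mul_mem hv hw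
  | simple i => rw [emb_simple]; exact h i

theorem emb_coord (hc : ∀ i j, cartanOf C' m i j = cartanOf C l (e i) (e j)) (w : M'.Group) (y : Fin l → ℤ) :
    (wm hp (emb he w) *ᵥ y) ∘ e = wm hp' w *ᵥ (y ∘ e) := by
  induction w using M'.toCoxeterSystem.simple_induction generalizing y with
  | one => rw [map_one, map_one, map_one, one_mulVec, one_mulVec]
  | mul v w hv hw => rw [map_mul, map_mul, map_mul, ← mulVec_mulVec, ← mulVec_mulVec, hv, hw]
  | simple i =>
    rw [emb_simple, wm_simple, wm_simple, sM_mulVec, sM_mulVec]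
    funext a
    rw [hc]
    rfl

theorem sgn_emb (w : M'.Group) : sgn hp (emb he w) = sgn hp' w := by
  induction w using M'.toCoxeterSystem.simple_induction with
  | one => rw [map_one, sgn_one, sgn_one]
  | mul v w hv hw => rw [map_mul, sgn_mul, sgn_mul, hv, hw]
  | simple i => rw [emb_simple, sgn_simple, sgn_simple]

theorem eq_one_of_fix {w : M.Group} (h : ∀ y, wm hp w *ᵥ y = y) : w = 1 :=
  wm_inj hp (by rw [map_one]; exact Matrix.ext_iff_mulVec.2 fun y => by rw [h, one_mulVec])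

include hp hp' in
theorem emb_inj (hc : ∀ i j, cartanOf C' m i j = cartanOf C l (e i) (e j)) (hi : Function.Injective e) :
    Function.Injective (emb he) := (injective_iff_map_eq_one _).2 fun w hw => eq_one_of_fix hp' fun y => by
  have h := emb_coord hp hp' he hc w (Function.extend e y 0)
  rwa [hw, map_one, one_mulVec, Function.extend_comp hi, eq_comm] at h

end emb

/-! ### the subsystems of type `A₂` -/

/-- the transposition `(0 1)` -/
abbrev t01 : S3 := Equiv.swap 0 1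

/-- the transposition `(1 2)` -/
abbrev t12 : S3 := Equiv.swap 1 2

/-- reduced words -/
def s3w (g : S3) : List Bool :=
  if g = 1 then [] else if g = t01 then [true] else if g = t12 then [false] else if g = t01 * t12 then [true, false] else
    if g = t12 * t01 then [false, true] else [true, false, true]

theorem s3w_prod (g : S3) : ((s3w g).map fun c => cond c t01 t12).prod = g := by
  revert g
  decide +kernel

theorem s3_cases (g : S3) : g = 1 ∨ g = t01 ∨ g = t12 ∨ g = t01 * t12 ∨ g = t12 * t01 ∨ g = t01 * t12 * t01 := by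
  revert g
  decide +kernel

theorem s3_ind {P : S3 → Prop} (h1 : P 1) (h2 : ∀ g, P g → P (t01 * g)) (h3 : ∀ g, P g → P (t12 * g)) (g : S3) : P g := by
  rw [← s3w_prod g]
  induction s3w g with
  | nil => exact h1
  | cons c L ih =>
    rw [List.map_cons, List.prod_cons]
    cases c
    exacts [h3 _ ih, h2 _ ih]

section s3

variable {H : Type} [Group H] {a b : H} (ha : a * a = 1) (hb : b * b = 1) (hab : a * b * a = b * a * b)

/-- the value of the reduced word -/
def s3f (a b : H) (g : S3) : H := ((s3w g).map fun c => cond c a b).prod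

include ha hb hab

theorem s3f_left (g : S3) : s3f a b (t01 * g) = a * s3f a b g ∧ s3f a b (t12 * g) = b * s3f a b g := by
  have ha' : ∀ x, a * (a * x) = x := fun x => by rw [← mul_assoc, ha, one_mul]
  have hb' : ∀ x, b * (b * x) = x := fun x => by rw [← mul_assoc, hb, one_mul]
  have hab' : b * (a * b) = a * (b * a) := by rw [← mul_assoc, ← hab, mul_assoc]
  have key : ∀ (t g : S3) (L L' : List Bool) (x : H), s3w (t * g) = L → s3w g = L' →
      (L.map fun c => cond c a b).prod = x * (L'.map fun c => cond c a b).prod → s3f a b (t * g) = x * s3f a b g :=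
    fun t g L L' x h1 h2 h3 => by rw [s3f, s3f, h1, h2, h3]
  rcases s3_cases g with rfl | rfl | rfl | rfl | rfl | rfl
  · exact ⟨key _ _ [true] [] _ (by decide +kernel) (by decide +kernel) (by simp),
      key _ _ [false] [] _ (by decide +kernel) (by decide +kernel) (by simp)⟩
  · exact ⟨key _ _ [] [true] _ (by decide +kernel) (by decide +kernel) (by simp [ha]),
      key _ _ [false, true] [true] _ (by decide +kernel) (by decide +kernel) (by simp)⟩
  · exact ⟨key _ _ [true, false] [false] _ (by decide +kernel) (by decide +kernel) (by simp),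
      key _ _ [] [false] _ (by decide +kernel) (by decide +kernel) (by simp [hb])⟩
  · exact ⟨key _ _ [false] [true, false] _ (by decide +kernel) (by decide +kernel) (by simp [ha']),
      key _ _ [true, false, true] [true, false] _ (by decide +kernel) (by decide +kernel) (by simp [hab'])⟩
  · exact ⟨key _ _ [true, false, true] [false, true] _ (by decide +kernel) (by decide +kernel) (by simp),
      key _ _ [true] [false, true] _ (by decide +kernel) (by decide +kernel) (by simp [hb'])⟩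
  · exact ⟨key _ _ [false, true] [true, false, true] _ (by decide +kernel) (by decide +kernel) (by simp [ha']),
      key _ _ [true, false] [true, false, true] _ (by decide +kernel) (by decide +kernel) (by simp [← hab', hb'])⟩

/-- the homomorphism with `(0 1) ↦ a`, `(1 2) ↦ b` -/
def s3hom : S3 →* H := MonoidHom.mk' (s3f a b) fun g h => by
  induction g using s3_ind with
  | h1 => rw [one_mul, show s3f a b 1 = 1 from rfl, one_mul]
  | h2 g ih => rw [mul_assoc, (s3f_left ha hb hab _).1, (s3f_left ha hb hab _).1, ih, mul_assoc]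
  | h3 g ih => rw [mul_assoc, (s3f_left ha hb hab _).2, (s3f_left ha hb hab _).2, ih, mul_assoc]

theorem s3hom_01 : s3hom ha hb hab t01 = a := by
  have h := (s3f_left ha hb hab 1).1
  rwa [mul_one, show s3f a b 1 = 1 from rfl, mul_one] at h

theorem s3hom_12 : s3hom ha hb hab t12 = b := by
  have h := (s3f_left ha hb hab 1).2
  rwa [mul_one, show s3f a b 1 = 1 from rfl, mul_one] at h

end s3

theorem s3_mem {H : Type} [Group H] (κ : S3 →* H) {K : Subgroup H} (h1 : κ t01 ∈ K) (h2 : κ t12 ∈ K) (s : S3) : κ s ∈ K := by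
  induction s using s3_ind with
  | h1 => rw [map_one]; exact K.one_mem
  | h2 g ih => rw [map_mul]; exact K.mul_mem h1 ih
  | h3 g ih => rw [map_mul]; exact K.mul_mem h2 ih

theorem sgn_s3 (κ : S3 →* M.Group) (h1 : sgn hp (κ t01) = -1) (h2 : sgn hp (κ t12) = -1) (s : S3) :
    sgn hp (κ s) = nu 1 s := by
  have h : ∀ g : S3, nuZ 1 (t01 * g) = -nuZ 1 g ∧ nuZ 1 (t12 * g) = -nuZ 1 g := by decide +kernel
  induction s using s3_ind with
  | h1 => rw [map_one, sgn_one, nu_one]; simp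
  | h2 g ih => rw [map_mul, sgn_mul, h1, ih]; exact ((congrArg _ (h g).1).trans (by push_cast; rw [neg_one_mul]; rfl)).symm
  | h3 g ih => rw [map_mul, sgn_mul, h2, ih]; exact ((congrArg _ (h g).2).trans (by push_cast; rw [neg_one_mul]; rfl)).symm

/-- three weights permuted by `κ` (for simple roots `α`, `β` take `2 α + β`, `β - α`, `-α - 2 β`) -/
theorem tri (κ : S3 →* M.Group) {T : Fin 3 → Fin l → ℤ} (h1 : ∀ j, T j ᵥ* wm hp (κ t01) = T (t01 j))
    (h2 : ∀ j, T j ᵥ* wm hp (κ t12) = T (t12 j)) (s : S3) (j : Fin 3) : T j ᵥ* wm hp (κ s) = T (s⁻¹ j) := by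
  induction s using s3_ind generalizing j with
  | h1 => rw [map_one, map_one, vecMul_one]; rfl
  | h2 g ih => rw [map_mul, map_mul, ← vecMul_vecMul, h1, ih]; rfl
  | h3 g ih => rw [map_mul, map_mul, ← vecMul_vecMul, h2, ih]; rfl

/-! ### induced functions on `S₃` -/

/-- the stabiliser of a function -/
def Sf (t : Fin 3 → ℤ) : Subgroup S3 where
  carrier := {s | ∀ j, t (s⁻¹ j) = t j}
  one_mem' _ := rfl
  mul_mem' {a b} ha hb j := by
    rw [_root_.mul_inv_rev, Equiv.Perm.mul_apply, hb, ha]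
  inv_mem' {a} ha j := by
    rw [← ha, inv_inv]
    exact congrArg t (a.symm_apply_apply j)

theorem mem_Sf {t : Fin 3 → ℤ} {s : S3} : s ∈ Sf t ↔ ∀ j, t (s⁻¹ j) = t j := Iff.rfl

theorem Sf_congr {t t' : Fin 3 → ℤ} (h : ∀ i j, t i = t j ↔ t' i = t' j) : Sf t = Sf t' :=
  Subgroup.ext fun _ => forall_congr' fun _ => h _ _

theorem Sf_top {t : Fin 3 → ℤ} (h1 : t 0 = t 1) (h2 : t 1 = t 2) : Sf t = ⊤ := eq_top_iff.2 fun s _ j => by
  have h : ∀ i, t i = t 0 := fun i => by fin_cases i <;> simp [h1, h2]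
  rw [h, h j]

theorem Sf_bot {t : Fin 3 → ℤ} (h1 : t 0 ≠ t 1) (h2 : t 1 ≠ t 2) (h3 : t 0 ≠ t 2) : Sf t = ⊥ := by
  have h : Function.Injective t := fun i j e => by fin_cases i <;> fin_cases j <;> simp_all
  exact eq_bot_iff.2 fun s hs => Subgroup.mem_bot.2 (inv_eq_one.1 (Equiv.ext fun j => h (hs j)))

theorem Phi_Sf_eq (t : Fin 3 → ℤ) (n : S3) (φ : S3 → ℤ)
    (h : ∀ g, ((Finset.univ.filter fun v : S3 => ∀ j, t ((v⁻¹ * g * v * n⁻¹)⁻¹ j) = t j).card : ℤ) =
      φ g * (Finset.univ.filter fun v : S3 => ∀ j, t (v⁻¹ j) = t j).card) (g : S3) : Phi (Sf t) n g = φ g := by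
  have h1 : Nat.card (Sf t) = (Finset.univ.filter fun v : S3 => ∀ j, t (v⁻¹ j) = t j).card := by
    rw [← Fintype.card_subtype, ← Nat.card_eq_fintype_card]
    rfl
  have h2 : Nat.card {v : S3 // v⁻¹ * g * v * n⁻¹ ∈ Sf t} =
      (Finset.univ.filter fun v : S3 => ∀ j, t ((v⁻¹ * g * v * n⁻¹)⁻¹ j) = t j).card := by
    rw [← Fintype.card_subtype, ← Nat.card_eq_fintype_card]
    rfl
  show (Nat.card {v : S3 // v⁻¹ * g * v * n⁻¹ ∈ Sf t} : ℂ) / Nat.card (Sf t) = _
  rw [div_eq_iff (Nat.cast_ne_zero.2 Nat.card_pos.ne'), h1, h2]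
  exact_mod_cast h g

theorem Phi_top_one : Phi (⊤ : Subgroup S3) 1 = nu 0 := funext fun g => by rw [Phi_top]; simp [nu, nuZ]

/-- exactly two of the values are equal -/
theorem Phi_two {t : Fin 3 → ℤ} (h : (t 0 = t 1 ∧ t 1 ≠ t 2) ∨ (t 1 = t 2 ∧ t 0 ≠ t 1) ∨ (t 0 = t 2 ∧ t 0 ≠ t 1)) :
    Phi (Sf t) 1 = nu 0 + nu 2 := by
  have key : ∀ t' : Fin 3 → ℤ, (∀ i j, t i = t j ↔ t' i = t' j) → t' ∈ [![0, 0, 1], ![1, 0, 0], ![0, 1, 0]] →
      Phi (Sf t) 1 = nu 0 + nu 2 := fun t' h1 h2 => funext fun g => by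
    have h3 : ∀ t' ∈ ([![0, 0, 1], ![1, 0, 0], ![0, 1, 0]] : List (Fin 3 → ℤ)), ∀ g : S3,
        ((Finset.univ.filter fun v : S3 => ∀ j, t' ((v⁻¹ * g * v * 1⁻¹)⁻¹ j) = t' j).card : ℤ) =
        (nuZ 0 g + nuZ 2 g) * (Finset.univ.filter fun v : S3 => ∀ j, t' (v⁻¹ j) = t' j).card := by decide +kernel
    rw [Sf_congr h1, Phi_Sf_eq t' 1 (fun g => nuZ 0 g + nuZ 2 g) (h3 t' h2), Int.cast_add]
    rfl
  rcases h with h | h | h
  · exact key ![0, 0, 1] (fun i j => by fin_cases i <;> fin_cases j <;> simp <;> omega) (by simp)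
  · exact key ![1, 0, 0] (fun i j => by fin_cases i <;> fin_cases j <;> simp <;> omega) (by simp)
  · exact key ![0, 1, 0] (fun i j => by fin_cases i <;> fin_cases j <;> simp <;> omega) (by simp)

theorem Phi_bot_t01 : Phi (⊥ : Subgroup S3) t01 = nu 0 - nu 1 := funext fun g => by
  rw [← Sf_bot (t := ![0, 1, 2]) (by decide) (by decide) (by decide),
    Phi_Sf_eq _ _ (fun g => nuZ 0 g - nuZ 1 g) (by decide +kernel), Int.cast_sub]
  rfl

theorem Phi_bot_cyc : Phi (⊥ : Subgroup S3) (t01 * t12) = nu 0 + nu 1 - nu 2 := funext fun g => by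
  rw [← Sf_bot (t := ![0, 1, 2]) (by decide) (by decide) (by decide),
    Phi_Sf_eq _ _ (fun g => nuZ 0 g + nuZ 1 g - nuZ 2 g) (by decide +kernel), Int.cast_sub, Int.cast_add]
  rfl

theorem nu_zero (g : S3) : nu 0 g = 1 := by simp [nu, nuZ]

theorem nu_one_mul (g : S3) : nu 1 g * nu 1 g = 1 := by
  have h : ∀ g : S3, nuZ 1 g * nuZ 1 g = 1 := by decide +kernel
  exact (Int.cast_mul _ _).symm.trans ((congrArg _ (h g)).trans Int.cast_one)

theorem nu_two_mul (g : S3) : nu 2 g * nu 1 g = nu 2 g := by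
  have h : ∀ g : S3, nuZ 2 g * nuZ 1 g = nuZ 2 g := by decide +kernel
  exact (Int.cast_mul _ _).symm.trans (congrArg _ (h g))

theorem mem_normalizer_bot {H : Type} [Group H] (n : H) : n ∈ Subgroup.normalizer ((⊥ : Subgroup H) : Set H) := by
  rw [Subgroup.normalizer_eq_top]
  trivial

theorem mem_normalizer_prod {H H' : Type} [Group H] [Group H'] {U : Subgroup H} {U' : Subgroup H'} {n : H} {n' : H'}
    (h : n ∈ Subgroup.normalizer (U : Set H)) (h' : n' ∈ Subgroup.normalizer (U' : Set H')) :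
    (n, n') ∈ Subgroup.normalizer (U.prod U' : Set (H × H')) :=
  Subgroup.mem_normalizer_iff.2 fun g => and_congr (Subgroup.mem_normalizer_iff.1 h g.1) (Subgroup.mem_normalizer_iff.1 h' g.2)

end Cfsg.Agent.KZ.Exc.EFr
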