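import Cfsg.Agent.KZ.Exc.EFr

/-!
# KZ, the frames of `E₇` and `E₈` (helper52)

`in7 : Nonempty (In7 f w₀)`, `in8 : Nonempty (In8 f w₀)`.
-/

set_option autoImplicit false
set_option linter.unusedSectionVars false
set_option linter.unusedVariables false
set_option maxHeartbeats 400000
set_option maxRecDepth 100000

namespace Cfsg.Agent.KZ.Exc.EFr

open CoxeterSystem Cfsg Cfsg.Lie Cfsg.Lie.ChevalleyDatum Matrix
open Cfsg.Agent.ChevalleyStructure Cfsg.Agent.ChevalleyStructure.CoxeterGeom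
  Cfsg.Agent.ChevalleyStructure.CoxeterGeomTypes
open Cfsg.Agent.Tits.Roots Cfsg.Agent.Nodes Cfsg.Agent.Nodes.RGDChev Cfsg.Agent.DL Cfsg.Agent.DL.PP
open Cfsg.Agent.KZ.Lie Cfsg.Agent.KZ.DatX Cfsg.Agent.KZ.Cl Cfsg.Agent.Characters.Core

theorem mem_St_smul {a : ℤ} (ha : a ≠ 0) {y : Fin 6 → ℤ} {w : W6} : wm hpE6 w *ᵥ (a • y) = a • y ↔ w ∈ St hpE6 y := by
  rw [mulVec_smul, mem_St]
  exact (smul_right_injective _ ha).eq_iff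

theorem ph6_false (i : Fin 8) : ph6 (i, false) = Phi (St hpE6 (lam6 i)) (wd _ (n6 i)) := funext fun _ => mul_one _

theorem ph6_true (i : Fin 8) (g : W6) : ph6 (i, true) g = Phi (St hpE6 (lam6 i)) (wd _ (n6 i)) g * sgn hpE6 g := rfl

/-! ### `E₇` -/

/-- the first six nodes -/
def e7 : Fin 6 → Fin 7 := Fin.castLE (by decide)

theorem he7 (i j : Fin 6) : CoxeterMatrix.E₆ i j = CoxeterMatrix.E₇ (e7 i) (e7 j) := by
  fin_cases i <;> fin_cases j <;> rfl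

theorem hc7 : ∀ i j, cartanOf chevE6 6 i j = cartanOf chevE7 7 (e7 i) (e7 j) := by decide +kernel

/-- the weight of the label -/
def x7 : Fin 7 → ℤ := ![2, 3, 4, 6, 5, 4, 3]

theorem emb7_fix (w : W6) : emb he7 w ∈ Sw hpE7 x7 :=
  emb_mem he7 (fun i => simple_mem_Sw hpE7 (by revert i; decide +kernel)) w

theorem inj7 : Function.Injective (emb he7) := emb_inj hpE7 hpE6 he7 hc7 (Fin.castLE_injective _)

theorem range7 : (emb he7).range = S3m hpE7 x7 ∧ (S3m hpE7 x7).index = 56 :=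
  range_eq hpE7 inj7 (fun w => mem_S3m_of hpE7 (emb7_fix w) fun i => by rw [sub_self]; exact dvd_zero _) idx7
    (by rw [card_W_E6, card_W_E7])

theorem ext7 {z y : Fin 7 → ℤ} (h1 : z ∘ e7 = y ∘ e7) (h2 : x7 ⬝ᵥ z = x7 ⬝ᵥ y) : z = y := by
  have a0 : z 0 = y 0 := congrFun h1 0
  have a1 : z 1 = y 1 := congrFun h1 1
  have a2 : z 2 = y 2 := congrFun h1 2
  have a3 : z 3 = y 3 := congrFun h1 3
  have a4 : z 4 = y 4 := congrFun h1 4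
  have a5 : z 5 = y 5 := congrFun h1 5
  rw [dotProduct, dotProduct, Fin.sum_univ_seven, Fin.sum_univ_seven] at h2
  have h3 : 2 * z 0 + 3 * z 1 + 4 * z 2 + 6 * z 3 + 5 * z 4 + 4 * z 5 + 3 * z 6 =
    2 * y 0 + 3 * y 1 + 4 * y 2 + 6 * y 3 + 5 * y 4 + 4 * y 5 + 3 * y 6 := h2
  have a6 : z 6 = y 6 := by omega
  funext i
  fin_cases i
  exacts [a0, a1, a2, a3, a4, a5, a6]

theorem st7 {lam : Fin 7 → ℤ} {y : Fin 6 → ℤ} {a : ℤ} (ha : a ≠ 0) (h : lam ∘ e7 = a • y) (w : W6) :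
    w ∈ St hpE6 y ↔ emb he7 w ∈ St hpE7 lam := by
  have h1 := emb_coord hpE7 hpE6 he7 hc7 w lam
  rw [h] at h1
  refine ⟨fun hw => ext7 (h1.trans (((mem_St_smul ha).2 hw).trans h.symm)) (dot_wm hpE7 (emb7_fix w) _), fun hw => ?_⟩
  rw [(mem_St hpE7).1 hw, h] at h1
  exact (mem_St_smul ha).1 h1.symm

/-- the weights of the types -/
def xs7 (i : Fin 8) : Fin 7 → ℤ :=
  inv7 *ᵥ ![3 * lam6 i 0, 3 * lam6 i 1, 3 * lam6 i 2, 3 * lam6 i 3, 3 * lam6 i 4, 3 * lam6 i 5, 1]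

theorem xs7_dvd : ∀ i j, (3 : ℤ) ∣ (xs7 i - x7) j := by decide +kernel

theorem xs7_lam : ∀ i, (Cm chevE7 7 *ᵥ xs7 i) ∘ e7 = (6 : ℤ) • lam6 i := by decide +kernel

/-! ### `E₈` -/

/-- the first six nodes -/
def e8 : Fin 6 → Fin 8 := Fin.castLE (by decide)

theorem he8 (i j : Fin 6) : CoxeterMatrix.E₆ i j = CoxeterMatrix.E₈ (e8 i) (e8 j) := by
  fin_cases i <;> fin_cases j <;> rfl

theorem hc8 : ∀ i j, cartanOf chevE6 6 i j = cartanOf chevE8 8 (e8 i) (e8 j) := by decide +kernel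

/-- the reflection in the highest root -/
noncomputable def rθ : W8 := wd CoxeterMatrix.E₈ [7, 6, 5, 4, 3, 1, 2, 0, 3, 2, 4, 3, 1, 5, 4, 3, 2, 0, 6, 5, 4, 3, 1, 2, 3, 4, 5,
  6, 7, 6, 5, 4, 3, 2, 1, 3, 4, 5, 6, 0, 2, 3, 4, 5, 1, 3, 4, 2, 3, 0, 2, 1, 3, 4, 5, 6, 7]

/-- its matrix -/
def Bθ : Matrix (Fin 8) (Fin 8) ℤ := !![1, 0, 0, 0, 0, 0, 0, 0; 0, 1, 0, 0, 0, 0, 0, 0; 0, 0, 1, 0, 0, 0, 0, 0;
  0, 0, 0, 1, 0, 0, 0, 0; 0, 0, 0, 0, 1, 0, 0, 0; 0, 0, 0, 0, 0, 1, 0, 0; 0, 0, 0, 0, 0, 0, 1, 0;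
  -2, -3, -4, -6, -5, -4, -3, -1]

theorem wm_rθ : wm hpE8 rθ = Bθ := (wm_wd hpE8 _).trans (prod_eq_of isRows_E8 _ (by decide +kernel))

theorem rθ_sq : rθ * rθ = 1 := wm_inj hpE8 (by rw [map_mul, map_one, wm_rθ]; decide +kernel)

theorem rθ_braid : CoxeterMatrix.E₈.toCoxeterSystem.simple 7 * rθ * CoxeterMatrix.E₈.toCoxeterSystem.simple 7 =
    rθ * CoxeterMatrix.E₈.toCoxeterSystem.simple 7 * rθ :=
  wm_inj hpE8 (by rw [map_mul, map_mul, map_mul, map_mul, wm_rθ, wm_simple]; decide +kernel)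

/-- the Weyl group of the factor `A₂` -/
noncomputable def κ8 : S3 →* W8 := s3hom (simple_mul_simple_self _ 7) rθ_sq rθ_braid

theorem κ8_01 : κ8 t01 = CoxeterMatrix.E₈.toCoxeterSystem.simple 7 := s3hom_01 _ _ _

theorem κ8_12 : κ8 t12 = rθ := s3hom_12 _ _ _

theorem comm8 (w : W6) (s : S3) : Commute (emb he8 w) (κ8 s) := by
  refine Subgroup.mem_centralizer_singleton_iff.1 (emb_mem he8 (H := Subgroup.centralizer {κ8 s}) (fun i => ?_) w)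
  refine Subgroup.mem_centralizer_singleton_iff.2 (Subgroup.mem_centralizer_singleton_iff.1
    (s3_mem κ8 (K := Subgroup.centralizer {CoxeterMatrix.E₈.toCoxeterSystem.simple (e8 i)}) ?_ ?_ s)).symm
  · refine Subgroup.mem_centralizer_singleton_iff.2 (wm_inj hpE8 ?_)
    rw [map_mul, map_mul, κ8_01, wm_simple, wm_simple]
    revert i
    decide +kernel
  · refine Subgroup.mem_centralizer_singleton_iff.2 (wm_inj hpE8 ?_)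
    rw [map_mul, map_mul, κ8_12, wm_rθ, wm_simple]
    revert i
    decide +kernel

/-- the Weyl group of `E₆ A₂` -/
noncomputable def Ψ8 : W6 × S3 →* W8 := MonoidHom.noncommCoprod (emb he8) κ8 comm8

theorem Ψ8_apply (w : W6) (s : S3) : Ψ8 (w, s) = emb he8 w * κ8 s := rfl

/-- the three weights -/
def T8 : Fin 3 → Fin 8 → ℤ := ![![-2, -3, -4, -6, -5, -4, -3, 0], ![-2, -3, -4, -6, -5, -4, -3, -3], ![4, 6, 8, 12, 10, 8, 6, 3]]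

theorem emb8_fix (w : W6) (j : Fin 3) : emb he8 w ∈ Sw hpE8 (T8 j) :=
  emb_mem he8 (fun i => simple_mem_Sw hpE8 (by revert i j; decide +kernel)) w

theorem κ8_T (s : S3) (j : Fin 3) : T8 j ᵥ* wm hpE8 (κ8 s) = T8 (s⁻¹ j) :=
  tri hpE8 κ8 (by rw [κ8_01, wm_simple]; decide +kernel) (by rw [κ8_12, wm_rθ]; decide +kernel) s j

theorem κ8_fix (s : S3) (i : Fin 6) : κ8 s ∈ Sw hpE8 (Pi.single (e8 i) 1) :=
  s3_mem κ8 (by rw [κ8_01, mem_Sw, wm_simple]; revert i; decide +kernel)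
    (by rw [κ8_12, mem_Sw, wm_rθ]; revert i; decide +kernel) s

theorem Ψ8_coord (w : W6) (s : S3) (y : Fin 8 → ℤ) : (wm hpE8 (Ψ8 (w, s)) *ᵥ y) ∘ e8 = wm hpE6 w *ᵥ (y ∘ e8) := by
  rw [Ψ8_apply, map_mul, ← mulVec_mulVec, emb_coord hpE8 hpE6 he8 hc8]
  congr 1
  funext i
  have h := dot_wm hpE8 (κ8_fix s i) y
  rwa [single_dotProduct, single_dotProduct, one_mul, one_mul] at h

theorem Ψ8_T (w : W6) (s : S3) (j : Fin 3) : T8 j ᵥ* wm hpE8 (Ψ8 (w, s)) = T8 (s⁻¹ j) := by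
  rw [Ψ8_apply, map_mul, ← vecMul_vecMul, (mem_Sw hpE8).1 (emb8_fix w j), κ8_T]

theorem Ψ8_dot (w : W6) (s : S3) (j : Fin 3) (y : Fin 8 → ℤ) :
    T8 j ⬝ᵥ (wm hpE8 (Ψ8 (w, s)) *ᵥ y) = T8 (s⁻¹ j) ⬝ᵥ y := by rw [dotProduct_mulVec, Ψ8_T]

theorem ext8 {z y : Fin 8 → ℤ} (h1 : z ∘ e8 = y ∘ e8) (h2 : ∀ j, T8 j ⬝ᵥ z = T8 j ⬝ᵥ y) : z = y := by
  have a0 : z 0 = y 0 := congrFun h1 0
  have a1 : z 1 = y 1 := congrFun h1 1
  have a2 : z 2 = y 2 := congrFun h1 2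
  have a3 : z 3 = y 3 := congrFun h1 3
  have a4 : z 4 = y 4 := congrFun h1 4
  have a5 : z 5 = y 5 := congrFun h1 5
  have b0 := h2 0
  have b1 := h2 1
  rw [dotProduct, dotProduct, Fin.sum_univ_eight, Fin.sum_univ_eight] at b0 b1
  have c0 : -2 * z 0 + -3 * z 1 + -4 * z 2 + -6 * z 3 + -5 * z 4 + -4 * z 5 + -3 * z 6 + 0 * z 7 =
    -2 * y 0 + -3 * y 1 + -4 * y 2 + -6 * y 3 + -5 * y 4 + -4 * y 5 + -3 * y 6 + 0 * y 7 := b0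
  have c1 : -2 * z 0 + -3 * z 1 + -4 * z 2 + -6 * z 3 + -5 * z 4 + -4 * z 5 + -3 * z 6 + -3 * z 7 =
    -2 * y 0 + -3 * y 1 + -4 * y 2 + -6 * y 3 + -5 * y 4 + -4 * y 5 + -3 * y 6 + -3 * y 7 := b1
  have a6 : z 6 = y 6 := by omega
  have a7 : z 7 = y 7 := by omega
  funext i
  fin_cases i
  exacts [a0, a1, a2, a3, a4, a5, a6, a7]

theorem st8 {lam : Fin 8 → ℤ} {y : Fin 6 → ℤ} {a : ℤ} (ha : a ≠ 0) (h : lam ∘ e8 = a • y) (γ : W6 × S3) :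
    γ ∈ (St hpE6 y).prod (Sf fun j => T8 j ⬝ᵥ lam) ↔ Ψ8 γ ∈ St hpE8 lam := by
  obtain ⟨w, s⟩ := γ
  have h1 := Ψ8_coord w s lam
  rw [h] at h1
  refine ⟨fun hw => ext8 (h1.trans (((mem_St_smul ha).2 hw.1).trans h.symm)) fun j => (Ψ8_dot w s j lam).trans (hw.2 j),
    fun hw => ⟨?_, fun j => ?_⟩⟩
  · rw [(mem_St hpE8).1 hw, h] at h1
    exact (mem_St_smul ha).1 h1.symm
  · exact (Ψ8_dot w s j lam).symm.trans (congrArg _ hw)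

theorem inj8 : Function.Injective Ψ8 := (injective_iff_map_eq_one _).2 fun γ hγ => by
  obtain ⟨w, s⟩ := γ
  refine Prod.ext (eq_one_of_fix hpE6 fun y => ?_) ?_
  · have h := Ψ8_coord w s (Function.extend e8 y 0)
    rwa [hγ, map_one, one_mulVec, Function.extend_comp (f := e8) (Fin.castLE_injective _), eq_comm] at h
  · have h : s ∈ Sf fun j => T8 j 7 := fun j => by
      have h1 := Ψ8_T w s j
      rw [hγ, map_one, vecMul_one] at h1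
      exact (congrFun h1 7).symm
    rwa [Sf_bot (by decide) (by decide) (by decide)] at h

theorem range8 : Ψ8.range = S3m hpE8 (T8 2) ∧ (S3m hpE8 (T8 2)).index = 2240 :=
  range_eq hpE8 inj8 (fun γ i => by
    rw [show γ = (γ.1, γ.2) from rfl, Ψ8_T]
    exact (by decide +kernel : ∀ j i, (3 : ℤ) ∣ (T8 j - T8 2) i) _ i) idx8
    (by rw [Nat.card_prod, card_W_E6, card_W_E8, Nat.card_perm, Nat.card_eq_fintype_card, Fintype.card_fin]; rfl)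

theorem sgn8 (γ : W6 × S3) : sgn hpE8 (Ψ8 γ) = sgn hpE6 γ.1 * nu 1 γ.2 := by
  rw [show γ = (γ.1, γ.2) from rfl, Ψ8_apply, sgn_mul, sgn_emb hpE8 hpE6,
    sgn_s3 hpE8 κ8 (by rw [κ8_01, sgn_simple]) ?_]
  have h1 := congrArg (sgn hpE8) rθ_braid
  have h2 := congrArg (sgn hpE8) rθ_sq
  rw [sgn_mul, sgn_mul, sgn_mul, sgn_mul, sgn_simple] at h1
  rw [sgn_mul, sgn_one] at h2
  rw [κ8_12]
  linear_combination h1 - h2

/-- the cocharacters of the types -/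
def lm8 (i : Fin 8) (a u v : ℤ) : Fin 8 → ℤ :=
  ![a * lam6 i 0, a * lam6 i 1, a * lam6 i 2, a * lam6 i 3, a * lam6 i 4, a * lam6 i 5, u, v]

theorem lm8_e8 (i : Fin 8) (a u v : ℤ) : lm8 i a u v ∘ e8 = a • lam6 i := by
  funext j
  fin_cases j <;> rfl

/-- the multipliers -/
def ms8 : Fin 8 → ℤ := ![0, -2, -4, -10, -10, -5, -7, -13]

theorem lm8_bot : ∀ i, (T8 0 ⬝ᵥ lm8 i 3 1 3 ≠ T8 1 ⬝ᵥ lm8 i 3 1 3 ∧ T8 1 ⬝ᵥ lm8 i 3 1 3 ≠ T8 2 ⬝ᵥ lm8 i 3 1 3 ∧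
    T8 0 ⬝ᵥ lm8 i 3 1 3 ≠ T8 2 ⬝ᵥ lm8 i 3 1 3) ∧ ∀ j, (3 : ℤ) ∣ (inv8 *ᵥ lm8 i 3 1 3 - T8 2) j := by decide +kernel

theorem lm8_two : ∀ i, (T8 0 ⬝ᵥ lm8 i 3 1 0 = T8 1 ⬝ᵥ lm8 i 3 1 0 ∧ T8 1 ⬝ᵥ lm8 i 3 1 0 ≠ T8 2 ⬝ᵥ lm8 i 3 1 0) ∧
    ∀ j, (3 : ℤ) ∣ (inv8 *ᵥ lm8 i 3 1 0 - T8 2) j := by decide +kernel

theorem lm8_top : ∀ i, i ≠ 0 → 3 * ms8 i ≠ 0 ∧
    T8 0 ⬝ᵥ lm8 i (3 * ms8 i) (ms8 i * ms8 i) 0 = T8 1 ⬝ᵥ lm8 i (3 * ms8 i) (ms8 i * ms8 i) 0 ∧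
    T8 1 ⬝ᵥ lm8 i (3 * ms8 i) (ms8 i * ms8 i) 0 = T8 2 ⬝ᵥ lm8 i (3 * ms8 i) (ms8 i * ms8 i) 0 ∧
    ∀ j, (3 : ℤ) ∣ (inv8 *ᵥ lm8 i (3 * ms8 i) (ms8 i * ms8 i) 0 - T8 2) j := by decide +kernel

/-- the tensor product with a function on `W(E₆)` -/
def tn (φ : W6 → ℂ) : (S3 → ℂ) →+ (W6 × S3 → ℂ) :=
  AddMonoidHom.mk' (fun ψ g => φ g.1 * ψ g.2) fun _ _ => funext fun _ => mul_add _ _ _

variable {p : ℕ} [Fact p.Prime] {k : Type} [Field k] [CharP k p] [IsAlgClosed k] [Fintype W6]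

/-- **The frame of `E₇`.** -/
theorem in7 [Fintype W7] (hG6 : Gram6) (hG7 : Gram7) {Mx : Matrix (Fin 7) (Fin 7) ℤ} (X : XF hpE7 p k Mx)
    [Fintype ↥(GF X.F ⊤)] (f : Fr X.D) {w₀ : X.D.W} {Q : ℤ} (h : Sc X.D w₀ Q) (hA : Api f) : Nonempty (In7 f w₀) := by
  have E := fm_of X inj7 range7.1
  refine ⟨⟨cx X.D x7 om, emb he7, MonoidHom.id _, E, fm_one, cube_cx _, (congrArg Subgroup.index (Wc_cx X x7)).trans range7.2,
    X.exists_neg_E7, fun a => ?_, gen_one X h hA hG7.norm⟩⟩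
  have h1 := gen_lev X sy7 h hA E (hG6.norm a.1) (xs7_dvd a.1) (st7 (by decide) (xs7_lam a.1))
  obtain ⟨i, _ | _⟩ := a
  · rw [ph6_false]
    exact h1.1
  · have e : ph6 (i, true) = fun g => Phi (St hpE6 (lam6 i)) (wd _ (n6 i)) g * sgn hpE7 (emb he7 g) :=
      funext fun g => by rw [ph6_true, sgn_emb hpE7 hpE6]
    rw [e]
    exact h1.2

section eight

variable {Mx : Matrix (Fin 8) (Fin 8) ℤ} (X : XF hpE8 p k Mx) [Fintype ↥(GF X.F ⊤)] (f : Fr X.D) (w₀ : X.D.W)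

/-- the functions on `S₃` which give generalized characters -/
noncomputable def La (a : Fin 8 × Bool) : AddSubgroup (S3 → ℂ) :=
  (Sym.genL ↥(GF X.F ⊤)).comap ((cg (D := X.D) f w₀ Ψ8 (cx X.D (T8 2) om)).toAddMonoidHom.comp (tn (ph6 a)))

theorem mem_La {a : Fin 8 × Bool} {ψ : S3 → ℂ} : ψ ∈ La X f w₀ a ↔
    IsGeneralizedCharacter ↥(GF X.F ⊤) (cg (D := X.D) f w₀ Ψ8 (cx X.D (T8 2) om) fun g => ph6 a g.1 * ψ g.2) := Iff.rfl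

variable {f w₀} {Q : ℤ} (hG6 : Gram6) (h : Sc X.D w₀ Q) (hA : Api f)
include hG6 h hA

theorem gen8 (i : Fin 8) {a u v : ℤ} (ha : a ≠ 0) (hx : ∀ j, (3 : ℤ) ∣ (inv8 *ᵥ lm8 i a u v - T8 2) j) {m : S3}
    (hm : m ∈ Subgroup.normalizer ((Sf fun j => T8 j ⬝ᵥ lm8 i a u v : Subgroup S3) : Set S3)) {ψ : S3 → ℂ}
    (e : Phi (Sf fun j => T8 j ⬝ᵥ lm8 i a u v) m = ψ) : ψ ∈ La X f w₀ (i, false) ∧ ψ * nu 1 ∈ La X f w₀ (i, true) := by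
  have h1 := gen_lev X sy8 h hA (fm_of X inj8 range8.1) (mem_normalizer_prod (hG6.norm i) hm) hx (by
    rw [mulVec_mulVec, Cm_inv8, one_mulVec]
    exact st8 ha (lm8_e8 i a u v))
  have e1 : ∀ g : W6 × S3, Phi ((St hpE6 (lam6 i)).prod (Sf fun j => T8 j ⬝ᵥ lm8 i a u v)) (wd _ (n6 i), m) g =
      ph6 (i, false) g.1 * ψ g.2 := fun g => by rw [ph6_false, ← e, ← Phi_prod]
  have e2 : ∀ g : W6 × S3, Phi ((St hpE6 (lam6 i)).prod (Sf fun j => T8 j ⬝ᵥ lm8 i a u v)) (wd _ (n6 i), m) g *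
      sgn hpE8 (Ψ8 g) = ph6 (i, true) g.1 * (ψ * nu 1) g.2 := fun g => by
    rw [e1, ph6_false, ph6_true, sgn8, Pi.mul_apply, mul_mul_mul_comm]
  rw [funext e2, funext e1] at h1
  exact h1

theorem three8 (a : Fin 8 × Bool) :
    nu 0 + nu 2 ∈ La X f w₀ a ∧ nu 0 - nu 1 ∈ La X f w₀ a ∧ nu 0 + nu 1 - nu 2 ∈ La X f w₀ a := by
  obtain ⟨i, b⟩ := a
  have hb : (Sf fun j => T8 j ⬝ᵥ lm8 i 3 1 3) = ⊥ := Sf_bot (lm8_bot i).1.1 (lm8_bot i).1.2.1 (lm8_bot i).1.2.2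
  have h1 := gen8 X hG6 h hA i (by decide) (lm8_two i).2 (one_mem _) (Phi_two (Or.inl (lm8_two i).1))
  have h2 := gen8 X hG6 h hA i (by decide) (lm8_bot i).2 (m := t01) (ψ := nu 0 - nu 1)
    (by rw [hb]; exact mem_normalizer_bot _) (by rw [hb]; exact Phi_bot_t01)
  have h3 := gen8 X hG6 h hA i (by decide) (lm8_bot i).2 (m := t01 * t12) (ψ := nu 0 + nu 1 - nu 2)
    (by rw [hb]; exact mem_normalizer_bot _) (by rw [hb]; exact Phi_bot_cyc)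
  cases b
  · exact ⟨h1.1, h2.1, h3.1⟩
  have e1 : nu 0 + nu 2 = (nu 0 + nu 2) * nu 1 - (nu 0 - nu 1) * nu 1 := funext fun g => by
    simp only [Pi.add_apply, Pi.sub_apply, Pi.mul_apply, nu_zero, add_mul, sub_mul, nu_one_mul, nu_two_mul]
    ring
  have e2 : nu 0 - nu 1 = -((nu 0 - nu 1) * nu 1) := funext fun g => by
    simp only [Pi.neg_apply, Pi.sub_apply, Pi.mul_apply, nu_zero, sub_mul, nu_one_mul]
    ring
  have e3 : nu 0 + nu 1 - nu 2 = (nu 0 + nu 1 - nu 2) * nu 1 := funext fun g => by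
    simp only [Pi.add_apply, Pi.sub_apply, Pi.mul_apply, nu_zero, add_mul, sub_mul, nu_one_mul, nu_two_mul]
    ring
  exact ⟨e1 ▸ sub_mem h1.2 h2.2, e2 ▸ neg_mem h2.2, e3 ▸ h3.2⟩

theorem all8 (a : Fin 8 × Bool) (ν : Fin 3) (ha : a.1 ≠ 0) : nu ν ∈ La X f w₀ a := by
  obtain ⟨h1, h2, -⟩ := three8 X hG6 h hA a
  have h0 : nu 0 ∈ La X f w₀ a := by
    obtain ⟨i, b⟩ := a
    obtain ⟨k1, k2, k3, k4⟩ := lm8_top i ha
    have h3 := gen8 X hG6 h hA i k1 k4 (one_mem _) (ψ := nu 0) (by rw [Sf_top k2 k3]; exact Phi_top_one)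
    cases b
    · exact h3.1
    have e : nu 0 = nu 0 * nu 1 + (nu 0 - nu 1) := funext fun g => by
      simp only [Pi.add_apply, Pi.sub_apply, Pi.mul_apply, nu_zero]
      ring
    exact e ▸ add_mem h3.2 h2
  fin_cases ν
  · exact h0
  · simpa using sub_mem h0 h2
  · simpa using sub_mem h1 h0

end eight

/-- **The frame of `E₈`.** -/
theorem in8 (hG6 : Gram6) {Mx : Matrix (Fin 8) (Fin 8) ℤ} (X : XF hpE8 p k Mx) [Fintype ↥(GF X.F ⊤)] (f : Fr X.D)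
    {w₀ : X.D.W} {Q : ℤ} (h : Sc X.D w₀ Q) (hA : Api f) : Nonempty (In8 f w₀) :=
  ⟨⟨cx X.D (T8 2) om, Ψ8, fm_of X inj8 range8.1, cube_cx _, (congrArg Subgroup.index (Wc_cx X _)).trans range8.2,
    X.exists_neg_E8, all8 X hG6 h hA, fun b => three8 X hG6 h hA (0, b)⟩⟩

end Cfsg.Agent.KZ.Exc.EFr
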