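import Cfsg.Agent.KZ.Exc.EBox
import Cfsg.Agent.KZ.McX.Gt

/-!
# KZ, the groups `E₆^ε`, `E₇`, `E₈` (scalar case): the setting (helper21)

* `cent_of` : the centraliser of a Sylow `3`-subgroup of `S` is a `3`-group;
* `HasC hp S` : there is a setting `Sca` with `Cop`; `sca7`, `sca8`;
* `HasG S` : there is a setting `Sca` of type `E₆` with `Gp6`; `hasG_E6`, `hasG_2E6`, `sca6`, `sca6'`.
-/

set_option autoImplicit false
set_option linter.unusedSectionVars false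

namespace Cfsg.Agent.KZ.Exc.Gp

open Cfsg Cfsg.Lie Matrix Cfsg.Agent.DL Cfsg.Agent.DL.PP Cfsg.Agent.DL.Uni Cfsg.Agent.DL.Asm Cfsg.Agent.Nodes.Reps
  Cfsg.Agent.KZ.Lie Cfsg.Agent.KZ.DatX Cfsg.Agent.KZ.McX Cfsg.Agent.ChevalleyStructure.CoxeterGeomTypes
  Cfsg.Agent.Nodes.RGDChev

section Gen

variable {p : ℕ} [Fact p.Prime] {k : Type} [Field k] [CharP k p] {Y : Type} [Group Y] {N : Type} [Fintype N]
  [DecidableEq N] {ρ : Y →* GL N k} {F : MulAut Y} {G : Subgroup Y} [IsAlgClosed k] {D : Datum p ρ F G} {w₀ : D.W}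
  {Q : ℤ} {Adm : Matrix D.R D.R ℤ → Prop} {S : Type} [Group S]

theorem Wm_pow (v : D.W) (n : ℕ) : D.Wm (v ^ n) = D.Wm v ^ n := map_pow D.WmHom v n

/-- `u y - y` lies in the coroot lattice -/
theorem Wm_sub_mem (L : AddSubgroup (D.R → ℤ)) (hL : ∀ i, D.cw i ∈ L) (u : D.W) (y : D.R → ℤ) :
    D.Wm u *ᵥ y - y ∈ L := by
  induction u using D.cs.simple_induction_left with
  | one =>
    rw [D.Wm_one, one_mulVec, sub_self]
    exact zero_mem _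
  | mul_simple_left w i ih =>
    rw [D.Wm_mul, ← mulVec_mulVec, D.Wm_simple, sub_mulVec, one_mulVec, vecMulVec_mulVec, sub_right_comm,
      op_smul_eq_smul]
    exact sub_mem ih (zsmul_mem (hL i) _)

/-- an element of order prime to `3` which fixes the coroots modulo `3` is trivial -/
theorem eq_one_of_cw {v : D.W} (hv : ¬ 3 ∣ orderOf v) (h : ∀ i j, (3 : ℤ) ∣ ((D.Wm v - 1) *ᵥ D.cw i) j) : v = 1 := by
  let L : AddSubgroup (D.R → ℤ) :=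
    { carrier := {z | ∀ j, (3 : ℤ) ∣ ((D.Wm v - 1) *ᵥ z) j}
      zero_mem' := fun j => by simp
      add_mem' := fun ha hb j => by
        rw [mulVec_add]
        exact dvd_add (ha j) (hb j)
      neg_mem' := fun ha j => by
        rw [mulVec_neg]
        exact (ha j).neg_right }
  have h1 : ∀ i j, (3 : ℤ) ∣ ((D.Wm v - 1) * (D.Wm v - 1)) i j := fun i j => by
    have h2 := Wm_sub_mem L h v (Pi.single j 1) i
    rw [show D.Wm v *ᵥ Pi.single j 1 - Pi.single j 1 = (D.Wm v - 1) *ᵥ Pi.single j 1 by rw [sub_mulVec, one_mulVec],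
      mulVec_mulVec] at h2
    simpa using h2
  have h2 : v ^ 3 = 1 := eq_one_of_mod (fun e => hv (e.trans (orderOf_pow_dvd 3))) fun i j => by
    rw [Wm_pow, show D.Wm v ^ 3 - 1 = (D.Wm v + 1 + 1) * ((D.Wm v - 1) * (D.Wm v - 1)) + (3 : ℤ) • (D.Wm v - 1) by
      noncomm_ring, Matrix.add_apply, Matrix.mul_apply, Matrix.smul_apply]
    exact dvd_add (Finset.dvd_sum fun l _ => (h1 l j).mul_left _) (Dvd.intro _ rfl)
  exact orderOf_eq_one_iff.1 (((Nat.dvd_prime Nat.prime_three).1 (orderOf_dvd_of_pow_eq_one h2)).resolve_right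
    fun e => hv e.symm.dvd)

theorem cent_aux (h : Sc D w₀ Q) (hp : p ≠ 3) (s : Sit D Adm S) (h3 : ∀ g : GF F G, g ^ 3 ∈ s.H1) {g : D.W}
    (hg : D.Wm g ^ 6 + D.Wm g ^ 3 + 1 = 0) (P : Sylow 3 (GF F G)) (hP : (P : Subgroup (GF F G)) ≤ Nz F G (Tw D w₀))
    {x : GF F G} (hx : ∀ z ∈ (P : Subgroup (GF F G)), z ∈ s.H1 → z * x = x * z) (ho : ¬ 3 ∣ orderOf x) : x = 1 := by
  have := finite_GF D
  have : Fact (Nat.Prime 3) := ⟨Nat.prime_three⟩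
  have hy := yw_mem D w₀
  have hw := yw_rp D w₀
  have hs : Function.Surjective (wN (D := D) hy) := MonoidHom.range_eq_top.1 ((range_wN hy hw).trans h.cw_top)
  have hT := Tw_mem (D := D) w₀
  rw [Tw] at hP hT
  generalize yw D w₀ = y at hy hw hs hP hT
  obtain ⟨ζ, hζ⟩ := exists_prim3 (k := k) hp 1
  have h2 : ∀ a, D.Rt a → chr (D.wt a) (coch (D.cor a) ζ) = ζ ^ (2 : ℤ) := fun a ha => by
    rw [DL.chr_coch, D.pair_cor ha a, Nodes.Coroot.cpr_self _ _ ha]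
  have ht : ∀ a, D.Rt a → D.τ (coch (D.cor a) ζ) * (y⁻¹ * x * y) = y⁻¹ * x * y * D.τ (coch (D.cor a) ζ) := fun a ha => by
    have h1 := coch_mem hp hy hw hζ (x := D.cor a) (by simpa only [pow_one] using h.dvd_mulVec _)
    obtain ⟨n, hn⟩ := hs (D.rf a)
    have h4 := D.conj_τ_rf ha (hn ▸ rp_wN hy n) (coch (D.cor a) ζ)
    have h6 : (ζ ^ (2 : ℤ))⁻¹ = ζ := by
      rw [inv_eq_iff_mul_eq_one, ← _root_.zpow_add_one]
      exact_mod_cast hζ.pow_eq_one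
    rw [h2 a ha, ← map_inv, h6, map_mul] at h4
    have h5 : y * D.τ (coch (D.cor a) ζ) * y⁻¹ ∈ s.H0 := by
      convert s.comm _ n.1.2 _ h1.1.2 using 1
      rw [← mul_inv_eq_iff_eq_mul] at h4
      conv_lhs => rw [← h4]
      group
    have h7 : _ * (x : Y) = x * _ :=
      congrArg Subtype.val (hx ⟨_, h1.1.2⟩ (mem_sylow hT P hP h1.1.1 ⟨1, Subtype.ext h1.2⟩) h5)
    calc _ = y⁻¹ * (y * D.τ (coch (D.cor a) ζ) * y⁻¹ * x) * y := by group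
      _ = _ := by
        rw [h7]
        group
  have hN : y⁻¹ * x * y ∈ D.NN := by
    obtain ⟨c, h1, m, hm, -, e⟩ := D.exists_cen_form (Z := {t | ∃ a, D.Rt a ∧ D.τ (coch (D.cor a) ζ) = t})
      (by rintro _ ⟨a, -, rfl⟩; exact D.τ_mem _) (mul_mem (mul_mem (inv_mem hy) x.2.1) hy)
      (by rintro _ ⟨a, ha, rfl⟩; exact ht a ha)
    have h4 : c ∈ (⊥ : Subgroup Y) := (Nodes.BNOf.RGD.Sup_le fun a ha => ?_ : D.S _ ≤ ⊥) h1
    · rwa [e, Subgroup.mem_bot.1 h4, one_mul]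
    · have h5 := ha.2 _ ⟨a, ha.1, rfl⟩
      rw [D.χ_τ, h2 a ha.1, Units.val_eq_one, hζ.zpow_eq_one_iff_dvd] at h5
      exact absurd h5 (by decide)
  have hv : D.pr (y⁻¹ * x * y) = 1 := by
    refine eq_one_of_cw (fun e => ho (e.trans (orderOf_dvd_of_pow_eq_one ?_))) fun i => ?_
    · refine D.rp_unique (KFacts.RgdDiag.rp_pow (D.rp_pr hN) _) ?_
      rw [show y⁻¹ * x * y = y⁻¹ * x * y⁻¹⁻¹ by rw [inv_inv], conj_pow, ← Subgroup.coe_pow, pow_orderOf_eq_one,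
        Subgroup.coe_one, mul_one, mul_inv_cancel]
      exact rp_one
    · have h5 := D.conj_τ (D.rp_pr hN) (coch (D.cw i) ζ)
      have h6 := ht _ (Tits.Roots.isRoot_sr D.cs D.h i)
      rw [D.cor_sr] at h6
      rw [← h6, mul_inv_cancel_right] at h5
      exact_mod_cast (mon_coch_iff hζ _ _).1 (D.τ_inj h5.symm)
  obtain ⟨c, hc⟩ := (D.mem_T _).1 ((D.pr_eq_one_iff hN).1 hv)
  have h9 : g ^ 3 ^ 2 = 1 := D.Wm_injective (by
    rw [show 3 ^ 2 = 9 from rfl, Wm_pow, D.Wm_one, ← sub_eq_zero, show D.Wm g ^ 9 - 1 = (D.Wm g ^ 3 - 1) * (D.Wm g ^ 6 + D.Wm g ^ 3 + 1) by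
      noncomm_ring, hg, mul_zero])
  obtain ⟨R, hR⟩ := (IsPGroup.of_card_dvd_pow (p := 3) (G := Subgroup.zpowers g)
    ((Nat.card_zpowers g).dvd.trans (orderOf_dvd_of_pow_eq_one h9))).exists_le_sylow
  obtain ⟨b, hb⟩ := MulAction.exists_smul_eq D.W R ((P.subtype hP).mapSurjective hs)
  obtain ⟨n, hn, e⟩ : b * g * b⁻¹ ∈ ((P : Subgroup (GF F G)).subgroupOf _).map (wN (D := D) hy) := by
    rw [← P.coe_subtype hP, ← Sylow.coe_mapSurjective hs, ← hb]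
    exact Subgroup.smul_mem_pointwise_smul _ (MulAut.conj b) _ (hR (Subgroup.mem_zpowers g))
  have h4 := D.conj_τ (rp_wN hy (n ^ 3)) c
  have h5 : ((n : GF F G) : Y) ^ 3 * x = x * ((n : GF F G) : Y) ^ 3 :=
    congrArg Subtype.val (hx _ (pow_mem (show (n : GF F G) ∈ (P : Subgroup (GF F G)) from hn) 3) (h3 _))
  rw [hc, show y⁻¹ * (((n ^ 3 : Nz F G (cj y D.T)) : GF F G) : Y) * y * (y⁻¹ * x * y) *
      (y⁻¹ * (((n ^ 3 : Nz F G (cj y D.T)) : GF F G) : Y) * y)⁻¹ =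
      y⁻¹ * (((n : GF F G) : Y) ^ 3 * x * (((n : GF F G) : Y) ^ 3)⁻¹) * y by
        rw [Subgroup.coe_pow, Subgroup.coe_pow]; group,
    h5, mul_inv_cancel_right, ← hc, map_pow, e] at h4
  have h6 := (D.τ_inj h4).symm
  have h7 : D.Wm ((b * g * b⁻¹) ^ 3) * D.Wm ((b * g * b⁻¹) ^ 3) + D.Wm ((b * g * b⁻¹) ^ 3) + 1 = 0 := by
    have h8 := congrArg (fun A => D.Wm b * A * D.Wm b⁻¹) hg
    simp only [mul_add, add_mul, mul_one, mul_zero, zero_mul, ← Wm_pow, ← D.Wm_mul, mul_inv_cancel, D.Wm_one] at h8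
    rwa [← D.Wm_mul, ← pow_add, conj_pow, conj_pow]
  have h8 := congrArg (mon · c) h7
  simp only [mon_add, mon_mul, h6, mon_one] at h8
  have h10 : x ^ 3 = 1 := Subtype.ext (by
    rw [Subgroup.coe_pow, show (x : Y) = y * D.τ c * y⁻¹ by rw [hc]; group, conj_pow, ← map_pow, pow_three', h8,
      show mon (0 : Matrix D.R D.R ℤ) c = 1 from funext fun i => chr_zero c, map_one, mul_one, mul_inv_cancel]
    rfl)
  exact orderOf_eq_one_iff.1 (((Nat.dvd_prime Nat.prime_three).1 (orderOf_dvd_of_pow_eq_one h10)).resolve_right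
    fun e => ho e.symm.dvd)

/-- **the centraliser of a Sylow subgroup** -/
theorem cent_of (h : Sc D w₀ Q) (hp : p ≠ 3) (s : Sit D Adm S) (hi : Function.Injective s.π)
    (h3 : ∀ g : GF F G, g ^ 3 ∈ s.H1) {g : D.W} (hg : D.Wm g ^ 6 + D.Wm g ^ 3 + 1 = 0) (P : Sylow 3 S) :
    ∀ x ∈ Subgroup.centralizer ((P : Subgroup S) : Set S), ¬ 3 ∣ orderOf x → x = 1 := fun x hx ho => by
  have := finite_GF D
  have := Fintype.ofFinite (GF F G)
  have : Fact (Nat.Prime 3) := ⟨Nat.prime_three⟩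
  have := s.normal
  let e : s.H1 ≃* S := MulEquiv.ofBijective s.π1 ⟨hi.comp (Subgroup.subgroupOfEquivOfLe s.le).injective, s.π1_surj⟩
  let j : S →* GF F G := s.H1.subtype.comp e.symm.toMonoidHom
  have hj : Function.Injective j := s.H1.subtype_injective.comp e.symm.injective
  obtain ⟨P1, h1⟩ := (P.2.map j).exists_le_sylow
  obtain ⟨P0, h0⟩ := (h.cardC hp).exists_sylow
  obtain ⟨b, rfl⟩ := MulAction.exists_smul_eq (GF F G) P0 P1
  have h2 := P.3 ((b • P0).2.comap_of_injective j hj) (Subgroup.map_le_iff_le_comap.1 h1)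
  have h4 := cent_aux h hp s h3 hg P0 h0 (x := b⁻¹ * j x * b) (fun z hz hz1 => ?_) ?_
  · exact hj (by rw [map_one, ← mul_left_inj b, ← mul_right_inj b⁻¹, ← mul_assoc, h4, one_mul, inv_mul_cancel])
  · have h5 : j (e ⟨b * z * b⁻¹, this.conj_mem z hz1 b⟩) = b * z * b⁻¹ := congrArg Subtype.val (e.symm_apply_apply _)
    have h6 := congrArg j (hx (e ⟨b * z * b⁻¹, this.conj_mem z hz1 b⟩) (h2.le (by
      rw [Subgroup.mem_comap, h5]
      exact Subgroup.smul_mem_pointwise_smul _ (MulAut.conj b) _ hz)))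
    rw [map_mul, map_mul, h5] at h6
    calc _ = b⁻¹ * (b * z * b⁻¹ * j x) * b := by group
      _ = _ := by
        rw [h6]
        group
  · rwa [show b⁻¹ * j x * b = MulAut.conj b⁻¹ (j x) by simp, MulEquiv.orderOf_eq, orderOf_injective j hj]

end Gen

section X

variable {C : ChevalleyDatum} {l : ℕ} {M : CoxeterMatrix (Fin l)} {hp : IsType C l M} {p : ℕ} [Fact p.Prime] {k : Type}
  [Field k] [CharP k p] [IsAlgClosed k] {Mx : Matrix (Fin l) (Fin l) ℤ} {X : XF hp p k Mx}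
  {Adm : Matrix (Fin l) (Fin l) ℤ → Prop} {d : ℕ} {S S' : Type} [Group S] [Group S']

theorem H1_eq (s : XS X Adm d S) : s.sit.H1 = s.ov.hom.range := Subgroup.ext fun _ => s.ov.mem_range.symm

theorem ker_sit (s : XS X Adm d S) : ¬ 3 ∣ Nat.card ↥s.sit.π.ker := by
  rw [(MonoidHom.ker_eq_bot_iff _).2 s.sit_π_inj, Subgroup.card_bot]
  decide

theorem cop_of (s : XS X Adm d S) (h : ¬ 3 ∣ d) : s.sit.Cop :=
  have := X.finite
  ⟨fun e => h (s.ov.prime_dvd Nat.prime_three (H1_eq s ▸ e)), ker_sit s⟩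

theorem not_dvd_pow (h : p ≠ 3) (j : ℕ) : ¬ (3 : ℤ) ∣ (p : ℤ) ^ j := fun h1 =>
  h ((Nat.prime_dvd_prime_iff_eq Nat.prime_three Fact.out).1
    (Int.natCast_dvd_natCast.1 (Int.prime_three.dvd_of_dvd_pow h1))).symm

theorem adm_F (h : p ≠ 3) {A : Matrix (Fin l) (Fin l) ℤ} (hA : AdmF p A) :
    ∃ (a : ℤ) (u : X.D.W), ¬ 3 ∣ a ∧ A = a • X.D.Wm u := by
  obtain ⟨j, rfl⟩ := hA
  exact ⟨_, 1, not_dvd_pow h j, congrArg _ X.D.Wm_one.symm⟩

/-- There is a scalar setting for `S`, and the index of `S` in `G ^ F` is prime to `3`. -/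
def HasC (hp : IsType C l M) (S : Type) [Group S] : Prop :=
  ∃ (p : ℕ) (_ : Fact p.Prime) (k : Type) (_ : Field k) (_ : CharP k p) (_ : IsAlgClosed k) (Mx : Matrix (Fin l) (Fin l) ℤ)
    (X : XF hp p k Mx) (Adm : Matrix (Fin l) (Fin l) ℤ → Prop) (s : Sit X.D Adm S) (w₀ : X.D.W) (Q : ℤ),
    Sca s w₀ Q ∧ s.Cop

theorem hasC_of (h3 : p ≠ 3) {e : ℕ} (h : Has hp p ((p : ℤ) ^ e • 1) (AdmF p) d S) (hd : ¬ 3 ∣ d) {L : List (Fin l)}
    (hL : (L.map (sM C l)).prod = -1) : HasC hp S := by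
  obtain ⟨k, _, _, _, X, ⟨s⟩⟩ := h
  have key : ∃ w Q, Sc X.D w Q := by
    by_cases h1 : (3 : ℤ) ∣ (p : ℤ) ^ e - 1
    · exact ⟨1, _, by rw [X.D.Wm_one, one_mul]; rfl, h1⟩
    · obtain ⟨w, hw⟩ := X.exists_of_prod hL
      have h2 := not_dvd_pow h3 e
      refine ⟨w, -(p : ℤ) ^ e, ?_, by omega⟩
      rw [hw, neg_smul]
      exact neg_one_mul X.D.Mx
  obtain ⟨w, Q, h1⟩ := key
  exact ⟨p, _, k, _, _, _, _, X, _, s.sit, w, Q, ⟨h1, h3, fun _ => adm_F h3, s.sit_π_inj⟩, cop_of s hd⟩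

end X

variable {S S' : Type} [Group S] [Group S']

theorem sca7 (h : ChevX chevE7 0 S) : HasC hpE7 S := by
  obtain ⟨p, e, _, h3, -, h⟩ := row_E7 h
  exact hasC_of h3 h (fun h1 => absurd (h1.trans (Nat.gcd_dvd_left _ _)) (by decide)) neg_E7

theorem sca8 (h : ChevX chevE8 0 S) : HasC hpE8 S := by
  obtain ⟨p, e, _, h3, -, h⟩ := row_E8 h
  exact hasC_of h3 h (by decide) neg_E8

/-! ### `E₆` -/

/-- There is a scalar setting of type `E₆` for `S`, and `S` has index `3` in `G ^ F`. -/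
def HasG (S : Type) [Group S] : Prop :=
  ∃ (p : ℕ) (_ : Fact p.Prime) (k : Type) (_ : Field k) (_ : CharP k p) (_ : IsAlgClosed k) (Mx : Matrix (Fin 6) (Fin 6) ℤ)
    (X : XF hpE6 p k Mx) (Adm : Matrix (Fin 6) (Fin 6) ℤ → Prop) (s : Sit X.D Adm S) (w₀ : X.D.W) (Q : ℤ),
    Sca s w₀ Q ∧ Gp6 s

/-- an element of order nine -/
def g9 : Matrix (Fin 6) (Fin 6) ℤ := !![-1, -1, -1, -2, -1, -1; 0, 0, 0, 0, -1, -1; 1, 0, 0, 0, 0, 0; 0, 0, 1, 1, 1, 1;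
  0, 1, 0, 0, 0, 0; 0, 0, 0, 1, 1, 0]

theorem g9_eq : g9 ^ 6 + g9 ^ 3 + 1 = 0 := by
  have h : g9 * (g9 * g9) = !![-1, -1, -1, -1, -1, -1; 0, -1, -1, -1, 0, 0; 0, 0, -1, -1, -1, 0; 0, 1, 1, 1, 1, 0;
    0, -1, 0, -1, -1, 0; 1, 1, 1, 2, 1, 0] := by decide +kernel
  rw [show g9 ^ 6 = g9 ^ 3 * g9 ^ 3 from pow_add g9 3 3, pow_three, h]
  decide +kernel

variable {p : ℕ} [Fact p.Prime] {e : ℕ}

theorem gp6_of {k : Type} [Field k] [CharP k p] [IsAlgClosed k] {Mx : Matrix (Fin 6) (Fin 6) ℤ} {X : XF hpE6 p k Mx}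
    {Adm : Matrix (Fin 6) (Fin 6) ℤ → Prop} (s : XS X Adm 3 S) {w₀ : X.D.W} {Q : ℤ} (h : Sc X.D w₀ Q) (hp : p ≠ 3)
    (hS : 3 * (Nat.card S : ℤ) =
      Q ^ 36 * (Q ^ 2 - 1) * (Q ^ 5 - 1) * (Q ^ 6 - 1) * (Q ^ 8 - 1) * (Q ^ 9 - 1) * (Q ^ 12 - 1)) : Gp6 s.sit where
  idx := by
    refine ((Nat.dvd_prime Nat.prime_three).1 (H1_eq s ▸ s.idx (by decide))).resolve_left fun h1 => ?_
    have h2 := (Nz X.F ⊤ (Tw X.D w₀)).card_subgroup_dvd_card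
    rw [card_Nz_Tw, h.cw_top, Subgroup.card_top, show Nat.card X.D.W = 51840 from card_W_E6, h.ordT_eq, s.ov.card_eq,
      ← H1_eq, h1, mul_one, show Fintype.card X.D.R = 6 from Fintype.card_fin 6, ← Int.natAbs_pow, ← Int.natCast_dvd_natCast,
      Nat.cast_mul, Int.natCast_natAbs, abs_of_nonneg (by positivity)] at h2
    have h4 : Q - 1 ≠ 0 := fun h4 => by
      have h5 := ordT_ne (D := X.D) w₀
      rw [h.ordT_eq, h4, show Fintype.card X.D.R = 6 from Fintype.card_fin 6] at h5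
      exact h5 rfl
    refine not_dvd_of (n := 243) (fun x => x ^ 36 * (x + 1) * (x ^ 4 + x ^ 3 + x ^ 2 + x + 1) * ((x ^ 3 + 1) * (x ^ 2 + x + 1)) *
      ((x + 1) * (x ^ 2 + 1) * (x ^ 4 + 1)) * ((x ^ 2 + x + 1) * (x ^ 6 + x ^ 3 + 1)) *
      ((x ^ 6 + 1) * (x ^ 3 + 1) * (x ^ 2 + x + 1))) (by push_cast; rfl) (by decide +kernel) h.dvd ?_
    obtain ⟨c, hc⟩ := h2
    refine ⟨640 * c, mul_left_cancel₀ (pow_ne_zero 6 h4) ?_⟩
    rw [hc] at hS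
    push_cast at hS ⊢
    linear_combination -hS
  cent := cent_of h hp s.sit s.sit_π_inj (fun g => s.pow_mem g.2)
    (g := CoxeterMatrix.E₆.toCoxeterSystem.wordProd [0, 1, 2, 3, 1, 4, 3, 5]) (by
      rw [(X.Wm_word [0, 1, 2, 3, 1, 4, 3, 5]).trans (prod_eq_of isRows_E6 _ (B := g9) (by decide +kernel))]
      exact g9_eq)

theorem hasG_E6 {K : Type} [Field K] [Fintype K] [CharP K p] (hK : Fintype.card K = p ^ e) (h3 : p ≠ 3) (h : 3 ∣ p ^ e - 1)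
    (i : S ≃* chevE6.group K) : HasG S := by
  have h0 := pow_pos (Fact.out : p.Prime).pos e
  have h2 := S1063.result hK
  obtain ⟨k, _, _, _, X, ⟨s⟩⟩ := (has_E6 hK).congr i
  rw [Nat.gcd_eq_left h] at s h2
  have g : Sc X.D 1 ((p : ℤ) ^ e) := ⟨by rw [X.D.Wm_one, one_mul]; rfl, by
    have : ((3 : ℕ) : ℤ) ∣ ((p ^ e - 1 : ℕ) : ℤ) := Int.natCast_dvd_natCast.2 h
    rwa [cast_sub_one (Fact.out : p.Prime).pos] at this⟩
  refine ⟨p, _, k, _, _, _, _, X, _, s.sit, 1, _, ⟨g, h3, ?_, s.sit_π_inj⟩, gp6_of s g h3 ?_⟩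
  · rintro _ ⟨j, B, hB, rfl⟩
    rcases List.mem_cons.1 hB with rfl | hB
    · exact adm_F h3 ⟨j, rfl⟩
    · obtain ⟨w, hw⟩ := X.exists_neg_E6
      refine ⟨-(p : ℤ) ^ j, w, fun h4 => not_dvd_pow h3 j (dvd_neg.1 h4), ?_⟩
      rw [List.mem_singleton.1 hB, hw]
      exact (neg_smul_neg _ P6).symm
  · have h4 := congrArg (Nat.cast : ℕ → ℤ) h2
    simp only [Nat.cast_mul, cast_sub_one h0, Nat.cast_pow, Nat.cast_ofNat] at h4
    rw [Nat.card_congr i.toEquiv, h4]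

theorem hasG_2E6 {K : Type} [Field K] [Fintype K] [CharP K p] (hK : Fintype.card K = (p ^ e) ^ 2) (he : 0 < e) (h3 : p ≠ 3)
    (h : 3 ∣ p ^ e + 1) (i : S ≃* twistedE6 K (p ^ e)) : HasG S := by
  have h0 := pow_pos (Fact.out : p.Prime).pos e
  have h2 := S1066.result ((Fact.out : p.Prime).isPrimePow.pow he.ne') hK
  obtain ⟨k, _, _, _, X, ⟨s⟩⟩ := (has_2E6 hK).congr i
  rw [Nat.gcd_eq_left h] at s h2
  obtain ⟨w, hw⟩ := X.exists_neg_E6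
  have g : Sc X.D w (-(p : ℤ) ^ e) := ⟨by
    rw [hw]
    show -P6 * ((p : ℤ) ^ e • P6) = _ • (1 : Matrix (Fin 6) (Fin 6) ℤ)
    rw [Matrix.mul_smul, neg_mul, show P6 * P6 = 1 by decide +kernel, smul_neg]
    exact (neg_smul _ _).symm, by
      have : ((3 : ℕ) : ℤ) ∣ ((p ^ e + 1 : ℕ) : ℤ) := Int.natCast_dvd_natCast.2 h
      push_cast at this
      omega⟩
  refine ⟨p, _, k, _, _, _, _, X, _, s.sit, w, _, ⟨g, h3, fun _ => adm_F h3, s.sit_π_inj⟩, gp6_of s g h3 ?_⟩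
  have h4 := congrArg (Nat.cast : ℕ → ℤ) h2
  simp only [Nat.cast_mul, cast_sub_one h0, Nat.cast_pow, Nat.cast_ofNat, Nat.cast_add, Nat.cast_one] at h4
  rw [Nat.card_congr i.toEquiv, h4]
  ring

/-- `E₆(q)` : the scalar case, or the case of `McX.HasP` -/
theorem sca6 (h : ChevX chevE6 0 S) : HasG S ∨ ∃ (p e : ℕ) (_ : Fact p.Prime), p ≠ 3 ∧ 0 < e ∧ 3 ∣ p ^ e + 1 ∧
    HasP hpE6 p ((p : ℤ) ^ e • 1) (AdmL p [1, P6]) S (-(p : ℤ) ^ e) P6 := by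
  obtain ⟨F, _, _, h1, -, ⟨i⟩⟩ := h
  obtain ⟨p, e, _, _, h3, he, hF⟩ := exists_char F h1
  by_cases h : 3 ∣ p ^ e - 1
  · exact .inl (hasG_E6 hF h3 h i)
  · have h4 : 3 ∣ p ^ e + 1 := by omega
    exact .inr ⟨p, e, ‹_›, h3, he, h4, (hasP_E6 hF h4).congr i⟩

/-- `²E₆(q)` : the scalar case, or the case of `McX.HasP` -/
theorem sca6' (h : TwE6X S) : HasG S ∨ ∃ (p e : ℕ) (_ : Fact p.Prime), p ≠ 3 ∧ 0 < e ∧ 3 ∣ p ^ e - 1 ∧
    HasP hpE6 p ((p : ℤ) ^ e • P6) (AdmF p) S ((p : ℤ) ^ e) P6 := by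
  obtain ⟨K, _, _, q, h1, hq, hK, ⟨i⟩⟩ := h
  obtain ⟨p, e, _, _, h3, he, rfl⟩ := exists_char' K h1 hq two_ne_zero hK
  by_cases h : 3 ∣ p ^ e + 1
  · exact .inl (hasG_2E6 hK he h3 h i)
  · have h5 : ¬ 3 ∣ p ^ e := fun h5 => h1 (hK ▸ h5.trans (dvd_pow_self _ two_ne_zero))
    have h4 : 3 ∣ p ^ e - 1 := by omega
    exact .inr ⟨p, e, ‹_›, h3, he, h4, (hasP_2E6 hK h4).congr i⟩

end Cfsg.Agent.KZ.Exc.Gp
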