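import Cfsg.Agent.KZ.Exc.EOrb

/-!
# KZ, exceptional groups: `gram7` (helper40)
-/

set_option autoImplicit false

namespace Cfsg.Agent.KZ.Exc

open Cfsg.Agent.KZ.DatX Cfsg.Agent.KZ.Exc.Gr

/-- the twisted cocharacters -/
def lam7' : Fin 5 → Fin 7 → ℤ := ![![0, 0, 0, 0, 0, 0, 0], ![0, 0, 0, 0, 0, 0, 1], ![0, 0, 0, 0, 0, 0, -1],
  ![1, 0, 0, 0, 0, 0, 0], ![-1, 0, 0, 0, 0, 0, 0]]

set_option maxRecDepth 100000 in
theorem chk7 : ∀ j, chk rowsE7 [0, 1, 2, 3, 4, 5, 6] lam7 lam7' n7 p7 (fun _ _ => 0) d7 40 j = true := by decide +kernel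

theorem gram7 : Gram7 :=
  haveI : Finite W7 := Nat.finite_of_card_ne_zero (by rw [card_W_E7]; decide)
  gram_of_chk hpE7 isRows_E7 (by decide) (by decide +kernel) (by decide +kernel) chk7

end Cfsg.Agent.KZ.Exc
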