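import Cfsg.Agent.KZ.Exc.EBox
import Cfsg.Agent.KZ.ClD.Fam

/-!
# KZ, the groups `E₇`, `E₈`: the lower bounds (helper5)

`lo7_of`, `lo8_of` : `Lo S` from the frames, the closest vector boxes and `MuSc`.
-/

set_option autoImplicit false
set_option linter.unusedSectionVars false

namespace Cfsg.Agent.KZ.Exc.Lo78

open Cfsg Cfsg.Lie Matrix Cfsg.Agent.DL Cfsg.Agent.DL.PP Cfsg.Agent.KZ.Lie Cfsg.Agent.KZ.DatX Cfsg.Agent.KZ.Cl
  Cfsg.Agent.Characters.Core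
open Cfsg.Agent.OddOrderCharacters.VChar (gen_isClassFunction gen_inner gen_of_inner_int)
open scoped ComplexConjugate

/-! ### Bessel -/

section Bessel

variable {H : Type} [Group H] [Fintype H] {ι ι' : Type} [Fintype ι] [Fintype ι']

/-- the gain of `v` -/
noncomputable def gain (μ v : H → ℂ) : ℝ := 2 * (classInner μ v).re - (classInner v v).re

theorem gain_le (μ v : H → ℂ) : gain μ v ≤ (classInner μ μ).re := by
  have h1 : 0 ≤ (classInner (μ - v) (μ - v)).re := by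
    rw [classInner_self_eq_ofReal, Complex.ofReal_re]
    exact mul_nonneg (inv_nonneg.2 (Nat.cast_nonneg _)) (Finset.sum_nonneg fun _ _ => Complex.normSq_nonneg _)
  rw [classInner_sub_left, classInner_sub_right, classInner_sub_right, ← classInner_conj_symm μ v] at h1
  simp only [Complex.sub_re, Complex.conj_re] at h1
  unfold gain
  linarith

theorem gain_add {μ v w : H → ℂ} (h : classInner v w = 0) : gain μ (v + w) = gain μ v + gain μ w := by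
  have h1 : classInner w v = 0 := by rw [← classInner_conj_symm, h, map_zero]
  simp only [gain, classInner_add_left, classInner_add_right, h, h1, Complex.add_re, Complex.zero_re]
  ring

/-- a rational combination -/
noncomputable def cmb (t : ι → ℚ) (ψ : ι → H → ℂ) : H → ℂ := ∑ i, (t i : ℂ) • ψ i

theorem ip_cmb {ψ : ι → H → ℂ} {ψ' : ι' → H → ℂ} (h : ∀ i j, classInner (ψ i) (ψ' j) = 0) (t : ι → ℚ) (t' : ι' → ℚ) :
    classInner (cmb t ψ) (cmb t' ψ') = 0 := by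
  simp only [cmb, classInner_sum_left, classInner_sum_right, classInner_smul_left, classInner_smul_right, h, mul_zero,
    Finset.sum_const_zero]

theorem exists_gain {Γ : ι → ι → ℤ} {C : (ι → ℤ) → Prop} {b : ℚ} (hB : Bd Γ C b) {μ : H → ℂ} {ψ : ι → H → ℂ} {y : ι → ℤ}
    (hΓ : ∀ i j, classInner (ψ i) (ψ j) = Γ i j) (hy : ∀ i, classInner μ (ψ i) = y i) (hC : C y) :
    ∃ t, (b : ℝ) < gain μ (cmb t ψ) := by
  obtain ⟨t, ht⟩ := hB y hC
  have h1 : classInner μ (cmb t ψ) = ((∑ i, t i * y i : ℚ) : ℂ) := by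
    simp only [cmb, classInner_sum_right, classInner_smul_right, hy, map_ratCast]
    push_cast
    rfl
  have h2 : classInner (cmb t ψ) (cmb t ψ) = ((∑ i, ∑ j, t i * t j * Γ i j : ℚ) : ℂ) := by
    simp only [cmb, classInner_sum_left, classInner_smul_left]
    simp only [classInner_sum_right, classInner_smul_right, hΓ, map_ratCast, Finset.mul_sum, ← mul_assoc]
    push_cast
    rfl
  refine ⟨t, ?_⟩
  rw [gain, h1, h2, Complex.ratCast_re, Complex.ratCast_re]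
  exact_mod_cast ht

theorem lt3 {Γ : ι → ι → ℤ} {C : (ι → ℤ) → Prop} {b : ℚ} (hB : Bd Γ C b) {μ : H → ℂ} {ψ : Fin 3 → ι → H → ℂ}
    {y : Fin 3 → ι → ℤ} (hΓ : ∀ ν ν' i j, classInner (ψ ν i) (ψ ν' j) = if ν = ν' then (Γ i j : ℂ) else 0)
    (hy : ∀ ν i, classInner μ (ψ ν i) = y ν i) (hC : ∀ ν, C (y ν)) : 3 * (b : ℝ) < (classInner μ μ).re := by
  choose t ht using fun ν => exists_gain hB (fun i j => (hΓ ν ν i j).trans (if_pos rfl)) (hy ν) (hC ν)
  have h0 : ∀ ν ν', ν ≠ ν' → classInner (cmb (t ν) (ψ ν)) (cmb (t ν') (ψ ν')) = 0 := fun ν ν' h =>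
    ip_cmb (fun i j => (hΓ ν ν' i j).trans (if_neg h)) _ _
  have h1 := gain_le μ (cmb (t 0) (ψ 0) + cmb (t 1) (ψ 1) + cmb (t 2) (ψ 2))
  rw [gain_add (by rw [classInner_add_left, h0 0 2 (by decide), h0 1 2 (by decide), add_zero]),
    gain_add (h0 0 1 (by decide))] at h1
  linarith [ht 0, ht 1, ht 2]

/-- the automorphisms which fix a set of functions -/
def Fixr (T : Set (H → ℂ)) : Subgroup (MulAut H) where
  carrier := {σ | ∀ ψ ∈ T, ∀ g, ψ (σ g) = ψ g}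
  one_mem' := fun _ _ _ => rfl
  mul_mem' := fun h h' ψ hψ g => by rw [MulAut.mul_apply, h ψ hψ, h' ψ hψ]
  inv_mem' := fun {σ} h ψ hψ g => by rw [← h ψ hψ, MulAut.apply_inv_self]

end Bessel

variable {p : ℕ} [Fact p.Prime] {k : Type} [Field k] [CharP k p] {Y : Type} [Group Y] {N : Type} [Fintype N]
  [DecidableEq N] {ρ : Y →* GL N k} {F : MulAut Y} {G : Subgroup Y} [IsAlgClosed k] {D : Datum p ρ F G}
  (f : Fr D) [Fintype ↥(GF F G)] (w₀ : D.W)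

/-- box: the vector `μ` -/
def MuSc : Prop := ∀ M, IsPModular 3 M → ∀ X : Subgroup (MulAut ↥(GF F G)),
  ∃ (R : Finset (IrrCharacter ↥(GF F G))) (μ : ↥(GF F G) → ℂ), (∀ χ ∈ R, Mem M χ) ∧
    (∀ χ ∈ R, ∀ χ' ∈ R, ∀ σ ∈ X, (∀ g, χ.1 (σ g) = χ'.1 g) → χ = χ') ∧ classInner μ μ = R.card ∧
    ∀ ψ, IsGeneralizedCharacter ↥(GF F G) ψ → (∀ σ ∈ X, ∀ g, ψ (σ g) = ψ g) → ∀ z : ℤ, mS f w₀ ψ = z →
      ∃ y : ℤ, classInner μ ψ = y ∧ 3 ∣ y - z

variable {f w₀} {Adm : Matrix D.R D.R ℤ → Prop} {S : Type} [Group S] {s : Sit D Adm S} {Q : ℤ} {M : Ideal AlgInt}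
  {Γ : Type} [Group Γ] [Fintype Γ] {Ψ : Γ →* D.W} {c : Lbl D} {φ : Γ → ℂ}

variable (Adm) in
/-- fixed by the admissible automorphisms -/
def Inva (ψ : ↥(GF F G) → ℂ) : Prop := ∀ α A (h : Au D α A), Adm A → ∀ g, ψ (h.aut g) = ψ g

theorem fx3 (h : Sc D w₀ Q) (hc : c ^ 3 = 1) : Fx D w₀ c := by
  obtain ⟨m, hm⟩ := h.dvd
  rw [ClA.fx_sc h, hm, _root_.zpow_mul, zpow_ofNat, hc, _root_.one_zpow]

theorem is3 (hc : c ^ 3 = 1) : Is3 D c := ⟨1, by rwa [pow_one]⟩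

theorem cg_class (hA : Api f) : IsClassFunction ↥(GF F G) (cg f w₀ Ψ c φ) := fun g x => by
  simp only [cg_eq, Pi.smul_apply, Finset.sum_apply, gen_isClassFunction (hA.gen _ _) g x]

theorem cg_inva (h : Sca s w₀ Q) (hA : Api f) (E : Fm Ψ c) (hc : c ^ 3 = 1) (hn : ∃ v, D.Wm v = -1) :
    Inva Adm (cg f w₀ Ψ c φ) := fun α A hα hA' g => by
  obtain ⟨a, u, ha, rfl⟩ := h.adm A hA'
  obtain ⟨v, hv⟩ := hn
  rw [cg_aut hA E hα (v := u⁻¹) (a := a) (by rw [Matrix.mul_smul, ← D.Wm_mul, inv_mul_cancel, D.Wm_one])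
    (by rintro rfl; exact ha (dvd_zero _)) (fx3 h.sc hc)]
  have h3 : ∀ m : ℤ, c ^ (3 * m) = 1 := fun m => by rw [_root_.zpow_mul, zpow_ofNat, hc, _root_.one_zpow]
  rcases (by omega : a = 3 * (a / 3) + 1 ∨ a = 3 * (a / 3 + 1) + -1) with e | e
  · rw [e, _root_.zpow_add, h3, one_mul, zpow_one]
  · rw [e, _root_.zpow_add, h3, one_mul, _root_.zpow_neg_one, cg_inv h.sc hv]

theorem exists_mu (h : Sca s w₀ Q) (hA : Api f) (hc : s.Cop) (hμ : MuSc f w₀) (hM : IsPModular 3 M) :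
    ∃ μ : ↥(GF F G) → ℂ, (9 < (classInner μ μ).re → Res.P10 M S) ∧ ∀ ψ, IsGeneralizedCharacter ↥(GF F G) ψ →
      Inva Adm ψ → ∀ z : ℤ, mS f w₀ ψ = z → ∃ y : ℤ, classInner μ ψ = y ∧ 3 ∣ y - z := by
  have hF : Full D w₀ := (h.sc.mc f h.hp).card
  obtain ⟨R, μ, h1, h2, h3, h4⟩ := hμ M hM (Fixr {ψ | Inva Adm ψ})
  refine ⟨μ, fun h5 => ?_, fun ψ h5 h6 => h4 ψ h5 fun σ hσ => hσ ψ h6⟩
  rw [h3, Complex.natCast_re] at h5
  choose ψ h6 h7 using fun χ : R => hc.down hA hF hM (h1 χ χ.2)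
  refine Res.p10_of_fam ψ (by rw [Fintype.card_coe]; exact_mod_cast h5) h6 fun χ χ' hn =>
    Res.apart3_of_apart fun σ e => hn ?_
  obtain ⟨α, A, h8, h9, h10, -⟩ := hc.mv hA hF hM (h1 χ χ.2) (h1 χ' χ'.2) (h7 χ) (h7 χ') e
  exact Subtype.ext (h2 χ χ.2 χ' χ'.2 h8.aut (fun ψ hψ => hψ α A h8 h9) h10)

theorem exists_mem (h : Sca s w₀ Q) (E : Fm Ψ c) (hc : c ^ 3 = 1) (hM : IsPModular 3 M) (hφ : IsClassFunction Γ φ)
    (hg : IsGeneralizedCharacter ↥(GF F G) (cg f w₀ Ψ c φ)) (hn : classInner φ φ = 1) {z : ℤ}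
    (hz : φ 1 * (ClA.Wc c).index = z) (h3 : ¬ 3 ∣ z) :
    ∃ χ : IrrCharacter ↥(GF F G), Mem M χ ∧ ∃ ε : ℤˣ, χ.1 = ((ε : ℤ) : ℂ) • cg f w₀ Ψ c φ := by
  have h1 := (h.sc.mc f h.hp).all h.sc.regC M hM
  rcases isIrr_of_generalized hg ((ip_cg h.sc E (fx3 h.sc hc) hφ).trans hn) with h2 | h2
  · exact ⟨⟨_, h2⟩, (h1 _ z ((mS_cg h.sc E (fx3 h.sc hc) (is3 hc) hφ).trans hz)).2 h3, 1, by simp⟩
  · refine ⟨⟨_, h2⟩, (h1 _ (-z) ?_).2 (by rwa [Int.dvd_neg]), -1, by simp⟩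
    show mS f w₀ (-cg f w₀ Ψ c φ) = _
    rw [← map_neg, mS_cg h.sc E (fx3 h.sc hc) (is3 hc) fun g x => congrArg Neg.neg (hφ g x), Pi.neg_apply, neg_mul, hz,
      Int.cast_neg]

theorem p4_of (h : Sca s w₀ Q) (hA : Api f) (hc : s.Cop) (hM : IsPModular 3 M) {J : Type} [Fintype J]
    (hJ : 4 ≤ Fintype.card J) (R : J → ↥(GF F G) → ℂ)
    (hm : ∀ j, ∃ χ : IrrCharacter ↥(GF F G), Mem M χ ∧ ∃ ε : ℤˣ, χ.1 = ((ε : ℤ) : ℂ) • R j)
    (ho : ∀ j j', j ≠ j' → classInner (R j) (R j') = 0) (hi : ∀ j, Inva Adm (R j)) : Res.P4 M S := by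
  obtain ⟨ψ, h1, h2, h3⟩ := ClD.exists_fam hc hA (h.sc.mc f h.hp).card hM R Eq hm ho
    fun α A hα hA' j => ⟨j, rfl, hi j α A hα hA'⟩
  refine Res.p4_of_fam ψ hJ h2 h1 fun σ _ _ j => ?_
  obtain ⟨_, rfl, h4⟩ := h3 σ j
  exact h4

theorem G6_zero : ∀ b b' : Bool, G6 (0, b) (0, b') = if b = b' then 1 else 0 := by decide

theorem G7_zero : ∀ b b' : Bool, G7 (0, b) (0, b') = if b = b' then 1 else 0 := by decide

theorem d6_dvd : ∀ i : Fin 8, i ≠ 0 → 3 ∣ d6 i := by decide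

theorem G6_xor (b : Bool) (a a' : Fin 8 × Bool) : G6 (a.1, xor a.2 b) (a'.1, xor a'.2 b) = G6 a a' := by
  simp only [G6, dbl, Bool.xor_left_inj]

/-- **`E₇`** -/
theorem lo7_of [Fintype W6] [Fintype W7] (hB : CvpB) (hC : CvpC) (h6 : Gram6) (h7 : Gram7) (I : In7 f w₀)
    (h : Sca s w₀ Q) (hA : Api f) (hc : s.Cop) (hμ : MuSc f w₀) : Lo S := by
  have := s.finite
  have hF := fx3 h.sc I.cube
  have hF' : Fx D w₀ 1 := fx_one w₀
  have h1 : I.c ≠ 1 := fun e => by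
    have := I.idx
    rw [e, ClA.Wc_one, Subgroup.index_top] at this
    omega
  have h2 : ∀ a, ph6 a 1 * (ClA.Wc I.c).index = (d6 a.1 * 56 : ℤ) := fun a => by
    rw [show ph6 a 1 = _ from h6.one a, I.idx]; simp
  have h3 : ∀ a, ph7 a 1 * (ClA.Wc (1 : Lbl D)).index = (d7 a.1 : ℤ) := fun a => by
    rw [show ph7 a 1 = _ from h7.one a, ClA.Wc_one, Subgroup.index_top]; simp
  refine lo_of_p fun M hM => ⟨?_, ?_⟩
  · obtain ⟨μ, h4, h5⟩ := exists_mu h hA hc hμ hM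
    choose y hy hy' using fun a => h5 _ (I.gen a) (cg_inva h hA I.fm I.cube I.neg) _
      ((mS_cg h.sc I.fm hF (is3 I.cube) (ph_class _ _ _ a)).trans (h2 a))
    choose x hx hx' using fun a => h5 _ (I.gen' a) (cg_inva h hA I.fm' (one_pow 3) I.neg) _
      ((mS_cg h.sc I.fm' hF' (is3 (one_pow 3)) (ph_class _ _ _ a)).trans (h3 a))
    obtain ⟨t, ht⟩ := exists_gain hB (fun a b => (ip_cg h.sc I.fm hF (ph_class _ _ _ a)).trans (h6.ip a b)) hy (by
      have e0 : d6 0 = 1 := rfl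
      have e1 := hy' (0, false)
      have e2 := hy' (0, true)
      rw [e0] at e1 e2
      refine ⟨⟨by omega, fun a ha => ?_⟩, by omega⟩
      have := hy' a
      have := d6_dvd _ ha
      omega)
    obtain ⟨t', ht'⟩ := exists_gain hC (fun a b => (ip_cg h.sc I.fm' hF' (ph_class _ _ _ a)).trans (h7.ip a b)) hx hx'
    have h8 := gain_le μ (cmb t' (fun a => cg f w₀ I.Ψ' 1 (ph7 a)) + cmb t fun a => cg f w₀ I.Ψ I.c (ph6 a))
    rw [gain_add (ip_cmb (fun _ _ => ip_cg_ne h1) _ _)] at h8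
    refine h4 ?_
    push_cast at ht ht'
    linarith
  · refine p4_of h hA hc hM (J := Bool ⊕ Bool) (by simp)
      (Sum.elim (fun b => cg f w₀ I.Ψ I.c (ph6 (0, b))) fun b => cg f w₀ I.Ψ' 1 (ph7 (0, b))) ?_ ?_ ?_
    · rintro (b | b)
      · exact exists_mem h I.fm I.cube hM (ph_class _ _ _ _) (I.gen _) (by rw [h6.ip, G6_zero, if_pos rfl, Int.cast_one])
          (h2 _) (show ¬ 3 ∣ d6 0 * 56 by decide)
      · exact exists_mem h I.fm' (one_pow 3) hM (ph_class _ _ _ _) (I.gen' _)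
          (by rw [h7.ip, G7_zero, if_pos rfl, Int.cast_one]) (h3 _) (show ¬ 3 ∣ d7 0 by decide)
    · rintro (b | b) (b' | b') hn
      · refine (ip_cg h.sc I.fm hF (ph_class _ _ _ _)).trans ?_
        rw [h6.ip, G6_zero, if_neg fun e => hn (congrArg _ e), Int.cast_zero]
      · rw [← classInner_conj_symm]
        exact (congrArg _ (ip_cg_ne h1)).trans (map_zero _)
      · exact ip_cg_ne h1
      · refine (ip_cg h.sc I.fm' hF' (ph_class _ _ _ _)).trans ?_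
        rw [h7.ip, G7_zero, if_neg fun e => hn (congrArg _ e), Int.cast_zero]
    · rintro (b | b)
      · exact cg_inva h hA I.fm I.cube I.neg
      · exact cg_inva h hA I.fm' (one_pow 3) I.neg

/-- the functions on `W(E₆) × S₃` -/
noncomputable def pn (a : Fin 8 × Bool) (ν : Fin 3) (g : W6 × S3) : ℂ := ph6 a g.1 * nu ν g.2

theorem pn_class (a : Fin 8 × Bool) (ν : Fin 3) : IsClassFunction _ (pn a ν) := class_prod (ph_class _ _ _ a) (nu_class ν)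

section E8

variable [Fintype W6] (hB : CvpA) (h6 : Gram6) (I : In8 f w₀) (h : Sca s w₀ Q) (hA : Api f)

include h6 in
theorem ip_pn (a a' : Fin 8 × Bool) (ν ν' : Fin 3) :
    classInner (pn a ν) (pn a' ν') = if ν = ν' then (G6 a a' : ℂ) else 0 := by
  refine (ip_prod (ph6 a) (ph6 a') (nu ν) (nu ν')).trans ?_
  rw [h6.ip, ip_nu, mul_ite, mul_one, mul_zero]

include h6 h in
theorem ip8 (a a' : Fin 8 × Bool) (ν ν' : Fin 3) :
    classInner (cg f w₀ I.Ψ I.c (pn a ν)) (cg f w₀ I.Ψ I.c (pn a' ν')) = if ν = ν' then (G6 a a' : ℂ) else 0 :=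
  (ip_cg h.sc I.fm (fx3 h.sc I.cube) (pn_class a ν)).trans (ip_pn h6 a a' ν ν')

theorem third {χ : ↥(GF F G) → ℂ} (hχ : IsGeneralizedCharacter ↥(GF F G) χ) (b : Bool) : ∃ y : Fin 3 → ℤ,
    (∀ ν, classInner ((3 : ℂ) • χ) (cg f w₀ I.Ψ I.c (pn (0, b) ν)) = y ν) ∧ 3 ∣ y 0 + y 2 ∧ 3 ∣ y 0 - y 1 := by
  obtain ⟨h1, h2, h3⟩ := I.gen0 b
  obtain ⟨n1, e1⟩ := gen_inner hχ h1
  obtain ⟨n2, e2⟩ := gen_inner hχ h2
  obtain ⟨n3, e3⟩ := gen_inner hχ h3
  rw [show (fun g : W6 × S3 => ph6 (0, b) g.1 * (nu 0 g.2 + nu 2 g.2)) = pn (0, b) 0 + pn (0, b) 2 from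
    funext fun g => mul_add _ _ _, map_add, classInner_add_right] at e1
  rw [show (fun g : W6 × S3 => ph6 (0, b) g.1 * (nu 0 g.2 - nu 1 g.2)) = pn (0, b) 0 - pn (0, b) 1 from
    funext fun g => mul_sub _ _ _, map_sub, classInner_sub_right] at e2
  rw [show (fun g : W6 × S3 => ph6 (0, b) g.1 * (nu 0 g.2 + nu 1 g.2 - nu 2 g.2)) = pn (0, b) 0 + pn (0, b) 1 - pn (0, b) 2
    from funext fun g => (mul_sub _ _ _).trans (congrArg (· - _) (mul_add _ _ _)), map_sub, map_add, classInner_sub_right,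
    classInner_add_right] at e3
  refine ⟨![n1 + n2 + n3, n1 - 2 * n2 + n3, 2 * n1 - n2 - n3], fun ν => ?_, ⟨n1, by simp; ring⟩, ⟨n2, by simp; ring⟩⟩
  rw [classInner_smul_left]
  fin_cases ν <;> simp only [Fin.zero_eta, Fin.mk_one, Fin.reduceFinMk, Fin.isValue, cons_val_zero, cons_val_one,
    cons_val] <;> push_cast
  · linear_combination e1 + e2 + e3
  · linear_combination e1 - 2 * e2 + e3
  · linear_combination 2 * e1 - e2 - e3

include hB h6 h hA in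
/-- all the functions are generalized characters -/
theorem gen8 (a : Fin 8 × Bool) (ν : Fin 3) : IsGeneralizedCharacter ↥(GF F G) (cg f w₀ I.Ψ I.c (pn a ν)) := by
  by_cases ha : a.1 ≠ 0
  · exact I.gen a ν ha
  obtain ⟨i, b⟩ := a
  obtain rfl : i = 0 := of_not_not ha
  refine gen_of_inner_int (cg_class hA) fun χ hχ => ?_
  have hg : IsGeneralizedCharacter ↥(GF F G) χ := ⟨χ, 0, isIrr_isCharacter hχ, isCharacter_zero, (sub_zero _).symm⟩
  choose y hy hy' using third I hg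
  have h3 : 3 ∣ y b ν := by
    by_contra hn
    have h1 : ∀ ν' (a : Fin 8 × Bool), ∃ z : ℤ,
        classInner ((3 : ℂ) • χ) (cg f w₀ I.Ψ I.c (pn (a.1, xor a.2 b) ν')) = z ∧ (a.1 ≠ 0 → 3 ∣ z) := fun ν' a => by
      by_cases h0 : a.1 = 0
      · exact ⟨_, h0 ▸ hy _ ν', fun e => absurd h0 e⟩
      · obtain ⟨n, e⟩ := gen_inner hg (I.gen (a.1, xor a.2 b) ν' h0)
        exact ⟨3 * n, by rw [classInner_smul_left, Int.cast_mul, ← e]; rfl, fun _ => dvd_mul_right _ _⟩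
    choose z hz hz' using h1
    have h2 := lt3 hB (fun ν ν' a a' => by rw [ip8 h6 I h, G6_xor]) hz fun ν' => ⟨?_, hz' ν'⟩
    · rw [classInner_smul_left, classInner_smul_right, classInner_irr_self hχ, map_ofNat] at h2
      norm_num at h2
    · have h4 := hz ν' (0, false)
      rw [Bool.false_xor, hy] at h4
      rw [← Int.cast_injective h4]
      obtain ⟨h5, h7⟩ := hy' b
      fin_cases ν <;> fin_cases ν' <;> simp only [Fin.zero_eta, Fin.mk_one, Fin.reduceFinMk, Fin.isValue] at hn ⊢ <;> omega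
  obtain ⟨n, hn⟩ := h3
  have h4 := hy b ν
  rw [classInner_smul_left, hn, Int.cast_mul, Int.cast_ofNat, mul_right_inj' three_ne_zero] at h4
  exact ⟨n, by rw [← classInner_conj_symm, h4, map_intCast]⟩

include hB h6 I h hA in
/-- **`E₈`** -/
theorem lo8_of (hc : s.Cop) (hμ : MuSc f w₀) : Lo S := by
  have := s.finite
  have h2 : ∀ a ν, pn a ν 1 * (ClA.Wc I.c).index = (d6 a.1 * (![1, 1, 2] : Fin 3 → ℤ) ν * 2240 : ℤ) := fun a ν => by
    rw [pn, Prod.fst_one, Prod.snd_one, show ph6 a 1 = _ from h6.one a, nu_one, I.idx]; simp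
  have h3 : ∀ ν, ¬ 3 ∣ d6 0 * (![1, 1, 2] : Fin 3 → ℤ) ν * 2240 := by decide
  refine lo_of_p fun M hM => ⟨?_, ?_⟩
  · obtain ⟨μ, h4, h5⟩ := exists_mu h hA hc hμ hM
    choose y hy hy' using fun ν a => h5 _ (gen8 hB h6 I h hA a ν) (cg_inva h hA I.fm I.cube I.neg) _
      ((mS_cg h.sc I.fm (fx3 h.sc I.cube) (is3 I.cube) (pn_class a ν)).trans (h2 a ν))
    have h7 := lt3 hB (fun ν ν' a a' => ip8 h6 I h a a' ν ν') hy fun ν =>
      ⟨fun e => h3 ν ((dvd_sub_right e).1 (hy' ν (0, false))), fun a ha =>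
        (dvd_sub_left (((d6_dvd _ ha).mul_right _).mul_right _)).1 (hy' ν a)⟩
    refine h4 ?_
    norm_num at h7
    exact h7
  · refine p4_of h hA hc hM (J := Bool × Fin 3) (by simp) (fun j => cg f w₀ I.Ψ I.c (pn (0, j.1) j.2))
      (fun j => exists_mem h I.fm I.cube hM (pn_class _ _) (gen8 hB h6 I h hA _ _)
        (by rw [ip_pn h6, if_pos rfl, G6_zero, if_pos rfl, Int.cast_one]) (h2 _ _) (h3 _))
      (fun j j' hn => ?_) fun _ => cg_inva h hA I.fm I.cube I.neg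
    rw [ip8 h6 I h, G6_zero]
    split_ifs with e1 e2
    · exact absurd (Prod.ext e2 e1) hn
    · exact Int.cast_zero
    · rfl

end E8

end Cfsg.Agent.KZ.Exc.Lo78
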