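import Cfsg.Agent.KZ.Exc.EGram

/-!
# KZ, exceptional groups: orbits as lists, the checker for `Gram` (helper40)
-/

set_option autoImplicit false
set_option linter.unusedSectionVars false

namespace Cfsg.Agent.KZ.Exc.Gr

open CoxeterSystem Cfsg Cfsg.Lie Cfsg.Lie.ChevalleyDatum Matrix
open Cfsg.Agent.ChevalleyStructure Cfsg.Agent.ChevalleyStructure.CoxeterGeom
  Cfsg.Agent.ChevalleyStructure.CoxeterGeomTypes
open Cfsg.Agent.Tits.Roots Cfsg.Agent.Nodes Cfsg.Agent.Nodes.RGDChev Cfsg.Agent.KZ.DatX Cfsg.Agent.Characters.Core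
open scoped ComplexConjugate

variable {C : ChevalleyDatum} {l : ℕ} {M : CoxeterMatrix (Fin l)} (hp : IsType C l M)

/-- pairs of cocharacters -/
abbrev PV (l : ℕ) : Type := (Fin l → ℤ) × (Fin l → ℤ)

/-- the action on pairs -/
def ap (w : M.Group) (x : PV l) : PV l := (wm hp w *ᵥ x.1, wm hp w *ᵥ x.2)

theorem ap_mul (v w : M.Group) (x : PV l) : ap hp (v * w) x = ap hp v (ap hp w x) :=
  Prod.ext (wm_mul_mulVec hp _ _ _) (wm_mul_mulVec hp _ _ _)

theorem ap_one (x : PV l) : ap hp 1 x = x := Prod.ext (wm_one_mulVec hp _) (wm_one_mulVec hp _)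

theorem ap_ap (i : Fin l) (x : PV l) : ap hp (sr' M i) (ap hp (sr' M i) x) = x :=
  Prod.ext (simple_simple hp _ _) (simple_simple hp _ _)

/-- `s_i x` is a child of `x` -/
def Cnd (i : Fin l) (x : PV l) : Prop := 0 < x.1 i ∧ ∀ j < i, 0 ≤ (ap hp (sr' M i) x).1 j

open Classical in
/-- the next level of the tree -/
noncomputable def levF (L : List (PV l)) : List (PV l) :=
  L.flatMap fun x => ((List.finRange l).filter fun i => Cnd hp i x).map fun i => ap hp (sr' M i) x

/-- all levels -/
noncomputable def allF : ℕ → List (PV l) → List (PV l)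
  | 0, _ => []
  | k + 1, L => L ++ allF k (levF hp L)

theorem allF_realised : True := by have := @allF.eq_def; trivial

theorem allF_succ (k : ℕ) (L : List (PV l)) : allF hp (k + 1) L = allF hp k L ++ (levF hp)^[k] L := by
  induction k generalizing L with
  | zero => simp [allF]
  | succ k ih => rw [allF, ih, allF, List.append_assoc, Function.iterate_succ_apply]

theorem mem_allF {x : PV l} {k : ℕ} {L : List (PV l)} (hL : ∀ z ∈ L, ∃ v, ap hp v x = z) : ∀ z ∈ allF hp k L, ∃ v, ap hp v x = z := by
  induction k generalizing L with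
  | zero => simp [allF]
  | succ k ih =>
    intro z hz
    rcases List.mem_append.1 hz with h | h
    · exact hL z h
    · refine ih (fun z hz => ?_) z h
      obtain ⟨y, h1, h2⟩ := List.mem_flatMap.1 hz
      obtain ⟨i, -, rfl⟩ := List.mem_map.1 h2
      obtain ⟨v, rfl⟩ := hL y h1
      exact ⟨_, ap_mul hp _ _ _⟩

theorem count_lev_dom {z : PV l} (hz : 0 ≤ z.1) (L : List (PV l)) : (levF hp L).count z = 0 := by
  refine List.count_eq_zero.2 fun h => ?_
  obtain ⟨y, -, h2⟩ := List.mem_flatMap.1 h
  obtain ⟨i, h3, rfl⟩ := List.mem_map.1 h2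
  have h4 : Cnd hp i y := by simpa using h3
  have h5 : 0 ≤ (wm hp (sr' M i) *ᵥ y.1) i := hz i
  rw [simple_self] at h5
  have := h4.1
  omega

theorem count_lev {z : PV l} {i : Fin l} (h1 : z.1 i < 0) (h2 : ∀ j < i, 0 ≤ z.1 j) (L : List (PV l)) :
    (levF hp L).count z = L.count (ap hp (sr' M i) z) := by
  classical
  induction L with
  | nil => rfl
  | cons x L ih =>
    rw [levF, List.flatMap_cons, List.count_append, ← levF, ih, List.count_cons, add_comm]
    congr 1
    have h3 : ∀ j, (Cnd hp j x ∧ ap hp (sr' M j) x = z) ↔ (j = i ∧ x = ap hp (sr' M i) z) := fun j => by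
      constructor
      · rintro ⟨⟨h4, h5⟩, rfl⟩
        have h6 : (ap hp (sr' M j) x).1 j = -x.1 j := simple_self hp j x.1
        obtain rfl : j = i := by
          rcases lt_trichotomy j i with h | h | h
          · have := h2 j h
            omega
          · exact h
          · exact absurd (h5 i h) (not_le.2 h1)
        exact ⟨rfl, (ap_ap hp _ _).symm⟩
      · rintro ⟨rfl, rfl⟩
        have h6 : (ap hp (sr' M j) z).1 j = -z.1 j := simple_self hp j z.1
        exact ⟨⟨by omega, by rwa [ap_ap]⟩, ap_ap hp _ _⟩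
    rw [List.count_eq_countP, List.countP_map, List.countP_filter]
    by_cases h4 : x = ap hp (sr' M i) z
    · rw [if_pos (by simpa using h4), ← List.count_finRange i, List.count_eq_countP]
      refine List.countP_congr fun j _ => ?_
      simpa [and_comm, h4] using h3 j
    · rw [if_neg (by simpa using h4), List.countP_eq_zero]
      intro j _
      simpa [and_comm, h4] using h3 j

theorem count_all_dom {z : PV l} (hz : 0 ≤ z.1) (k : ℕ) (L : List (PV l)) : (allF hp k (levF hp L)).count z = 0 := by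
  induction k generalizing L with
  | zero => rfl
  | succ k ih => rw [allF, List.count_append, ih, count_lev_dom hp hz]

theorem count_all {z : PV l} {i : Fin l} (h1 : z.1 i < 0) (h2 : ∀ j < i, 0 ≤ z.1 j) (k : ℕ) (L : List (PV l)) :
    (allF hp k (levF hp L)).count z = (allF hp k L).count (ap hp (sr' M i) z) := by
  induction k generalizing L with
  | zero => rfl
  | succ k ih => rw [allF, allF, List.count_append, List.count_append, ih, count_lev hp h1 h2]

section Orb

variable {x : PV l} (hx : 0 ≤ x.1) (hS : St hp x.1 ≤ St hp x.2)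
include hx hS

theorem count_eq_one {k : ℕ} (hk : (levF hp)^[k] [x] = []) (v : M.Group) : (allF hp k [x]).count (ap hp v x) = 1 := by
  have h0 : allF hp k [x] = [x] ++ allF hp k (levF hp [x]) := by
    have h := allF_succ hp k [x]
    rw [hk, List.append_nil] at h
    exact h.symm
  induction hn : len v using Nat.strong_induction_on generalizing v with
  | _ n ih =>
    rw [h0, List.count_append]
    by_cases h : 0 ≤ (ap hp v x).1
    · have h1 : v ∈ St hp x.1 := dom_key hp hx (fun _ => simple_mem hp) v h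
      rw [count_all_dom hp h, show ap hp v x = x from Prod.ext h1 (hS h1)]
      simp
    · obtain ⟨i, h1, h2⟩ := (Finset.univ.filter fun i => (ap hp v x).1 i < 0).exists_min_image id (by
        simpa [Pi.le_def, Finset.Nonempty] using h)
      have h3 := (Finset.mem_filter.1 h1).2
      rw [count_all hp h3 fun j hj => not_lt.1 fun h4 => absurd (h2 j (Finset.mem_filter.2 ⟨Finset.mem_univ _, h4⟩))
        (not_le.2 hj), ← ap_mul, ih _ (hn ▸ len_lt hp hx h3) _ rfl, List.count_eq_zero.2]
      intro h4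
      exact h (by rwa [List.mem_singleton.1 h4])

theorem orb_sum [Fintype M.Group] {k : ℕ} (hk : (levF hp)^[k] [x] = []) (H : PV l → ℂ) :
    (Nat.card (St hp x.1) : ℂ)⁻¹ * ∑ v, H (ap hp v x) = ((allF hp k [x]).map H).sum := by
  classical
  have h1 := mem_allF hp (x := x) (k := k) (L := [x]) fun z hz => ⟨1, (ap_one hp x).trans (List.mem_singleton.1 hz).symm⟩
  have h2 : (allF hp k [x]).Nodup := List.nodup_iff_count_eq_one.2 fun z hz => by
    obtain ⟨v, rfl⟩ := h1 z hz
    exact count_eq_one hp hx hS hk v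
  rw [← List.sum_toFinset _ h2, inv_mul_eq_iff_eq_mul₀ (Nat.cast_ne_zero.2 Nat.card_pos.ne'), Finset.mul_sum,
    ← Finset.sum_fiberwise_of_maps_to (s := Finset.univ) (t := (allF hp k [x]).toFinset) (g := fun v => ap hp v x)
      fun v _ => List.mem_toFinset.2 (List.count_pos_iff.1 (by rw [count_eq_one hp hx hS hk v]; decide))]
  refine Finset.sum_congr rfl fun z hz => ?_
  obtain ⟨u, rfl⟩ := h1 z (List.mem_toFinset.1 hz)
  rw [Finset.sum_congr rfl fun v hv => congrArg H (Finset.mem_filter.1 hv).2, Finset.sum_const, nsmul_eq_mul,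
    Nat.card_eq_fintype_card, Fintype.card_subtype]
  congr 2
  refine (Finset.card_equiv (Equiv.mulLeft u) fun v => ?_).symm
  simp only [Finset.mem_filter, Finset.mem_univ, true_and, Equiv.coe_mulLeft, ap_mul]
  refine ⟨fun h => by rw [show ap hp v x = x from Prod.ext h (hS h)], fun h => ?_⟩
  have h3 := congrArg (ap hp u⁻¹) h
  rw [← ap_mul, ← ap_mul, ← ap_mul, inv_mul_cancel, one_mul, ap_one] at h3
  exact congrArg Prod.fst h3

end Orb

/-! ### the computation on lists -/

/-- forces a natural number -/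
def fn {α : Type} (n : ℕ) (k : ℕ → α) : α := Nat.casesOn n (k 0) fun m => k (m + 1)

/-- forces an integer -/
def fz {α : Type} (x : ℤ) (k : ℤ → α) : α :=
  match x with
  | .ofNat n => fn n fun m => k (.ofNat m)
  | .negSucc n => fn n fun m => k (.negSucc m)

/-- forces a list -/
def fl {α : Type} : List ℤ → (List ℤ → α) → α
  | [], k => k []
  | a :: L, k => fz a fun b => fl L fun m => k (b :: m)

theorem fl_realised : True := by have := @fl.eq_def; trivial

theorem fn_eq {α : Type} (n : ℕ) (k : ℕ → α) : fn n k = k n := by cases n <;> rfl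

theorem fz_eq {α : Type} (x : ℤ) (k : ℤ → α) : fz x k = k x := by cases x <;> rw [fz, fn_eq]

theorem fl_eq {α : Type} (L : List ℤ) (k : List ℤ → α) : fl L k = k L := by
  induction L generalizing k with
  | nil => rfl
  | cons a L ih => rw [fl, fz_eq, ih]

/-- pairs of lists -/
abbrev PL : Type := List ℤ × List ℤ

/-- pairs as lists -/
def toL (x : PV l) : PL := (List.ofFn x.1, List.ofFn x.2)

/-- the children -/
def kids (A : List (List ℤ)) (I : List ℕ) (x : PL) (acc : List PL) : List PL :=
  I.foldr (fun i acc => if 0 < x.1.getD i 0 then fl (refL A i x.1) fun y =>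
    if (y.take i).all (0 ≤ ·) then fl (refL A i x.2) fun y' => (y, y') :: acc else acc else acc) acc

/-- the next level -/
def lev (A : List (List ℤ)) (I : List ℕ) (L : List PL) : List PL := L.foldr (kids A I) []

/-- all levels -/
def allL (A : List (List ℤ)) (I : List ℕ) : ℕ → List PL → List PL
  | 0, _ => []
  | k + 1, L => L ++ allL A I k (lev A I L)

theorem allL_realised : True := by have := @allL.eq_def; trivial

/-- the last level is empty -/
def empL (A : List (List ℤ)) (I : List ℕ) : ℕ → List PL → Bool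
  | 0, L => L.isEmpty
  | k + 1, L => empL A I k (lev A I L)

theorem empL_realised : True := by have := @empL.eq_def; trivial

/-- a sum -/
def sumL (f : PL → ℤ) : List PL → ℤ → ℤ
  | [], a => a
  | x :: L, a => fz (a + f x) fun b => sumL f L b

theorem sumL_realised : True := by have := @sumL.eq_def; trivial

theorem sumL_eq (f : PL → ℤ) (L : List PL) (a : ℤ) : sumL f L a = a + (L.map f).sum := by
  induction L generalizing a with
  | nil => simp [sumL]
  | cons x L ih => rw [sumL, fz_eq, ih, List.map_cons, List.sum_cons, add_assoc]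

/-- dominant for the stabiliser of `a` -/
def djL (I : List ℕ) (a y : List ℤ) : Bool := I.all fun i => a.getD i 0 != 0 || 0 ≤ y.getD i 0

/-- not on a wall -/
def stL (I : List ℕ) (a y : List ℤ) : Bool := I.all fun i => a.getD i 0 != 0 || y.getD i 0 != 0

/-- the dominant conjugate and the sign -/
def dom (A : List (List ℤ)) (I : List ℕ) (a : List ℤ) : ℕ → List ℤ → ℤ → List ℤ × ℤ
  | 0, y, s => (y, s)
  | k + 1, y, s =>
    match I.find? fun i => a.getD i 0 == 0 && y.getD i 0 < 0 with
    | none => (y, s)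
    | some i => fl (refL A i y) fun z => fz (-s) fun t => dom A I a k z t

theorem dom_realised : True := by have := @dom.eq_def; trivial

/-- the dominant conjugate of `n x.2` -/
def dn (A : List (List ℤ)) (I : List ℕ) (a : List ℤ) (n : List (Fin l)) (x : PL) : List ℤ × ℤ :=
  fl (app A n x.2) fun z => dom A I a 40 z ((-1) ^ n.length)

/-- the fuel is sufficient -/
def okL (A : List (List ℤ)) (I : List ℕ) (a : List ℤ) (n : List (Fin l)) (x : PL) : Bool :=
  !djL I a x.1 || djL I a (dn A I a n x).1

/-- the contribution -/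
def hh (A : List (List ℤ)) (I : List ℕ) (a : List ℤ) (n : List (Fin l)) (b : Bool) (x : PL) : ℤ :=
  if djL I a x.1 then if (dn A I a n x).1 = x.1 then if b then if stL I a x.1 then (dn A I a n x).2 else 0 else 1 else 0 else 0

/-- the check for the orbit `j` -/
def chk (A : List (List ℤ)) (I : List ℕ) {t : ℕ} (lam lam' : Fin t → Fin l → ℤ) (n : Fin t → List (Fin l))
    (P Q : Fin t → Fin t → ℤ) (d : Fin t → ℤ) (k : ℕ) (j : Fin t) : Bool :=
  fl (List.ofFn (lam j)) fun a => fl (List.ofFn (lam' j)) fun a' =>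
    empL A I k [(a, a')] && sumL (fun x => if x.2 = x.1 then 1 else 0) (allL A I k [(a, a')]) 0 == d j &&
      (List.finRange t).all fun i => i < j || fl (List.ofFn (lam i)) fun c => (allL A I k [(a, a')]).all (okL A I c (n i)) &&
        sumL (hh A I c (n i) false) (allL A I k [(a, a')]) 0 == P i j &&
        sumL (hh A I c (n i) true) (allL A I k [(a, a')]) 0 == Q i j

variable {A : List (List ℤ)} (hA : IsRows C l A) {I : List ℕ} (hI : I = (List.finRange l).map Fin.val)
include hA

theorem refL_eq (i : Fin l) (y : Fin l → ℤ) : refL A i (List.ofFn y) = List.ofFn (wm hp (sr' M i) *ᵥ y) := by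
  rw [refL_ofFn hA, wm_simple]

theorem app_eq (n : List (Fin l)) (y : Fin l → ℤ) : app A n (List.ofFn y) = List.ofFn (wm hp (wd M n) *ᵥ y) := by
  rw [app_ofFn hA, wm_wd]

omit hA in
theorem take_all (i : Fin l) (y : Fin l → ℤ) : ((List.ofFn y).take i).all (0 ≤ ·) = true ↔ ∀ j < i, 0 ≤ y j := by
  simp only [List.all_eq_true, decide_eq_true_eq, List.mem_take_iff_getElem, List.length_ofFn, List.getElem_ofFn]
  constructor
  · intro h j hj
    exact h _ ⟨j, lt_min hj j.2, rfl⟩
  · rintro h _ ⟨j, hj, rfl⟩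
    exact h _ (lt_min_iff.1 hj).1

open Classical in
theorem kids_eq (J : List (Fin l)) (x : PV l) (acc : List PL) : kids A (J.map Fin.val) (toL x) acc =
    ((J.filter fun i => Cnd hp i x).map fun i => ap hp (sr' M i) x).map toL ++ acc := by
  induction J with
  | nil => rfl
  | cons i J ih =>
    rw [kids, List.map_cons, List.foldr_cons, ← kids, ih]
    have e1 : (toL x).1 = List.ofFn x.1 := rfl
    have e2 : (toL x).2 = List.ofFn x.2 := rfl
    rw [e1, e2, fl_eq, fl_eq, getD_ofFn, refL_eq hp hA, refL_eq hp hA]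
    by_cases h1 : 0 < x.1 i
    · by_cases h2 : ∀ j < i, 0 ≤ (wm hp (sr' M i) *ᵥ x.1) j
      · rw [if_pos h1, if_pos ((take_all _ _).2 h2), List.filter_cons_of_pos (p := fun i => decide (Cnd hp i x))
          (decide_eq_true (show Cnd hp i x from ⟨h1, h2⟩))]
        rfl
      · rw [if_pos h1, if_neg (mt (take_all _ _).1 h2), List.filter_cons_of_neg fun h => h2 (of_decide_eq_true h).2]
    · rw [if_neg h1, List.filter_cons_of_neg fun h => h1 (of_decide_eq_true h).1]

include hI

theorem lev_eq (L : List (PV l)) : lev A I (L.map toL) = (levF hp L).map toL := by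
  induction L with
  | nil => rfl
  | cons x L ih =>
    rw [lev, List.map_cons, List.foldr_cons, ← lev, ih, hI, kids_eq hp hA, levF, levF, List.flatMap_cons, List.map_append]

theorem allL_eq (k : ℕ) (L : List (PV l)) : allL A I k (L.map toL) = (allF hp k L).map toL := by
  induction k generalizing L with
  | zero => rfl
  | succ k ih => rw [allL, allF, lev_eq hp hA hI, ih, List.map_append]

theorem empL_eq (k : ℕ) (L : List (PV l)) (h : empL A I k (L.map toL) = true) : (levF hp)^[k] L = [] := by
  induction k generalizing L with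
  | zero => simpa [empL] using h
  | succ k ih => exact ih _ (by rwa [empL, lev_eq hp hA hI] at h)

omit hA in
theorem djL_iff (a y : Fin l → ℤ) : djL I (List.ofFn a) (List.ofFn y) = true ↔ DJ a y := by
  simp only [djL, hI, List.all_map, List.all_eq_true, List.mem_finRange, Function.comp, getD_ofFn, Bool.or_eq_true,
    bne_iff_ne, decide_eq_true_eq, DJ, imp_iff_not_or, ne_eq, not_true, false_or]

omit hA in
theorem stL_iff (a y : Fin l → ℤ) : stL I (List.ofFn a) (List.ofFn y) = true ↔ ∀ i, a i = 0 → y i ≠ 0 := by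
  simp only [stL, hI, List.all_map, List.all_eq_true, List.mem_finRange, Function.comp, getD_ofFn, Bool.or_eq_true,
    bne_iff_ne, imp_iff_not_or, ne_eq, not_true, false_or]

theorem dom_spec (a : Fin l → ℤ) (k : ℕ) (y : Fin l → ℤ) (s : ℤ) : ∃ u ∈ St hp a,
    (dom A I (List.ofFn a) k (List.ofFn y) s).1 = List.ofFn (wm hp u *ᵥ y) ∧
      ((dom A I (List.ofFn a) k (List.ofFn y) s).2 : ℂ) = sgn hp u * s := by
  induction k generalizing y s with
  | zero => exact ⟨1, one_mem _, by rw [wm_one_mulVec]; rfl, by rw [sgn_one, one_mul]; rfl⟩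
  | succ k ih =>
    rw [dom]
    split
    · exact ⟨1, one_mem _, by rw [wm_one_mulVec], by rw [sgn_one, one_mul]⟩
    · rename_i i h
      obtain ⟨i, -, rfl⟩ := List.mem_map.1 (hI ▸ List.mem_of_find?_eq_some h)
      have h1 := List.find?_some h
      simp only [getD_ofFn, Bool.and_eq_true, beq_iff_eq] at h1
      obtain ⟨u, h2, h3, h4⟩ := ih (wm hp (sr' M i) *ᵥ y) (-s)
      rw [fl_eq, fz_eq, refL_eq hp hA]
      exact ⟨u * sr' M i, mul_mem h2 (simple_mem hp h1.1), by rwa [wm_mul_mulVec], by
        rw [h4, sgn_mul, sgn_simple]; push_cast; ring⟩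

omit hA hI in
theorem sgn_wd (n : List (Fin l)) : sgn hp (wd M n) = (-1) ^ n.length := by
  induction n with
  | nil => rw [wd, wordProd_nil, sgn_one]; rfl
  | cons i n ih => rw [wd, wordProd_cons, sgn_mul, sgn_simple, ih, List.length_cons, pow_succ']

omit hA hI in
/-- `1` or the sign -/
noncomputable def eta (b : Bool) : M.Group →* ℂ := if b then ⟨⟨sgn hp, sgn_one hp⟩, sgn_mul hp⟩ else 1

theorem hh_eq [Fintype M.Group] {a : Fin l → ℤ} (ha : 0 ≤ a) (n : List (Fin l)) (b : Bool) (x : PV l)
    (h : okL A I (List.ofFn a) n (toL x) = true) :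
    (hh A I (List.ofFn a) n b (toL x) : ℂ) = HH hp a (wd M n) (eta hp b) x := by
  obtain ⟨u, h1, h2, h3⟩ := dom_spec hp hA hI a 40 (wm hp (wd M n) *ᵥ x.2) ((-1) ^ n.length)
  have h4 : dn A I (List.ofFn a) n (toL x) = dom A I (List.ofFn a) 40 (List.ofFn (wm hp (wd M n) *ᵥ x.2)) ((-1) ^ n.length) := by
    rw [dn, fl_eq, toL, app_eq hp hA]
  rw [← wm_mul_mulVec] at h2
  have e1 : (toL x).1 = List.ofFn x.1 := rfl
  rw [okL, h4, h2, e1, Bool.or_eq_true, Bool.not_eq_true', ← Bool.not_eq_true, djL_iff hI, djL_iff hI] at h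
  rw [hh, h4, h2, e1]
  by_cases h5 : DJ a x.1
  · rw [if_pos ((djL_iff hI _ _).2 h5)]
    by_cases h6 : wm hp (u * wd M n) *ᵥ x.2 = x.1
    · rw [if_pos (congrArg _ h6)]
      cases b
      · exact Int.cast_one.trans (HH_one hp ha h1 h5 h6).symm
      · rw [if_pos rfl]
        by_cases h7 : ∀ i, a i = 0 → x.1 i ≠ 0
        · rw [if_pos ((stL_iff hI _ _).2 h7), h3, HH_strict hp ha h1 h5 _ h6 h7]
          push_cast
          rw [← sgn_wd hp, ← sgn_mul]
          rfl
        · obtain ⟨i, h8, h9⟩ : ∃ i, a i = 0 ∧ x.1 i = 0 := by simpa using h7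
          rw [if_neg (mt (stL_iff hI _ _).1 h7), HH_wall hp ha h1 h5 _ h6 h8 h9 (sgn_simple hp i), Int.cast_zero]
    · rw [if_neg fun e => h6 (List.ofFn_injective e), HH_ne hp ha h1 h5 _ (h.resolve_left (not_not.2 h5)) h6, Int.cast_zero]
  · rw [if_neg (mt (djL_iff hI _ _).1 h5), HH, if_neg h5, Int.cast_zero]

/-- **the checker** -/
theorem gram_of_chk [Finite M.Group] {t : ℕ} {lam lam' : Fin t → Fin l → ℤ} {n : Fin t → List (Fin l)} {P Q : Fin t → Fin t → ℤ}
    {d : Fin t → ℤ} {k : ℕ} (h0 : ∀ i, (∀ a, 0 ≤ lam i a) ∧ (∀ a, lam i a = 0 → lam' i a = 0) ∧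
      app A (n i) (List.ofFn (lam' i)) = List.ofFn (lam i)) (hs : ∀ i j, P i j = P j i ∧ Q i j = Q j i)
    (h : ∀ j, chk A I lam lam' n P Q d k j = true) : Gram hp lam n (dbl P Q) d := by
  have h1 : ∀ i, wm hp (wd M (n i)) *ᵥ lam' i = lam i := fun i =>
    List.ofFn_injective ((app_eq hp hA _ _).symm.trans (h0 i).2.2)
  have hn := fun i => mem_norm hp (h0 i).1 (h0 i).2.1 (h1 i)
  have h2 : ∀ j, [(List.ofFn (lam j), List.ofFn (lam' j))] = [(lam j, lam' j)].map toL := fun _ => rfl
  simp only [chk, fl_eq, h2, allL_eq hp hA hI, sumL_eq, zero_add, Bool.and_eq_true, beq_iff_eq, List.all_eq_true,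
    List.mem_finRange, true_imp_iff, Bool.or_eq_true, decide_eq_true_eq, List.map_map, List.forall_mem_map] at h
  have h3 := fun [Fintype M.Group] j => orb_sum hp (x := (lam j, lam' j)) (h0 j).1 (St_le hp (h0 j).1 (h0 j).2.1)
    (empL_eq hp hA hI k _ (h j).1.1)
  have h4 : ∀ [Fintype M.Group] (a b : Fin t × Bool), b.1 ≤ a.1 →
      classInner (ph hp lam n a) (ph hp lam n b) = dbl P Q a b := by
    rintro _ ⟨i, a⟩ ⟨j, b⟩ hij
    obtain ⟨⟨h5, h6⟩, h7⟩ := ((h j).2 i).resolve_left (not_lt.2 hij)
    have h8 : ∀ c, ((allF hp k [(lam j, lam' j)]).map (HH hp (lam i) (wd M (n i)) (eta hp c))).sum =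
        (((allF hp k [(lam j, lam' j)]).map (hh A I (List.ofFn (lam i)) (n i) c ∘ toL)).sum : ℤ) := fun c => by
      rw [Int.cast_list_sum, List.map_map]
      exact congrArg List.sum (List.map_congr_left fun x hx => (hh_eq hp hA hI (h0 i).1 _ _ _ (h5 x hx)).symm)
    have h9 := fun c => (gram_eq hp (h0 i).1 (h0 j).1 (hn i) (h1 j) (eta hp c)).trans
      ((h3 j (HH hp (lam i) (wd M (n i)) (eta hp c))).trans (h8 c))
    have h10 : ∀ g, sgn hp g * sgn hp g = 1 := fun g => by
      obtain ⟨L, rfl⟩ := M.toCoxeterSystem.wordProd_surjective g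
      rw [sgn_wd, ← mul_pow]
      simp
    have h11 : ∀ g, conj (sgn hp g) = sgn hp g := fun g => by simp [sgn]
    rw [show dbl P Q (i, a) (j, b) = if (a != b) = true then Q i j else P i j by cases a <;> cases b <;> rfl]
    refine Eq.trans ?_ ((h9 (a != b)).trans (by cases a <;> cases b <;> simp [h6, h7]))
    rw [classInner]
    congr 1
    refine Finset.sum_congr rfl fun g _ => ?_
    cases a <;> cases b <;> simp [ph, eta, conj_Phi, h11]
    · exact .inl (mul_comm _ _)
    · ring
    · linear_combination Phi (St hp (lam i)) (wd M (n i)) g * Phi (St hp (lam j)) (wd M (n j)) g * h10 g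
  refine ⟨fun a b => ?_, fun a => ?_, hn⟩
  · rcases le_total b.1 a.1 with h5 | h5
    · exact h4 a b h5
    · rw [← classInner_conj_symm, h4 b a h5, map_intCast, dbl, dbl, (hs a.1 b.1).1, (hs a.1 b.1).2]
      simp only [eq_comm]
  · classical
    have := Fintype.ofFinite M.Group
    have h5 := h3 a.1 fun x => if x.2 = x.1 then 1 else 0
    rw [ph, sgn_one, ite_self, mul_one, Phi_eq hp (h1 a.1), ← (h a.1).1.2, Int.cast_list_sum, List.map_map]
    simp only [wm_one_mulVec]
    refine h5.trans (congrArg List.sum (List.map_congr_left fun x _ => ?_))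
    simp [toL]

end Cfsg.Agent.KZ.Exc.Gr
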