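import Cfsg.Agent.KZ.Exc.ELo78
import Cfsg.Agent.KZ.Exc.ELo6
import Cfsg.Agent.KZ.Exc.ENab
import Cfsg.Agent.KZ.Exc.ECvp
import Cfsg.Agent.KZ.Exc.EGram6
import Cfsg.Agent.KZ.Exc.EGram7

/-!
# KZ, the groups `E₆^ε`, `E₇`, `E₈`: the rows from the frames (helper40)
-/

set_option autoImplicit false
set_option linter.unusedSectionVars false

namespace Cfsg.Agent.KZ.Exc

open Cfsg Cfsg.Lie Matrix Cfsg.Agent.DL Cfsg.Agent.DL.PP Cfsg.Agent.KZ.Lie Cfsg.Agent.KZ.DatX Cfsg.Agent.KZ.Cl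

variable {p : ℕ} [Fact p.Prime] {k : Type} [Field k] [CharP k p] {Y : Type} [Group Y] {N : Type} [Fintype N]
  [DecidableEq N] {ρ : Y →* GL N k} {F : MulAut Y} {G : Subgroup Y} [IsAlgClosed k] {D : Datum p ρ F G}
  {f : Fr D} [Fintype ↥(GF F G)] {Adm : Matrix D.R D.R ℤ → Prop} {S : Type} [Group S] {s : Sit D Adm S} {w₀ : D.W} {Q : ℤ}
  [Fintype W6] (h : Sca s w₀ Q) (hA : Api f) (hS : ¬ IsMulCommutative S)
include h hA hS

theorem rowAt7 [Fintype W7] (hB : CvpB) (hC : CvpC) (I : In7 f w₀) (hc : s.Cop) : RowAt S :=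
  rowAt_of (nab7 I h hA) (Lo78.lo7_of hB hC gram6 gram7 I h hA hc fun _ => exists_mu_sc h.sc hA h.hp)
    fun _ hM => s.one hA (h.sc.mc f h.hp) h.hp hM hS

theorem rowAt8 (hB : CvpA) (I : In8 f w₀) (hc : s.Cop) : RowAt S :=
  rowAt_of (nab8 I h hA) (Lo78.lo8_of hB gram6 I h hA hc fun _ => exists_mu_sc h.sc hA h.hp)
    fun _ hM => s.one hA (h.sc.mc f h.hp) h.hp hM hS

theorem rowAt6 (I : In6 f w₀) (hG : Gp6 s) : RowAt S :=
  rowAt_of (nab6 I h hA hG.idx) (lo6 gram6 I h hG hA) fun _ hM => s.one hA (h.sc.mc f h.hp) h.hp hM hS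

end Cfsg.Agent.KZ.Exc
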