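import Cfsg.Agent.KZ.Exc.F4Mat
import Cfsg.Agent.KZ.G2.Fin

/-!
# KZ, `F₄(q)` and `E₆ ^ (-ε) (q)`: finite checks (helper84)

`CK` collects the checks; `CK.mm`.
-/

set_option autoImplicit false
set_option linter.unusedSectionVars false

namespace Cfsg.Agent.KZ.Exc

open Cfsg Cfsg.Lie Cfsg.Agent.DL Cfsg.Agent.DL.PP Cfsg.Agent.KZ.Lie Cfsg.Agent.KZ.DatX Matrix CoxeterSystem
  Cfsg.Agent.Nodes.RGDChev Cfsg.Agent.ChevalleyStructure.CoxeterGeomTypes
open Cfsg.Agent.KZ.G2 (FM gt toM toV mF oneF eqF rowF colF toM_mF toM_one eqF_iff rowF_iff colF_iff)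
open Cfsg.Agent.KZ.G2.Ck (wm)

theorem eq_of_count {W : Type} [Group W] [Finite W] {K H : Subgroup W} (h : K ≤ H) {ι Γ : Type} [Finite ι] (v : ι → W)
    (h1 : ∀ i j, (v i)⁻¹ * v j ∈ H → i = j) (φ : Γ → K) (h2 : Function.Injective φ)
    (h3 : Nat.card ι * Nat.card Γ = Nat.card W) : K = H := by
  have h4 : Nat.card ι ≤ H.index :=
    Nat.card_le_card_of_injective (fun i => (v i : W ⧸ H)) fun i j e => h1 i j (QuotientGroup.eq.1 e)
  refine Subgroup.eq_of_le_of_card_ge h (le_trans ?_ (Nat.card_le_card_of_injective φ h2))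
  refine Nat.le_of_mul_le_mul_right ?_ (Nat.pos_of_ne_zero (H.index_ne_zero_of_finite))
  rw [H.card_mul_index, ← h3, mul_comm]
  exact Nat.mul_le_mul_left _ h4

variable {C : ChevalleyDatum} {l : ℕ} {A : List (List ℤ)}

/-- a simple reflection acting on a row -/
def rR (A : List (List ℤ)) (x : List ℤ) (i : Fin l) : List ℤ :=
  x.set i (x.getD i 0 - (List.zipWith (· * ·) x (A.getD i [])).sum)

theorem rR_ofFn (h : IsRows C l A) (v : Fin l → ℤ) (i : Fin l) : rR A (List.ofFn v) i = List.ofFn (v ᵥ* sM C l i) := by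
  have h1 : List.zipWith (· * ·) (List.ofFn v) (List.ofFn (cartanOf C l i)) = List.ofFn fun a => v a * cartanOf C l i a := by
    apply List.ext_getElem <;> simp
  rw [rR, h, h1, List.sum_ofFn, getD_ofFn]
  refine List.ext_getElem (by simp) fun n h2 h3 => ?_
  simp only [List.getElem_set, List.getElem_ofFn, vecMul, dotProduct, sM, of_apply, mul_sub, mul_ite, mul_one, mul_zero,
    Finset.sum_sub_distrib, Finset.sum_ite_eq', Finset.mem_univ, if_true]
  by_cases h4 : (i : ℕ) = n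
  · subst h4
    simp
  · simp [h4, Fin.ext_iff, Ne.symm h4]

theorem foldl_rR (h : IsRows C l A) (L : List (Fin l)) (v : Fin l → ℤ) :
    L.foldl (rR A) (List.ofFn v) = List.ofFn (v ᵥ* (L.map (sM C l)).prod) := by
  induction L generalizing v with
  | nil => simp
  | cons i L ih => rw [List.foldl_cons, rR_ofFn h, ih, List.map_cons, List.prod_cons, vecMul_vecMul]

/-- the code of a row modulo `3` -/
def code (x : List ℤ) : ℤ := (x.map (· % 3)).foldr (fun a n => 3 * n + a) 0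

theorem code_eq {v u : Fin l → ℤ} (h : C3 v u) : code (List.ofFn v) = code (List.ofFn u) := by
  rw [code, code, List.map_ofFn, List.map_ofFn]
  exact congrArg (fun x => (List.ofFn x).foldr _ 0) (funext fun j => Int.emod_eq_emod_iff_emod_sub_eq_zero.2 (Int.emod_eq_zero_of_dvd (h j)))

/-- a simple reflection -/
def sF (A : List (List ℤ)) (i : ℕ) : FM := fun a b => oneF a b - if b = i then (A.getD i []).getD a 0 else 0

theorem toM_sF (h : IsRows C l A) (i : Fin l) : toM l (sF A i) = sM C l i := by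
  ext a b
  simp only [toM, sF, oneF, sM, of_apply, h i, getD_ofFn, Fin.ext_iff]

/-- the product of three matrices -/
def m3 (l : ℕ) (m : Fin 3 → D3 → FM) (a b c : D3) : FM := mF l (m 0 a) (mF l (m 1 b) (m 2 c))

/-- the checks for a Levi subgroup -/
def LK (l : ℕ) (m : Fin 3 → D3 → FM) (t : Bool) (P B : FM) (xs lam y : List ℤ) (n : ℤ) {Γ Δ : Type} [Group Γ] [Group Δ]
    (ι : Γ →* D3) (κ : Δ →* D3) : Prop :=
  n ≠ 0 ∧ colF l P lam = true ∧ toV l lam ᵥ* toM l B = n • toV l y ∧ (∀ j, 3 ∣ (toV l y - toV l xs) j) ∧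
    ∀ a b c, colF l (m3 l m a b c) lam = true ↔ (∃ a', ι a' = a) ∧ (∃ b', κ b' = b) ∧ ((∃ c', κ c' = c) ∨ t = false)

/-- the checks -/
structure CK (l : ℕ) (A : List (List ℤ)) (P : FM) (nW : ℕ) where
  wd : Fin 3 → D3 → List (Fin l)
  m : Fin 3 → D3 → FM
  t : Bool
  xs : List ℤ
  y0 : List ℤ
  ow : List (List (Fin l))
  B : FM
  U1 : FM
  U2 : FM
  U3 : FM
  U4 : FM
  hm : ∀ i a (j : Fin l), app A (wd i a) (List.ofFn fun r => if r = j then 1 else 0) = List.ofFn fun r => toM l (m i a) r j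
  mul : ∀ i a b, eqF l (m i (a * b)) (mF l (m i a) (m i b)) = true
  comm : ∀ i j, i < j → ∀ a b, eqF l (mF l (m i a) (m j b)) (mF l (m j b) (m i a)) = true
  fix : ∀ i a, rowF l xs (m i a) = true
  inj : ∀ a b c, eqF l (m3 l m a b c) oneF = true → a = 1 ∧ b = 1 ∧ (c = 1 ∨ t = false)
  orb : (ow.map fun L => code (L.foldl (rR A) (List.ofFn (toV l xs)))).IsChain (· < ·)
  card : ow.length * (if t then 216 else 36) = nW
  P2 : eqF l (mF l P P) oneF = true
  x_ne : ∃ j, ¬ 3 ∣ toV l xs j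
  x_P : rowF l xs P = true
  tw0 : t = false → eqF l P oneF = true ∧ ∀ c, eqF l (m 2 c) oneF = true
  tw1 : t = true → ∀ a, eqF l (mF l (m 0 a) P) (mF l P (m 0 a)) = true ∧ eqF l (mF l (m 1 a) P) (mF l P (m 2 a)) = true ∧
    eqF l (mF l (m 2 a) P) (mF l P (m 1 a)) = true
  sgn : ∀ a b, (-1) ^ ((wd 0 a).length + ((wd 1 b).length + (wd 2 1).length)) = ch 2 (cl a) * ch 2 (cl b)
  fus : ∀ k : Fin 3 × Fin 3, k = 0 ∨ (toM l (mF l (m3 l m (rp k.1) (rp k.2) 1) P)).trace ≠ (toM l P).trace ∨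
    eqF l (mF l (mF l (m3 l m (rp k.1) (rp k.2) 1) P) (mF l (m3 l m (rp k.1) (rp k.2) 1) P)) oneF = false
  B_inv : ∀ i < l, eqF l (mF l (mF l (fun a b => sF A i b a) B) (sF A i)) B = true
  l1 : ∃ lam y n, LK l m t P B xs lam y n (MonoidHom.id D3) (1 : Unit →* D3)
  l2 : ∃ lam y n, LK l m t P B xs lam y n (1 : Unit →* D3) (MonoidHom.id D3)
  l3 : ∃ lam y n, LK l m t P B xs lam y n i2 i2
  hU : 1 = vecMulVec (toV l y0) (toV l xs) + (toM l (m3 l m (.r 1) 1 1) - 1) * toM l U1 +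
    (toM l (m3 l m 1 (.r 1) (.r 1)) - 1) * toM l U2 + (toM l P - 1) * toM l U3 + (3 : ℤ) • toM l U4

namespace CK

variable {M : CoxeterMatrix (Fin l)} {nW : ℕ} {P : FM} (K : CK l A P nW) {hp : IsType C l M}
  {p : ℕ} [Fact p.Prime] {k : Type} [Field k] [CharP k p] [IsAlgClosed k] {Mx : Matrix (Fin l) (Fin l) ℤ}
  (X : XF hp p k Mx) (h : IsRows C l A)

theorem wm_mul (a b : M.Group) : wm X (a * b) = wm X a * wm X b := X.D.Wm_mul a b

theorem wm_inj {a b : M.Group} (e : wm X a = wm X b) : a = b := X.Wm_inj e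

include h

theorem wm_wd (i : Fin 3) (a : D3) : wm X (M.toCoxeterSystem.wordProd (K.wd i a)) = toM l (K.m i a) :=
  (X.Wm_word _).trans (prod_eq_of h _ (K.hm i a))

/-- the factors -/
noncomputable def j (i : Fin 3) : D3 →* M.Group :=
  MonoidHom.mk' (fun a => M.toCoxeterSystem.wordProd (K.wd i a)) fun a b => wm_inj X (by
    rw [wm_mul, K.wm_wd X h, K.wm_wd X h, K.wm_wd X h, ← toM_mF, eqF_iff.1 (K.mul i a b)])

theorem wm_j (i : Fin 3) (a : D3) : wm X (K.j X h i a) = toM l (K.m i a) := K.wm_wd X h i a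

theorem j_comm {i i' : Fin 3} (hi : i < i') (a b : D3) : Commute (K.j X h i a) (K.j X h i' b) := wm_inj X (by
  rw [wm_mul, wm_mul, wm_j, wm_j, ← toM_mF, ← toM_mF, eqF_iff.1 (K.comm i i' hi a b)])

/-- the stabiliser -/
noncomputable def J : D3 × D3 × D3 →* M.Group :=
  (K.j X h 0).noncommCoprod ((K.j X h 1).noncommCoprod (K.j X h 2) (K.j_comm X h (by decide))) fun a b =>
    (K.j_comm X h (by decide) a b.1).mul_right (K.j_comm X h (by decide) a b.2)

theorem J_apply (a b c : D3) : K.J X h (a, b, c) = K.j X h 0 a * (K.j X h 1 b * K.j X h 2 c) := rfl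

theorem wm_J (a b c : D3) : wm X (K.J X h (a, b, c)) = toM l (m3 l K.m a b c) := by
  rw [J_apply, wm_mul, wm_mul, wm_j, wm_j, wm_j, m3, toM_mF, toM_mF]

theorem J_one {a b c : D3} (e : K.J X h (a, b, c) = 1) : a = 1 ∧ b = 1 ∧ (c = 1 ∨ K.t = false) :=
  K.inj a b c (eqF_iff.2 (by rw [← K.wm_J X h, e, toM_one]; exact X.D.Wm_one))

theorem J_drop (ht : K.t = false) (a b c : D3) : K.J X h (a, b, c) = K.J X h (a, b, 1) := by
  rw [J_apply, J_apply, map_one, wm_inj X (b := 1) ((K.wm_j X h 2 c).trans ((eqF_iff.1 ((K.tw0 ht).2 c)).trans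
    (toM_one.trans X.D.Wm_one.symm)))]

/-- the stabiliser -/
def St : Subgroup M.Group where
  carrier := {v | C3 (toV l K.xs ᵥ* wm X v) (toV l K.xs)}
  one_mem' j := by
    rw [show wm X 1 = 1 from X.D.Wm_one, vecMul_one, sub_self]
    exact dvd_zero 3
  mul_mem' {a b} ha hb := by
    rw [Set.mem_ofPred_eq, wm_mul, ← vecMul_vecMul]
    exact (C3.vecMul ha _).trans hb
  inv_mem' {a} ha j := by
    have h1 := C3.vecMul ha (wm X a⁻¹) j
    rwa [vecMul_vecMul, ← wm_mul, mul_inv_cancel, show wm X 1 = 1 from X.D.Wm_one, vecMul_one, Pi.sub_apply,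
      dvd_sub_comm] at h1

theorem range_J (hW : Nat.card M.Group = nW) : (K.J X h).range = K.St X := by
  have : Finite M.Group := X.D.fW
  have h1 : ∀ i a, K.j X h i a ∈ K.St X := fun i a => by
    show C3 (_ ᵥ* wm X _) _
    rw [wm_j]
    exact rowF_iff.1 (K.fix i a)
  have h2 : (K.J X h).range ≤ K.St X := by
    rintro _ ⟨⟨a, b, c⟩, rfl⟩
    exact mul_mem (h1 0 a) (mul_mem (h1 1 b) (h1 2 c))
  have h3 : ∀ i j : Fin K.ow.length, (M.toCoxeterSystem.wordProd K.ow[i])⁻¹⁻¹ * (M.toCoxeterSystem.wordProd K.ow[j])⁻¹ ∈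
      K.St X → i = j := fun i j e => by
    have h4 := C3.vecMul e (wm X (M.toCoxeterSystem.wordProd K.ow[j]))
    rw [vecMul_vecMul, ← wm_mul, inv_inv, inv_mul_cancel_right] at h4
    have h5 := code_eq h4
    rw [show wm X (M.toCoxeterSystem.wordProd K.ow[i]) = _ from X.Wm_word _,
      show wm X (M.toCoxeterSystem.wordProd K.ow[j]) = _ from X.Wm_word _, ← foldl_rR h, ← foldl_rR h] at h5
    exact List.nodup_iff_injective_getElem.1 (List.Nodup.of_map _ (List.isChain_iff_pairwise.1 K.orb).nodup)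
      (List.inj_on_of_nodup_map (List.isChain_iff_pairwise.1 K.orb).nodup (List.getElem_mem _) (List.getElem_mem _) h5)
  have h4 := K.card.trans hW.symm
  cases ht : K.t
  · refine eq_of_count h2 _ h3 (fun x : D3 × D3 => ⟨K.J X h (x.1, x.2, 1), _, rfl⟩) (fun x y e => ?_) ?_
    · have h5 := K.J_one X h (a := x.1⁻¹ * y.1) (b := x.2⁻¹ * y.2) (c := 1⁻¹ * 1) (by
        rw [show (x.1⁻¹ * y.1, x.2⁻¹ * y.2, 1⁻¹ * 1) = (x.1, x.2, (1 : D3))⁻¹ * (y.1, y.2, 1) from rfl, map_mul, map_inv,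
          show K.J X h (x.1, x.2, 1) = _ from Subtype.ext_iff.1 e, inv_mul_cancel])
      exact Prod.ext (inv_mul_eq_one.1 h5.1) (inv_mul_eq_one.1 h5.2.1)
    · rw [← h4, ht, Nat.card_prod, DihedralGroup.nat_card, Nat.card_eq_fintype_card, Fintype.card_fin]
      rfl
  · refine eq_of_count h2 _ h3 (K.J X h).rangeRestrict ((injective_iff_map_eq_one _).2 fun x e => ?_) ?_
    · obtain ⟨h5, h6, h7⟩ := K.J_one X h (a := x.1) (b := x.2.1) (c := x.2.2) (Subtype.ext_iff.1 e)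
      exact Prod.ext h5 (Prod.ext h6 (h7.resolve_right (by simp [ht])))
    · rw [← h4, ht, Nat.card_prod, Nat.card_prod, DihedralGroup.nat_card, Nat.card_eq_fintype_card, Fintype.card_fin]
      rfl

theorem lv {Γ Δ : Type} [Group Γ] [Group Δ] {ι : Γ →* D3} {κ : Δ →* D3}
    (H : ∃ lam y n, LK l K.m K.t P K.B K.xs lam y n ι κ) :
    Lv X.D (K.J X h) (toM l P) (toM l K.B) (toV l K.xs) ι κ := by
  obtain ⟨lam, y, n, h1, h2, h3, h4, h5⟩ := H
  have h6 : ∀ a b c, K.J X h (a, b, c) ∈ Wl X.D (toV l lam) ↔ _ := fun a b c =>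
    (show wm X (K.J X h (a, b, c)) *ᵥ toV l lam = toV l lam ↔ _ by rw [wm_J, colF_iff]).trans (h5 a b c)
  refine ⟨toV l lam, toV l y, n, h1, colF_iff.1 h2, h3, h4, fun ⟨a, b, c⟩ => ⟨fun e => ?_, fun ⟨a', b', c', e⟩ => ?_⟩⟩
  · obtain ⟨⟨a, rfl⟩, ⟨b, rfl⟩, ⟨c, rfl⟩ | ht⟩ := (h6 a b c).1 e
    · exact ⟨a, b, c, rfl⟩
    · exact ⟨a, b, 1, (K.J_drop X h ht _ _ _).trans (K.J_drop X h ht _ _ _).symm⟩
  · exact e ▸ (h6 _ _ _).2 ⟨⟨_, rfl⟩, ⟨_, rfl⟩, .inl ⟨_, rfl⟩⟩

omit h in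
theorem sgZ_word (L : List (Fin l)) : sgZ X.D (M.toCoxeterSystem.wordProd L) = (-1) ^ L.length := by
  induction L with
  | nil => rw [wordProd_nil]; exact map_one (sgZ X.D)
  | cons i L ih =>
    rw [wordProd_cons, List.length_cons, pow_succ', ← ih]
    refine (map_mul (sgZ X.D) _ _).trans (congrArg (· * _) (Int.cast_injective (α := ℂ) ?_))
    exact (G2.sg_smp X.D i).trans (by norm_num)

theorem B_wm (v : M.Group) : (wm X v)ᵀ * toM l K.B * wm X v = toM l K.B := by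
  obtain ⟨L, -, e⟩ := X.exists_word v
  rw [show wm X v = (L.map (sM C l)).prod from e]
  clear e
  induction L with
  | nil => simp
  | cons i L ih =>
    have h1 := eqF_iff.1 (K.B_inv i i.2)
    rw [toM_mF, toM_mF, show toM l (fun a b => sF A i b a) = (toM l (sF A i))ᵀ from rfl, toM_sF h] at h1
    rw [List.map_cons, List.prod_cons, transpose_mul, mul_assoc _ (sM C l i)ᵀ, mul_assoc, ← mul_assoc _ (sM C l i), h1,
      ← mul_assoc, ih]

/-- the conditions on the matrices -/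
noncomputable def mm (hW : Nat.card M.Group = nW) {z : M.Group} (hz : wm X z = -toM l P) : MM X.D (toM l P) where
  J := K.J X h
  z := z
  x := toV l K.xs
  y0 := toV l K.y0
  B := toM l K.B
  U1 := toM l K.U1
  U2 := toM l K.U2
  U3 := toM l K.U3
  U4 := toM l K.U4
  z_eq := hz
  P2 := (toM_mF P P).symm.trans ((eqF_iff.1 K.P2).trans toM_one)
  x_ne := K.x_ne
  x_P := rowF_iff.1 K.x_P
  stab v := (SetLike.ext_iff.1 (K.range_J X h hW) v).symm
  inj a b c e := ⟨(K.J_one X h e).1, (K.J_one X h e).2.1⟩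
  tw := by
    cases ht : K.t
    · exact .inl ⟨(eqF_iff.1 (K.tw0 ht).1).trans toM_one, K.J_drop X h ht⟩
    · refine .inr fun a b c => show wm X (K.J X h (a, c, b)) * toM l P = toM l P * wm X (K.J X h (a, b, c)) from ?_
      have h1 := K.tw1 ht
      simp only [eqF_iff, toM_mF] at h1
      rw [J_apply, (K.j_comm X h (by decide) c b).eq, wm_mul, wm_mul, wm_J, wm_j, wm_j, wm_j, m3, toM_mF, toM_mF, mul_assoc,
        mul_assoc, (h1 c).2.1, ← mul_assoc _ (toM l P), (h1 b).2.2, mul_assoc, ← mul_assoc, (h1 a).1, mul_assoc]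
  sgn a b := by
    rw [← K.sgn, pow_add, pow_add, ← sgZ_word X, ← sgZ_word X, ← sgZ_word X]
    exact (map_mul (sgZ X.D) _ _).trans (congrArg _ (map_mul (sgZ X.D) _ _))
  fus k := show wm X (K.J X h _) * toM l P * (wm X (K.J X h _) * toM l P) = 1 →
      (wm X (K.J X h _) * toM l P).trace = (toM l P).trace → _ from fun h1 h2 => by
    rw [wm_J, ← toM_mF] at h1 h2
    rw [← toM_mF, ← toM_one, ← eqF_iff] at h1
    exact (K.fus k).resolve_right fun e => e.elim (· h2) fun e => by simp [e] at h1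
  B_inv := K.B_wm X h
  l1 := K.lv X h K.l1
  l2 := K.lv X h K.l2
  l3 := K.lv X h K.l3
  hU := by
    have h1 := K.hU
    rwa [← K.wm_J X h, ← K.wm_J X h] at h1

end CK

end Cfsg.Agent.KZ.Exc
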