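import Cfsg.Agent.KZ.Exc.F4Fin

/-!
# KZ, `F₄(q)` and `E₆ ^ (-ε) (q)`: the data and the rows (helper84)

`row_f4` (`Box.f4`), `rowAt_E6m`, `rowAt_2E6m`.
-/

set_option autoImplicit false
set_option linter.unusedSectionVars false

namespace Cfsg.Agent.KZ.Exc

open Cfsg Cfsg.Lie Cfsg.Agent.DL Cfsg.Agent.DL.PP Cfsg.Agent.KZ.Lie Cfsg.Agent.KZ.DatX Matrix CoxeterSystem
  Cfsg.Agent.Nodes.RGDChev Cfsg.Agent.ChevalleyStructure.CoxeterGeomTypes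
open Cfsg.Agent.KZ.G2 (FM gt toM toV mF oneF eqF rowF colF toM_mF toM_one eqF_iff rowF_iff)
open Cfsg.Agent.KZ.G2.Ck (wm)
open Cfsg.Agent.KZ.McX (Gt Pk HasP)

/-- the position of an element in the tables -/
def ix : D3 → ℕ
  | .r i => i.val
  | .sr i => 3 + i.val

/-- a table -/
def tb {α : Type} (L : List (List (List α))) (i : Fin 3) (a : D3) : List α := (L.getD i []).getD (ix a) []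

/-- the data for `F4` -/
def ckF4 : CK 4 rowsF4 oneF 1152 where
  wd := tb [[[], [3, 2], [2, 3], [3], [2], [2, 3, 2]], [[], [1, 2, 1, 0, 3, 2, 1, 0, 2, 1, 3, 2, 1, 0], [0, 1, 2, 1, 0, 3, 2,
    1, 0, 2, 1, 3, 2, 1], [1, 2, 1, 0, 3, 2, 1, 0, 2, 1, 3, 2, 1], [0], [0, 1, 2, 1, 0, 3, 2, 1, 0, 2, 1, 3, 2, 1, 0]],
    [[], [], [], [], [], []]]
  m i a := gt (tb [[[[1, 0, 0, 0], [0, 1, 0, 0], [0, 0, 1, 0], [0, 0, 0, 1]], [[1, 0, 0, 0], [0, 1, 1, 0], [0, 0, 0, 1], [0, 0, -1,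
    -1]], [[1, 0, 0, 0], [0, 1, 1, 1], [0, 0, -1, -1], [0, 0, 1, 0]], [[1, 0, 0, 0], [0, 1, 0, 0], [0, 0, 1, 1], [0, 0,
    0, -1]], [[1, 0, 0, 0], [0, 1, 1, 0], [0, 0, -1, 0], [0, 0, 1, 1]], [[1, 0, 0, 0], [0, 1, 1, 1], [0, 0, 0, -1], [0,
    0, -1, 0]]], [[[1, 0, 0, 0], [0, 1, 0, 0], [0, 0, 1, 0], [0, 0, 0, 1]], [[1, 3, 2, 1], [-1, -2, -2, -1], [0, 0, 1,
    0], [0, 0, 0, 1]], [[-2, -3, -2, -1], [1, 1, 0, 0], [0, 0, 1, 0], [0, 0, 0, 1]], [[2, 3, 2, 1], [-1, -2, -2, -1],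
    [0, 0, 1, 0], [0, 0, 0, 1]], [[-1, 0, 0, 0], [1, 1, 0, 0], [0, 0, 1, 0], [0, 0, 0, 1]], [[-1, -3, -2, -1], [0, 1, 0,
    0], [0, 0, 1, 0], [0, 0, 0, 1]]], [[[1, 0, 0, 0], [0, 1, 0, 0], [0, 0, 1, 0], [0, 0, 0, 1]], [[1, 0, 0, 0], [0, 1,
    0, 0], [0, 0, 1, 0], [0, 0, 0, 1]], [[1, 0, 0, 0], [0, 1, 0, 0], [0, 0, 1, 0], [0, 0, 0, 1]], [[1, 0, 0, 0], [0, 1,
    0, 0], [0, 0, 1, 0], [0, 0, 0, 1]], [[1, 0, 0, 0], [0, 1, 0, 0], [0, 0, 1, 0], [0, 0, 0, 1]], [[1, 0, 0, 0], [0, 1,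
    0, 0], [0, 0, 1, 0], [0, 0, 0, 1]]]] i a)
  t := false
  xs := [0, 0, 1, -1]
  y0 := [0, 0, 0, -1]
  ow := [[1, 0, 2, 1, 2, 3, 2, 1, 2], [1, 0, 2, 1, 0, 2, 1, 3, 2], [1, 0, 2, 1, 0, 2, 3, 2], [1, 0, 2, 1, 2, 3, 2], [1, 0,
    2, 1, 2, 3, 2, 1], [1, 0, 2, 1, 0, 2, 3], [1, 0, 2, 1, 2, 3], [1, 0, 2, 1, 0, 2, 1, 3], [1, 0, 2, 1, 0, 3], [1, 0,
    2, 1, 3], [1, 2, 1, 3], [1, 2, 1, 0, 3], [1, 2, 3], [1, 0, 2, 3], [1, 0, 2, 1, 0, 3, 2], [1, 0, 2, 1, 3, 2], [1, 0,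
    2, 1, 3, 2, 1], [1, 2, 1, 3, 2, 1], [1, 2, 1, 3, 2], [1, 2, 1, 0, 3, 2], [1, 0, 2, 1, 0], [1, 0, 2, 1], [1, 2, 1],
    [1, 2, 1, 0], [1, 2], [1, 0, 2], [], [1], [1, 0], [1, 0, 2, 1, 0, 2], [1, 0, 2, 1, 2], [1, 0, 2, 1, 0, 2, 1]]
  B := gt [[4, 6, 4, 2], [6, 12, 8, 4], [4, 8, 6, 3], [2, 4, 3, 2]]
  U1 := gt [[0, 0, 0, 0], [0, 0, 0, 0], [1, 1, 0, 0], [1, 1, 1, 0]]
  U2 := gt [[0, 0, 0, 0], [0, 0, 0, 0], [-1, 0, 0, 0], [0, 0, 0, 0]]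
  U3 := gt [[0, 0, 0, 0], [0, 0, 0, 0], [0, 0, 0, 0], [0, 0, 0, 0]]
  U4 := gt [[1, 0, 0, 0], [-1, 0, 0, 0], [0, 0, 0, 0], [1, 1, 1, 0]]
  hm := by decide +kernel
  mul := by decide +kernel
  comm := by decide +kernel
  fix := by decide +kernel
  inj := by decide +kernel
  orb := by decide +kernel
  card := by decide +kernel
  P2 := by decide +kernel
  x_ne := by decide +kernel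
  x_P := by decide +kernel
  tw0 := by decide +kernel
  tw1 := by decide +kernel
  sgn := by decide +kernel
  fus := by decide +kernel
  B_inv := by decide +kernel
  l1 := ⟨[-9, -5, 0, 0], [-33, -57, -38, -19], 2, by unfold LK; decide +kernel⟩
  l2 := ⟨[0, 8, -9, -6], [0, 0, -8, -7], 1, by unfold LK; decide +kernel⟩
  l3 := ⟨[-21, -5, 18, 0], [-21, -21, -8, -4], 2, by unfold LK; decide +kernel⟩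
  hU := by decide +kernel

/-- the graph automorphism -/
def pF : FM := gt [[0, 0, 0, 0, 0, 1], [0, 1, 0, 0, 0, 0], [0, 0, 0, 0, 1, 0], [0, 0, 0, 1, 0, 0], [0, 0, 1, 0, 0, 0],
  [1, 0, 0, 0, 0, 0]]

/-- the data for `E6` -/
def ckE6 : CK 6 rowsE6 pF 51840 where
  wd := tb [[[], [1, 3, 2, 0, 4, 3, 1, 2, 3, 4, 5, 4, 3, 1, 2, 0, 3, 2, 4, 3], [3, 2, 0, 4, 3, 1, 2, 3, 4, 5, 4, 3, 1, 2, 0, 3,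
    2, 4, 3, 1], [1], [3, 2, 0, 4, 3, 1, 2, 3, 4, 5, 4, 3, 1, 2, 0, 3, 2, 4, 3], [1, 3, 2, 0, 4, 3, 1, 2, 3, 4, 5, 4, 3,
    1, 2, 0, 3, 2, 4, 3, 1]], [[], [4, 5], [5, 4], [4], [5], [4, 5, 4]], [[], [2, 0], [0, 2], [2], [0], [0, 2, 0]]]
  m i a := gt (tb [[[[1, 0, 0, 0, 0, 0], [0, 1, 0, 0, 0, 0], [0, 0, 1, 0, 0, 0], [0, 0, 0, 1, 0, 0], [0, 0, 0, 0, 1, 0], [0, 0, 0, 0,
    0, 1]], [[1, 0, 0, 0, 0, 0], [-1, -2, -2, -3, -2, -1], [0, 0, 1, 0, 0, 0], [0, 1, 0, 1, 0, 0], [0, 0, 0, 0, 1, 0],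
    [0, 0, 0, 0, 0, 1]], [[1, 0, 0, 0, 0, 0], [1, 1, 2, 3, 2, 1], [0, 0, 1, 0, 0, 0], [-1, -1, -2, -2, -2, -1], [0, 0,
    0, 0, 1, 0], [0, 0, 0, 0, 0, 1]], [[1, 0, 0, 0, 0, 0], [0, -1, 0, 0, 0, 0], [0, 0, 1, 0, 0, 0], [0, 1, 0, 1, 0, 0],
    [0, 0, 0, 0, 1, 0], [0, 0, 0, 0, 0, 1]], [[1, 0, 0, 0, 0, 0], [1, 2, 2, 3, 2, 1], [0, 0, 1, 0, 0, 0], [-1, -1, -2,
    -2, -2, -1], [0, 0, 0, 0, 1, 0], [0, 0, 0, 0, 0, 1]], [[1, 0, 0, 0, 0, 0], [-1, -1, -2, -3, -2, -1], [0, 0, 1, 0, 0,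
    0], [0, 0, 0, 1, 0, 0], [0, 0, 0, 0, 1, 0], [0, 0, 0, 0, 0, 1]]], [[[1, 0, 0, 0, 0, 0], [0, 1, 0, 0, 0, 0], [0, 0,
    1, 0, 0, 0], [0, 0, 0, 1, 0, 0], [0, 0, 0, 0, 1, 0], [0, 0, 0, 0, 0, 1]], [[1, 0, 0, 0, 0, 0], [0, 1, 0, 0, 0, 0],
    [0, 0, 1, 0, 0, 0], [0, 0, 0, 1, 1, 1], [0, 0, 0, 0, -1, -1], [0, 0, 0, 0, 1, 0]], [[1, 0, 0, 0, 0, 0], [0, 1, 0, 0,
    0, 0], [0, 0, 1, 0, 0, 0], [0, 0, 0, 1, 1, 0], [0, 0, 0, 0, 0, 1], [0, 0, 0, 0, -1, -1]], [[1, 0, 0, 0, 0, 0], [0,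
    1, 0, 0, 0, 0], [0, 0, 1, 0, 0, 0], [0, 0, 0, 1, 1, 0], [0, 0, 0, 0, -1, 0], [0, 0, 0, 0, 1, 1]], [[1, 0, 0, 0, 0,
    0], [0, 1, 0, 0, 0, 0], [0, 0, 1, 0, 0, 0], [0, 0, 0, 1, 0, 0], [0, 0, 0, 0, 1, 1], [0, 0, 0, 0, 0, -1]], [[1, 0, 0,
    0, 0, 0], [0, 1, 0, 0, 0, 0], [0, 0, 1, 0, 0, 0], [0, 0, 0, 1, 1, 1], [0, 0, 0, 0, 0, -1], [0, 0, 0, 0, -1, 0]]],
    [[[1, 0, 0, 0, 0, 0], [0, 1, 0, 0, 0, 0], [0, 0, 1, 0, 0, 0], [0, 0, 0, 1, 0, 0], [0, 0, 0, 0, 1, 0], [0, 0, 0, 0,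
    0, 1]], [[0, 0, 1, 0, 0, 0], [0, 1, 0, 0, 0, 0], [-1, 0, -1, 0, 0, 0], [1, 0, 1, 1, 0, 0], [0, 0, 0, 0, 1, 0], [0,
    0, 0, 0, 0, 1]], [[-1, 0, -1, 0, 0, 0], [0, 1, 0, 0, 0, 0], [1, 0, 0, 0, 0, 0], [0, 0, 1, 1, 0, 0], [0, 0, 0, 0, 1,
    0], [0, 0, 0, 0, 0, 1]], [[1, 0, 1, 0, 0, 0], [0, 1, 0, 0, 0, 0], [0, 0, -1, 0, 0, 0], [0, 0, 1, 1, 0, 0], [0, 0, 0,
    0, 1, 0], [0, 0, 0, 0, 0, 1]], [[-1, 0, 0, 0, 0, 0], [0, 1, 0, 0, 0, 0], [1, 0, 1, 0, 0, 0], [0, 0, 0, 1, 0, 0], [0,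
    0, 0, 0, 1, 0], [0, 0, 0, 0, 0, 1]], [[0, 0, -1, 0, 0, 0], [0, 1, 0, 0, 0, 0], [-1, 0, 0, 0, 0, 0], [1, 0, 1, 1, 0,
    0], [0, 0, 0, 0, 1, 0], [0, 0, 0, 0, 0, 1]]]] i a)
  t := true
  xs := [1, 0, -1, 0, -1, 1]
  y0 := [0, 0, 0, 0, 0, 1]
  ow := [[3, 1, 2, 0, 3, 2, 4, 3, 1, 5, 4, 3], [3, 1, 2, 3, 4, 3, 1, 2, 3, 5, 4, 3, 1, 2, 3], [3, 1, 2, 3, 4, 3, 1, 2, 0, 3,
    2, 5, 4], [3, 1, 2, 0, 3, 2, 4, 3, 1, 5, 4], [3, 1, 2, 0, 3, 2, 4, 3, 5, 4], [3, 1, 2, 3, 4, 3, 1, 2, 0, 3, 5, 4],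
    [3, 1, 2, 3, 4, 3, 1, 2, 3, 5, 4], [3, 1, 2, 0, 3, 2, 4, 3, 1, 2, 0, 5, 4], [3, 1, 2, 0, 3, 2, 4, 3, 1, 2, 5, 4],
    [3, 1, 2, 0, 3, 2, 4, 3, 2, 0, 5, 4], [3, 1, 2, 0, 3, 2, 4, 3, 2, 5, 4], [3, 1, 2, 0, 3, 2, 4, 3, 2, 0, 5, 4, 3, 2],
    [3, 1, 2, 3, 4, 3, 1, 2, 0, 3, 5, 4, 3, 1], [3, 1, 2, 3, 4, 3, 1, 2, 3, 5, 4, 3, 1], [3, 1, 2, 3, 4, 3, 1, 2, 0, 3,
    5, 4, 3], [3, 1, 2, 3, 4, 3, 1, 2, 3, 5, 4, 3], [3, 1, 2, 3, 4, 3, 1, 2, 3, 5, 4, 3, 1, 2], [3, 1, 2, 0, 3, 2, 4, 3,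
    2, 0, 5, 4, 3], [3, 1, 2, 0, 3, 2, 4, 3, 2, 5, 4, 3], [3, 1, 2, 3, 4, 3, 1, 2, 3, 5, 4, 3, 2], [3, 1, 2, 3, 4, 3,
    5], [3, 1, 2, 0, 3, 4, 3, 5], [3, 1, 2, 3, 4, 3, 1, 5], [3, 1, 2, 0, 3, 4, 3, 1, 5], [3, 1, 2, 3, 4, 3, 2, 0, 5],
    [3, 1, 2, 3, 4, 3, 2, 5], [3, 1, 2, 3, 4, 3, 1, 2, 0, 5], [3, 1, 2, 3, 4, 3, 1, 2, 5], [3, 1, 2, 0, 3, 4, 3, 2, 0,
    5], [3, 1, 2, 0, 3, 4, 3, 2, 5], [3, 1, 2, 0, 3, 4, 3, 1, 2, 0, 5], [3, 1, 2, 0, 3, 4, 3, 1, 2, 5], [3, 1, 2, 3, 4,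
    3, 1, 2, 0, 3, 2, 5], [3, 1, 2, 0, 3, 2, 4, 3, 1, 5], [3, 1, 2, 0, 3, 2, 4, 3, 5], [3, 1, 2, 3, 4, 3, 1, 2, 0, 3,
    5], [3, 1, 2, 3, 4, 3, 1, 2, 3, 5], [3, 1, 2, 0, 3, 2, 4, 3, 1, 2, 0, 5], [3, 1, 2, 0, 3, 2, 4, 3, 1, 2, 5], [3, 1,
    2, 0, 3, 2, 4, 3, 2, 0, 5], [3, 1, 2, 0, 3, 2, 4, 3, 2, 5], [3, 1, 2, 0, 3, 2, 4, 3, 1, 2, 0, 3, 2, 5], [3, 1, 2, 3,
    4, 5], [3, 1, 2, 0, 3, 4, 5], [3, 1, 2, 0, 3, 4, 3, 1, 2, 0, 3, 2, 5], [3, 1, 2, 0, 3, 2, 4, 5], [3, 1, 2, 0, 3, 2,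
    4, 3, 1, 2, 0, 3, 5], [3, 1, 2, 0, 3, 2, 4, 3, 1, 2, 3, 5], [3, 1, 2, 0, 3, 4, 3, 1, 2, 0, 3, 5], [3, 1, 2, 0, 3, 4,
    3, 1, 2, 3, 5], [3, 1, 2, 3, 4, 3, 5, 4], [3, 1, 2, 0, 3, 4, 3, 5, 4], [3, 1, 2, 3, 4, 3, 1, 5, 4], [3, 1, 2, 0, 3,
    4, 3, 1, 5, 4], [3, 1, 2, 3, 4, 3, 2, 0, 5, 4], [3, 1, 2, 3, 4, 3, 2, 5, 4], [3, 1, 2, 3, 4, 3, 1, 2, 0, 5, 4], [3,
    1, 2, 3, 4, 3, 1, 2, 5, 4], [3, 1, 2, 0, 3, 4, 3, 2, 0, 5, 4], [3, 1, 2, 0, 3, 4, 3, 2, 5, 4], [3, 1, 2, 0, 3, 4, 3,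
    1, 2, 0, 5, 4], [3, 1, 2, 0, 3, 4, 3, 1, 2, 5, 4], [3, 1, 2, 3, 4, 3, 2, 0, 5, 4, 3, 1, 2], [3, 1, 2, 3, 4, 3, 2, 0,
    5, 4, 3, 2], [3, 1, 2, 3, 4, 3, 1, 5, 4, 3], [3, 1, 2, 0, 3, 4, 3, 1, 5, 4, 3], [3, 1, 2, 3, 4, 3, 2, 0, 5, 4, 3,
    1], [3, 1, 2, 3, 4, 3, 2, 5, 4, 3, 1], [3, 1, 2, 3, 4, 3, 2, 0, 5, 4, 3], [3, 1, 2, 3, 4, 3, 2, 5, 4, 3], [3, 1, 2,
    3, 4, 3, 1, 5, 4, 3, 2], [3, 1, 2, 0, 3, 4, 3, 2, 0, 5, 4, 3, 2], [3, 1, 2, 3, 4, 3, 1, 2, 0, 5, 4, 3, 1], [3, 1, 2,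
    3, 4, 3, 1, 2, 5, 4, 3, 1], [3, 1, 2, 3, 4, 3, 1, 2, 0, 5, 4, 3], [3, 1, 2, 3, 4, 3, 1, 2, 5, 4, 3], [3, 1, 2, 3, 4,
    3, 1, 2, 5, 4, 3, 1, 2], [3, 1, 2, 0, 3, 4, 3, 2, 0, 5, 4, 3], [3, 1, 2, 0, 3, 4, 3, 2, 5, 4, 3], [3, 1, 2, 3, 4, 3,
    1, 2, 5, 4, 3, 2], [3, 1, 2, 4, 3], [3, 1, 2, 0, 4, 3], [3, 1, 2, 4, 3, 1], [3, 1, 2, 0, 4, 3, 1], [3, 1, 2, 4, 3,
    2, 0], [3, 1, 2, 4, 3, 2], [3, 1, 2, 4, 3, 1, 2, 0], [3, 1, 2, 4, 3, 1, 2], [3, 1, 2, 0, 4, 3, 2, 0], [3, 1, 2, 0,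
    4, 3, 2], [3, 1, 2, 0, 4, 3, 1, 2, 0], [3, 1, 2, 0, 4, 3, 1, 2], [3, 2, 4], [3, 2, 0, 4], [3, 1, 2, 4], [3, 1, 2, 0,
    4], [3, 2, 0, 4, 3, 1, 2, 3], [3, 4], [3, 1, 4], [3, 1, 2, 0, 4, 3, 1, 2, 0, 3], [3, 1, 2, 0, 4, 3, 1, 2, 3], [3, 2,
    4, 3], [3, 2, 0, 4, 3], [3, 2, 4, 3, 1], [3, 2, 0, 4, 3, 1], [3, 2, 0, 4, 3, 2], [3, 1, 4, 3, 2, 0], [3, 1, 4, 3,
    2], [3, 2, 0, 4, 3, 1, 2], [3, 1, 4, 3], [3, 1, 2, 3, 4, 3], [3, 1, 2, 0, 3, 4, 3], [3, 1, 2, 3, 4, 3, 1], [3, 1, 2,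
    0, 3, 4, 3, 1], [3, 1, 2, 3, 4, 3, 2, 0], [3, 1, 2, 3, 4, 3, 2], [3, 1, 2, 3, 4, 3, 1, 2, 0], [3, 1, 2, 3, 4, 3, 1,
    2], [3, 1, 2, 0, 3, 4, 3, 2, 0], [3, 1, 2, 0, 3, 4, 3, 2], [3, 1, 2, 0, 3, 4, 3, 1, 2, 0], [3, 1, 2, 0, 3, 4, 3, 1,
    2], [3, 1, 2, 3, 4, 3, 1, 2, 0, 3, 2], [3, 1, 2, 0, 3, 2, 4, 3, 1], [3, 1, 2, 0, 3, 2, 4, 3], [3, 1, 2, 3, 4, 3, 1,
    2, 0, 3], [3, 1, 2, 3, 4, 3, 1, 2, 3], [3, 1, 2, 0, 3, 2, 4, 3, 1, 2, 0], [3, 1, 2, 0, 3, 2, 4, 3, 1, 2], [3, 1, 2,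
    0, 3, 2, 4, 3, 2, 0], [3, 1, 2, 0, 3, 2, 4, 3, 2], [3, 1, 2, 0, 3, 2, 4, 3, 1, 2, 0, 3, 2], [3, 1, 2, 3, 4], [3, 1,
    2, 0, 3, 4], [3, 1, 2, 0, 3, 4, 3, 1, 2, 0, 3, 2], [3, 1, 2, 0, 3, 2, 4], [3, 1, 2, 0, 3, 2, 4, 3, 1, 2, 0, 3], [3,
    1, 2, 0, 3, 2, 4, 3, 1, 2, 3], [3, 1, 2, 0, 3, 4, 3, 1, 2, 0, 3], [3, 1, 2, 0, 3, 4, 3, 1, 2, 3], [3, 1, 2, 0, 3, 2,
    4, 3, 1, 2, 0, 3, 2, 4, 3], [], [3, 2], [3, 2, 0], [3, 1, 2], [3, 1, 2, 0], [3, 2, 0, 4, 3, 1, 2, 3, 4], [3], [3,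
    1], [3, 1, 2, 0, 4, 3, 1, 2, 0, 3, 4], [3, 1, 2, 0, 4, 3, 1, 2, 3, 4], [3, 1, 2, 0, 3, 2, 4, 3, 1, 2, 0, 3, 2, 4],
    [3, 1, 2, 3], [3, 1, 2, 0, 3], [3, 1, 2, 0, 3, 4, 3, 1, 2, 0, 3, 2, 4], [3, 1, 2, 0, 3, 2], [3, 1, 2, 0, 3, 2, 4, 3,
    1, 2, 0, 3, 4], [3, 1, 2, 0, 3, 2, 4, 3, 1, 2, 3, 4], [3, 1, 2, 0, 3, 4, 3, 1, 2, 0, 3, 4], [3, 1, 2, 0, 3, 4, 3, 1,
    2, 3, 4], [3, 1, 2, 4, 3, 5], [3, 1, 2, 0, 4, 3, 5], [3, 1, 2, 4, 3, 1, 5], [3, 1, 2, 0, 4, 3, 1, 5], [3, 1, 2, 4,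
    3, 2, 0, 5], [3, 1, 2, 4, 3, 2, 5], [3, 1, 2, 4, 3, 1, 2, 0, 5], [3, 1, 2, 4, 3, 1, 2, 5], [3, 1, 2, 0, 4, 3, 2, 0,
    5], [3, 1, 2, 0, 4, 3, 2, 5], [3, 1, 2, 0, 4, 3, 1, 2, 0, 5], [3, 1, 2, 0, 4, 3, 1, 2, 5], [3, 2, 4, 5], [3, 2, 0,
    4, 5], [3, 1, 2, 4, 5], [3, 1, 2, 0, 4, 5], [3, 2, 0, 4, 3, 1, 2, 3, 5], [3, 4, 5], [3, 1, 4, 5], [3, 1, 2, 0, 4, 3,
    1, 2, 0, 3, 5], [3, 1, 2, 0, 4, 3, 1, 2, 3, 5], [3, 2, 4, 3, 5], [3, 2, 0, 4, 3, 5], [3, 2, 4, 3, 1, 5], [3, 2, 0,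
    4, 3, 1, 5], [3, 2, 0, 4, 3, 2, 5], [3, 1, 4, 3, 2, 0, 5], [3, 1, 4, 3, 2, 5], [3, 2, 0, 4, 3, 1, 2, 5], [3, 1, 4,
    3, 5], [3, 1, 4, 3, 2, 0, 5, 4, 3, 1, 2, 3], [3, 2, 0, 4, 3, 2, 5, 4, 3], [3, 1, 4, 3, 2, 0, 5, 4, 3, 1, 2], [3, 1,
    4, 3, 2, 0, 5, 4, 3, 2], [3, 2, 4, 3, 1, 5, 4, 3], [3, 2, 0, 4, 3, 1, 5, 4, 3], [3, 1, 4, 3, 2, 0, 5, 4, 3, 1], [3,
    1, 4, 3, 2, 5, 4, 3, 1], [3, 1, 4, 3, 2, 0, 5, 4, 3], [3, 1, 4, 3, 2, 5, 4, 3], [3, 2, 4, 3, 1, 5, 4, 3, 2], [3, 2,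
    4, 3, 5, 4], [3, 2, 0, 4, 3, 5, 4], [3, 2, 4, 3, 1, 5, 4], [3, 2, 0, 4, 3, 1, 5, 4], [3, 2, 0, 4, 3, 2, 5, 4], [3,
    1, 4, 3, 2, 0, 5, 4], [3, 1, 4, 3, 2, 5, 4], [3, 2, 0, 4, 3, 1, 2, 5, 4], [3, 1, 4, 3, 5, 4], [3, 1, 2, 4, 3, 5, 4],
    [3, 1, 2, 0, 4, 3, 5, 4], [3, 1, 2, 4, 3, 1, 5, 4], [3, 1, 2, 0, 4, 3, 1, 5, 4], [3, 1, 2, 4, 3, 2, 0, 5, 4], [3, 1,
    2, 4, 3, 2, 5, 4], [3, 1, 2, 4, 3, 1, 2, 0, 5, 4], [3, 1, 2, 4, 3, 1, 2, 5, 4], [3, 1, 2, 0, 4, 3, 2, 0, 5, 4], [3,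
    1, 2, 0, 4, 3, 2, 5, 4], [3, 1, 2, 0, 4, 3, 1, 2, 0, 5, 4], [3, 1, 2, 0, 4, 3, 1, 2, 5, 4], [3, 1, 2, 4, 3, 2, 0, 5,
    4, 3, 1, 2], [3, 1, 2, 4, 3, 2, 0, 5, 4, 3, 2], [3, 1, 2, 4, 3, 1, 5, 4, 3], [3, 1, 2, 0, 4, 3, 1, 5, 4, 3], [3, 1,
    2, 4, 3, 2, 0, 5, 4, 3, 1], [3, 1, 2, 4, 3, 2, 5, 4, 3, 1], [3, 1, 2, 4, 3, 2, 0, 5, 4, 3], [3, 1, 2, 4, 3, 2, 5, 4,
    3], [3, 1, 2, 4, 3, 1, 5, 4, 3, 2], [3, 1, 2, 0, 4, 3, 2, 0, 5, 4, 3, 2], [3, 1, 2, 4, 3, 1, 2, 0, 5, 4, 3, 1], [3,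
    1, 2, 4, 3, 1, 2, 5, 4, 3, 1], [3, 1, 2, 4, 3, 1, 2, 0, 5, 4, 3], [3, 1, 2, 4, 3, 1, 2, 5, 4, 3], [3, 1, 2, 4, 3, 1,
    2, 5, 4, 3, 1, 2], [3, 1, 2, 0, 4, 3, 2, 0, 5, 4, 3], [3, 1, 2, 0, 4, 3, 2, 5, 4, 3], [3, 1, 2, 4, 3, 1, 2, 5, 4, 3,
    2]]
  B := gt [[4, 3, 5, 6, 4, 2], [3, 6, 6, 9, 6, 3], [5, 6, 10, 12, 8, 4], [6, 9, 12, 18, 12, 6], [4, 6, 8, 12, 10, 5], [2, 3,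
    4, 6, 5, 4]]
  U1 := gt [[0, -1, 0, 0, 0, 0], [0, 0, 1, 1, -1, 0], [0, 0, 0, 0, 0, 0], [0, 0, 0, 0, 0, 0], [0, 0, 0, 0, 0, 0], [0, 0, 0, 0,
    0, 0]]
  U2 := gt [[0, 0, -1, 0, 0, 0], [0, 0, 0, 0, 0, 0], [0, 0, 0, 0, 0, 0], [0, 0, 0, 0, 0, 0], [0, 0, 0, 0, 1, 0], [0, 0, 0, 0,
    0, 0]]
  U3 := gt [[-1, 0, 1, 0, 0, 0], [0, 0, 0, 0, 0, 0], [0, 0, 0, 0, 0, 0], [0, 0, 0, 0, 0, 0], [0, 0, 0, 0, 0, 0], [0, 0, 0, 0,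
    0, 0]]
  U4 := gt [[0, 0, 0, 0, 0, 0], [0, 0, 1, 1, -1, 0], [0, 0, 0, 0, 0, 0], [0, 0, 0, 0, 0, 0], [0, 0, 0, 0, 1, 0], [0, 0, 0, 0,
    0, 0]]
  hm := by decide +kernel
  mul := by decide +kernel
  comm := by decide +kernel
  fix := by decide +kernel
  inj := by decide +kernel
  orb := by decide +kernel
  card := by decide +kernel
  P2 := by decide +kernel
  x_ne := by decide +kernel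
  x_P := by decide +kernel
  tw0 := by decide +kernel
  tw1 := by decide +kernel
  sgn := by decide +kernel
  fus := by decide +kernel
  B_inv := by decide +kernel
  l1 := ⟨[-33, 0, -12, 38, -12, -33], [-26, 0, -19, 0, -19, -26], 3, by unfold LK; decide +kernel⟩
  l2 := ⟨[0, -9, 0, 5, 0, 0], [1, -3, 2, 3, 2, 1], 3, by unfold LK; decide +kernel⟩
  l3 := ⟨[-12, 0, 0, -7, 0, -12], [-38, -45, -64, -90, -64, -38], 3, by unfold LK; decide +kernel⟩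
  hU := by decide +kernel

/-- the special isogeny times an element of the Weyl group -/
def gF : FM := gt [[0, 0, 1, 0], [2, 2, 1, 1], [-2, 0, 0, 0], [-2, -6, -4, -2]]

theorem gF_eq : GamF * (([0, 1, 0, 2, 1, 0, 3, 2, 1, 0, 2, 1] : List (Fin 4)).map (sM chevF4 4)).prod = toM 4 gF := by
  rw [prod_eq_of isRows_F4 _ (B := toM 4 (gt [[-1, -3, -2, -1], [-1, 0, 0, 0], [2, 2, 1, 1], [0, 0, 1, 0]])) (by decide +kernel)]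
  decide +kernel

theorem gF_ck : rowF 4 ckF4.xs gF = true ∧
    ∀ a b, eqF 4 (mF 4 (m3 4 ckF4.m a b 1) gF) (mF 4 gF (m3 4 ckF4.m b a 1)) = true := by decide +kernel

theorem GamF_ck : GamF * GamF = (2 : ℤ) • 1 ∧ ∀ i, ∃ i', sM chevF4 4 i' * GamF = GamF * sM chevF4 4 i := by
  simp only [← toM_sF isRows_F4]
  decide +kernel

theorem pF_eq : toM 6 pF = P6 := by
  rw [P6_eq]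
  decide +kernel

variable {p : ℕ} [Fact p.Prime] {k : Type} [Field k] [CharP k p] [IsAlgClosed k] {S : Type} [Group S] [Finite S]

theorem cop_one {C : ChevalleyDatum} {l : ℕ} {M : CoxeterMatrix (Fin l)} {hp : IsType C l M}
    {Mx : Matrix (Fin l) (Fin l) ℤ} {X : XF hp p k Mx} {Adm : Matrix (Fin l) (Fin l) ℤ → Prop} (s : XS X Adm 1 S) :
    s.sit.Cop where
  idx := by
    rw [show s.sit.H1 = ⊤ from Subgroup.subgroupOf_eq_top.2 s.H0_eq.ge, Subgroup.index_top]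
    decide
  ker := by
    rw [(MonoidHom.ker_eq_bot_iff _).2 s.sit_π_inj, Subgroup.card_bot]
    decide

theorem not_dvd_pow (hp : p ≠ 3) (j : ℕ) : ¬ (3 : ℤ) ∣ (p : ℤ) ^ j := fun h =>
  hp ((Nat.prime_dvd_prime_iff_eq Nat.prime_three Fact.out).1 (by exact_mod_cast Int.prime_three.dvd_of_dvd_pow h)).symm

theorem gm_F4 {Mx : Matrix (Fin 4) (Fin 4) ℤ} (X : XF hpF4 p k Mx) {z : CoxeterMatrix.F₄.Group} (hz : wm X z = -toM 4 oneF) :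
    (ckF4.mm X isRows_F4 card_W_F4 hz).Gm GamF := by
  have h1 : GamF * wm X _ = _ := (congrArg (fun B : Matrix (Fin 4) (Fin 4) ℤ => GamF * B) (X.Wm_word _)).trans gF_eq
  refine ⟨toM_one, GamF_ck.1, fun w => show ∃ w', wm X w' * GamF = GamF * wm X w from ?_, _,
    show C3 (toV 4 ckF4.xs ᵥ* (GamF * wm X _)) _ from h1 ▸ rowF_iff.1 gF_ck.1, fun a b =>
    show wm X (ckF4.J X isRows_F4 _) * (GamF * wm X _) = GamF * wm X _ * wm X (ckF4.J X isRows_F4 _) from ?_⟩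
  · obtain ⟨L, rfl⟩ := CoxeterMatrix.F₄.toCoxeterSystem.wordProd_surjective w
    induction L with
    | nil => exact ⟨1, by rw [wordProd_nil, show wm X 1 = 1 from X.D.Wm_one, one_mul, mul_one]⟩
    | cons i L ih =>
      obtain ⟨w', h2⟩ := ih
      obtain ⟨i', h3⟩ := GamF_ck.2 i
      refine ⟨CoxeterMatrix.F₄.toCoxeterSystem.simple i' * w', ?_⟩
      rw [wordProd_cons, CK.wm_mul, CK.wm_mul, mul_assoc, h2, ← mul_assoc, ← mul_assoc,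
        show wm X (CoxeterMatrix.F₄.toCoxeterSystem.simple i') = _ from X.Wm_simple i',
        show wm X (CoxeterMatrix.F₄.toCoxeterSystem.simple i) = _ from X.Wm_simple i, h3]
  · rw [h1, CK.wm_J, CK.wm_J, ← toM_mF, ← toM_mF, eqF_iff.1 (gF_ck.2 a b)]

theorem rowAt_F4 (hB : BoxApi) (hp : p ≠ 3) {e : ℕ} {Adm : Matrix (Fin 4) (Fin 4) ℤ → Prop}
    (hA : ∀ A, Adm A → AdmL p [1, GamF] A) (h : Has hpF4 p ((p : ℤ) ^ e • 1) Adm 1 S) (hS : ¬ IsMulCommutative S) :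
    Cl.RowAt S := by
  obtain ⟨k, _, _, _, X, ⟨s⟩⟩ := h
  have := X.finite
  have := Fintype.ofFinite ↥(GF X.F ⊤)
  obtain ⟨f⟩ := nonempty_fr X.D
  obtain ⟨z, hz⟩ := X.exists_neg_F4
  have hz' : wm X z = -toM 4 oneF := hz.trans (congrArg Neg.neg toM_one.symm)
  obtain ⟨w₀, q, h1⟩ : ∃ (w₀ : X.D.W) (q : ℤ), Lie.Sc X.D w₀ q := by
    by_cases h2 : (3 : ℤ) ∣ (p : ℤ) ^ e - 1
    · exact ⟨1, _, by rw [X.D.Wm_one, one_mul]; rfl, h2⟩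
    · have := not_dvd_pow hp e
      exact ⟨z, -(p : ℤ) ^ e, by rw [hz, neg_smul]; exact neg_one_mul X.D.Mx, by omega⟩
  obtain ⟨C⟩ := (ckF4.mm X isRows_F4 card_W_F4 hz').aa (Adm := Adm) ⟨h1.eq.trans (congrArg (q • ·) toM_one.symm), h1.dvd⟩
    fun A h => by
      obtain ⟨j, B, h2, h3⟩ := hA A h
      refine ⟨_, B, not_dvd_pow hp j, h3, ?_⟩
      rcases List.mem_cons.1 h2 with rfl | h2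
      · exact .inl rfl
      · exact .inr (.inr (List.mem_singleton.1 h2 ▸ gm_F4 X hz'))
  exact C.rowAt (hB f X.D_qs) (cop_one s) (h1.mc f hp) hp (fun _ B _ _ => ⟨1, by
    rw [h1.eq, mul_smul_comm, smul_mul_assoc, mul_one, one_mul]⟩) h1.regC hS

/-- **`Box.f4`** -/
theorem row_f4 (hB : BoxApi) : Row (ChevX chevF4 0) := Cl.row_of Tool.toolOne fun S _ _ _ hS _ h => by
  rcases row_F4 h with ⟨p, e, _, h3, -, -, h⟩ | ⟨e, -, h⟩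
  · exact rowAt_F4 hB h3 (fun _ ⟨j, h⟩ => ⟨j, 1, List.mem_cons_self, h⟩) h hS
  · exact rowAt_F4 (p := 2) hB (by decide) (fun _ => id) h hS

theorem rowAt_P6 (hB : BoxApi) (hp : p ≠ 3) {Mx : Matrix (Fin 6) (Fin 6) ℤ} {Adm : Matrix (Fin 6) (Fin 6) ℤ → Prop} {Q : ℤ}
    (hA : ∀ A, Adm A → AdmL p [1, P6] A) (h : HasP hpE6 p Mx Adm S Q P6) (hS : ¬ IsMulCommutative S) : Cl.RowAt S := by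
  obtain ⟨k, _, _, _, X, s, w₀, h1⟩ := h
  have := X.finite
  have := Fintype.ofFinite ↥(GF X.F ⊤)
  obtain ⟨f⟩ := nonempty_fr X.D
  obtain ⟨z, hz⟩ := X.exists_neg_E6
  obtain ⟨C⟩ := (ckE6.mm X isRows_E6 card_W_E6 (hz.trans (congrArg Neg.neg pF_eq.symm))).aa (Adm := Adm)
    ⟨h1.eq.trans (congrArg (Q • ·) pF_eq.symm), h1.dvd⟩ fun A h => by
      obtain ⟨j, B, h2, h3⟩ := hA A h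
      refine ⟨_, B, not_dvd_pow hp j, h3, ?_⟩
      rcases List.mem_cons.1 h2 with rfl | h2
      · exact .inl rfl
      · exact .inr (.inl ((List.mem_singleton.1 h2).trans pF_eq.symm))
  exact C.rowAt (hB f X.D_qs) (cop_one s) (h1.mc f hp) hp h1.admC h1.regC hS

/-- **`E₆(q)`, `3 ∣ q + 1`** -/
theorem rowAt_E6m (hB : BoxApi) (hp : p ≠ 3) {e : ℕ}
    (h : HasP hpE6 p ((p : ℤ) ^ e • 1) (AdmL p [1, P6]) S (-(p : ℤ) ^ e) P6) (hS : ¬ IsMulCommutative S) : Cl.RowAt S :=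
  rowAt_P6 hB hp (fun _ => id) h hS

/-- **`²E₆(q)`, `3 ∣ q - 1`** -/
theorem rowAt_2E6m (hB : BoxApi) (hp : p ≠ 3) {e : ℕ}
    (h : HasP hpE6 p ((p : ℤ) ^ e • P6) (AdmF p) S ((p : ℤ) ^ e) P6) (hS : ¬ IsMulCommutative S) : Cl.RowAt S :=
  rowAt_P6 hB hp (fun _ ⟨j, h⟩ => ⟨j, 1, List.mem_cons_self, h⟩) h hS

end Cfsg.Agent.KZ.Exc
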