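import Cfsg.Agent.KZ.Exc.F4Row
import Cfsg.Agent.KZ.G2.Mat
import Cfsg.Agent.KZ.McX.Gt

/-!
# KZ, `F₄(q)` and `E₆ ^ (-ε) (q)`: the combinatorial input in terms of matrices (helper84)

`MM D P` : conditions on the matrices of the Weyl group, `w₀ F` acts as a multiple of `P`; `MM.aa`.
-/

set_option autoImplicit false
set_option linter.unusedSectionVars false

namespace Cfsg.Agent.KZ.Exc

open Cfsg Cfsg.Agent.DL Cfsg.Agent.DL.PP Cfsg.Agent.KZ.Lie Matrix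
open Cfsg.Agent.KZ.Cl (tau cx tau_eq_iff)
open Cfsg.Agent.KZ.G2 (tr_coch exists_omega)
open Cfsg.Agent.KZ.McX (Gt tc_mat)

/-- congruence modulo `3` -/
def C3 {R : Type} (x y : R → ℤ) : Prop := ∀ j, 3 ∣ (x - y) j

theorem C3.trans {R : Type} {x y z : R → ℤ} (h : C3 x y) (h' : C3 y z) : C3 x z := fun j => by
  have := dvd_add (h j) (h' j)
  rwa [← Pi.add_apply, sub_add_sub_cancel] at this

theorem C3.vecMul {R : Type} [Fintype R] {x y : R → ℤ} (h : C3 x y) (A : Matrix R R ℤ) : C3 (x ᵥ* A) (y ᵥ* A) := fun j => by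
  rw [← sub_vecMul]
  exact Finset.dvd_sum fun i _ => (h i).mul_right _

theorem C3.smul {R : Type} {x y : R → ℤ} (h : C3 x y) {n : ℤ} (hn : 3 ∣ n - 1) : C3 (n • x) y := fun j => by
  have h1 := dvd_add (hn.mul_right (x j)) (h j)
  rwa [show (n - 1) * x j + (x - y) j = (n • x - y) j by simp only [Pi.sub_apply, Pi.smul_apply, smul_eq_mul]; ring] at h1

variable {p : ℕ} [Fact p.Prime] {k : Type} [Field k] [CharP k p] {Y : Type} [Group Y] {N : Type} [Fintype N]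
  [DecidableEq N] {ρ : Y →* GL N k} {F : MulAut Y} {G : Subgroup Y} [IsAlgClosed k] {D : Datum p ρ F G} {w₀ : D.W}

variable (D) in
/-- a Levi subgroup -/
def Lv (J : D3 × D3 × D3 →* D.W) (P B : Matrix D.R D.R ℤ) (x : D.R → ℤ) {Γ Δ : Type} [Group Γ] [Group Δ] (ι : Γ →* D3)
    (κ : Δ →* D3) : Prop :=
  ∃ (lam y : D.R → ℤ) (n : ℤ), n ≠ 0 ∧ P *ᵥ lam = lam ∧ lam ᵥ* B = n • y ∧ C3 y x ∧
    ∀ u, J u ∈ Wl D lam ↔ ∃ a b c, J (ι a, κ b, κ c) = J u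

variable (D) in
/-- conditions on the matrices -/
structure MM (P : Matrix D.R D.R ℤ) where
  J : D3 × D3 × D3 →* D.W
  z : D.W
  x : D.R → ℤ
  y0 : D.R → ℤ
  B : Matrix D.R D.R ℤ
  U1 : Matrix D.R D.R ℤ
  U2 : Matrix D.R D.R ℤ
  U3 : Matrix D.R D.R ℤ
  U4 : Matrix D.R D.R ℤ
  z_eq : D.Wm z = -P
  P2 : P * P = 1
  x_ne : ∃ j, ¬ 3 ∣ x j
  x_P : C3 (x ᵥ* P) x
  stab : ∀ v, C3 (x ᵥ* D.Wm v) x ↔ ∃ u, J u = v
  inj : ∀ a b c, J (a, b, c) = 1 → a = 1 ∧ b = 1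
  tw : (P = 1 ∧ ∀ a b c, J (a, b, c) = J (a, b, 1)) ∨ ∀ a b c, D.Wm (J (a, c, b)) * P = P * D.Wm (J (a, b, c))
  sgn : ∀ a b, sgZ D (J (a, b, 1)) = ch 2 (cl a) * ch 2 (cl b)
  fus : ∀ k : Fin 3 × Fin 3, D.Wm (J (rp k.1, rp k.2, 1)) * P * (D.Wm (J (rp k.1, rp k.2, 1)) * P) = 1 →
    (D.Wm (J (rp k.1, rp k.2, 1)) * P).trace = P.trace → k = 0
  B_inv : ∀ v, (D.Wm v)ᵀ * B * D.Wm v = B
  l1 : Lv D J P B x (MonoidHom.id D3) (1 : Unit →* D3)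
  l2 : Lv D J P B x (1 : Unit →* D3) (MonoidHom.id D3)
  l3 : Lv D J P B x i2 i2
  hU : 1 = vecMulVec y0 x + (D.Wm (J (.r 1, 1, 1)) - 1) * U1 + (D.Wm (J (1, .r 1, .r 1)) - 1) * U2 + (P - 1) * U3 +
    (3 : ℤ) • U4

namespace MM

variable {P : Matrix D.R D.R ℤ} (C : MM D P)

/-- a matrix which interchanges the factors -/
def Gm (B : Matrix D.R D.R ℤ) : Prop :=
  P = 1 ∧ B * B = (2 : ℤ) • 1 ∧ (∀ w, ∃ w', D.Wm w' * B = B * D.Wm w) ∧
    ∃ v, C3 (C.x ᵥ* (B * D.Wm v)) C.x ∧ ∀ a b, D.Wm (C.J (a, b, 1)) * (B * D.Wm v) = B * D.Wm v * D.Wm (C.J (b, a, 1))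

/-- the action of a matrix on the nine types -/
def Ac (B : Matrix D.R D.R ℤ) : Prop :=
  ∃ t, ∀ k : Fin 3 × Fin 3, ∃ v, C3 (C.x ᵥ* (B * D.Wm v)) C.x ∧ D.Wm (C.J (rp k.1, rp k.2, 1)) * P * (B * D.Wm v) =
    B * D.Wm v * (D.Wm (C.J (rp (sw t k).1, rp (sw t k).2, 1)) * P)

theorem ac_one : C.Ac 1 := ⟨false, fun _ => ⟨1, by
  rw [D.Wm_one, mul_one, vecMul_one]
  exact fun j => by simp, by
  rw [D.Wm_one, one_mul, one_mul, mul_one]
  rfl⟩⟩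

theorem ac_P : C.Ac P := by
  rcases C.tw with h | h
  · have h1 := C.ac_one
    rwa [← h.1] at h1
  · refine ⟨false, fun k => ⟨C.J (1, 1, rp k.2), ?_, ?_⟩⟩
    · rw [← vecMul_vecMul]
      exact (C.x_P.vecMul _).trans ((C.stab _).2 ⟨_, rfl⟩)
    · rw [mul_assoc, ← mul_assoc P, C.P2, one_mul, mul_assoc, ← mul_assoc _ _ P, ← D.Wm_mul, ← D.Wm_mul, ← map_mul,
        ← map_mul, h, ← mul_assoc, C.P2, one_mul]
      simp [sw]

theorem ac_gm {B : Matrix D.R D.R ℤ} (h : C.Gm B) : C.Ac B := by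
  obtain ⟨rfl, -, -, v, h2, h3⟩ := h
  exact ⟨true, fun k => ⟨v, h2, by rw [mul_one, mul_one, h3]; rfl⟩⟩

theorem ac_neg {B : Matrix D.R D.R ℤ} (h : C.Ac (B * P)) : C.Ac (-B) := by
  have h1 : ∀ v, -B * D.Wm (C.z * v) = B * P * D.Wm v := fun v => by
    rw [D.Wm_mul, C.z_eq, ← mul_assoc, neg_mul_neg]
  exact h.imp fun t ht k => (ht k).elim fun v hv => ⟨C.z * v, by rwa [h1]⟩

theorem ac_smul {B : Matrix D.R D.R ℤ} (h : C.Ac B) {n : ℤ} (hn : 3 ∣ n - 1) : C.Ac (n • B) :=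
  h.imp fun t ht k => (ht k).imp fun v hv => by
    rw [smul_mul_assoc, vecMul_smul, mul_smul_comm, smul_mul_assoc, hv.2]
    exact ⟨hv.1.smul hn, rfl⟩

theorem ac {B : Matrix D.R D.R ℤ} (h : B = 1 ∨ B = P ∨ C.Gm B) {n : ℤ} (hn : ¬ 3 ∣ n) : C.Ac (n • B) := by
  by_cases h1 : 3 ∣ n - 1
  · refine C.ac_smul ?_ h1
    rcases h with rfl | rfl | h
    exacts [C.ac_one, C.ac_P, C.ac_gm h]
  · rw [← neg_smul_neg]
    refine C.ac_smul (C.ac_neg ?_) (by omega)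
    rcases h with rfl | rfl | h
    · rw [one_mul]
      exact C.ac_P
    · rw [C.P2]
      exact C.ac_one
    · rw [show B * P = B by rw [h.1, mul_one]]
      exact C.ac_gm h

theorem sq {B : Matrix D.R D.R ℤ} (h : B = 1 ∨ B = P ∨ C.Gm B) {n : ℤ} (hn : n ≠ 0) :
    (∃ m : ℤ, m ≠ 0 ∧ n • B * n • B = m • 1) ∧ ∀ w, ∃ w', D.Wm w' * n • B = n • B * D.Wm w := by
  have h1 : (∃ m : ℤ, m ≠ 0 ∧ B * B = m • 1) ∧ ∀ w, ∃ w', D.Wm w' * B = B * D.Wm w := by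
    rcases h with rfl | rfl | h
    · exact ⟨⟨1, one_ne_zero, by simp⟩, fun w => ⟨w, by simp⟩⟩
    · refine ⟨⟨1, one_ne_zero, by rw [C.P2, one_smul]⟩, fun w => ⟨C.z * w * C.z⁻¹, neg_injective ?_⟩⟩
      rw [← mul_neg, ← neg_mul, ← C.z_eq, ← D.Wm_mul, ← D.Wm_mul, inv_mul_cancel_right]
    · exact ⟨⟨2, two_ne_zero, h.2.1⟩, h.2.2.1⟩
  obtain ⟨⟨m, h2, h3⟩, h4⟩ := h1
  exact ⟨⟨n * n * m, mul_ne_zero (mul_ne_zero hn hn) h2, by rw [smul_mul_smul_comm, h3, smul_smul]⟩,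
    fun w => (h4 w).imp fun _ e => by rw [mul_smul_comm, smul_mul_assoc, e]⟩

variable {Q : ℤ} (h : Gt D w₀ Q P) {ω : ℂˣ} (hω : IsPrimitiveRoot ω 3)
include h

omit C in
theorem mx (w : D.W) : D.Wm (w * w₀) * D.Mx = Q • (D.Wm w * P) := by
  rw [D.Wm_mul, mul_assoc, h.eq, mul_smul_comm]

include hω

theorem lev {Γ Δ : Type} [Group Γ] [Group Δ] {ι : Γ →* D3} {κ : Δ →* D3} (h1 : Lv D C.J P C.B C.x ι κ) :
    Lev D w₀ C.J (coch C.x ω) ι κ := by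
  obtain ⟨lam, y, n, h2, h3, h4, h5, h6⟩ := h1
  have h7 : ∀ v ∈ Wl D lam, y ᵥ* D.Wm v = y := fun v hv => smul_right_injective _ h2 (by
    beta_reduce
    rw [← smul_vecMul, ← h4]
    conv_lhs => rw [← show D.Wm v *ᵥ lam = lam from hv, ← vecMul_transpose, vecMul_vecMul, vecMul_vecMul, ← mul_assoc,
      C.B_inv])
  refine ⟨lam, y, ω, Q, h.ne, by rw [h.eq, smul_mulVec, h3], funext fun j => ?_, h7, fun v => ⟨fun hv => ?_, ?_⟩⟩
  · show ω ^ C.x j = ω ^ y j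
    rw [eq_comm, ← mul_inv_eq_one, ← _root_.zpow_sub, hω.zpow_eq_one_iff_dvd]
    exact h5 j
  · obtain ⟨u, rfl⟩ := (C.stab v).1 fun j => by
      have h8 := dvd_sub (h5 j) (h5.vecMul (D.Wm v) j)
      rwa [h7 v hv, ← Pi.sub_apply, sub_sub_sub_cancel_left] at h8
    exact (h6 u).1 hv
  · rintro ⟨a, b, c, rfl⟩
    exact (h6 _).2 ⟨a, b, c, rfl⟩

theorem fixed {c : Lbl D} (h1 : Fx D w₀ c) (h2 : c ^ 3 = 1) (h3 : Rel D (C.J (.r 1, 1, 1)) c c)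
    (h4 : Rel D (C.J (1, .r 1, .r 1)) c c) : c = 1 ∨ c = coch C.x ω ∨ c = (coch C.x ω)⁻¹ := by
  have a1 : ∀ {B}, Tr D B c c → ∀ v, chr ((B - 1) *ᵥ v) c = 1 := fun hB v => by
    rw [sub_mulVec, one_mulVec, DL.chr_sub, hB, mul_inv_cancel]
  have a3 : ∀ v, chr v c ^ (3 : ℤ) = 1 := fun v => by
    rw [show (3 : ℤ) = (3 : ℕ) from rfl, zpow_natCast, ← map_pow, h2, map_one]
  have a4 : Tr D P c c := fun v => by
    obtain ⟨n, hn⟩ := h.dvd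
    rw [← h1 v, h.eq, smul_mulVec, DL.chr_zsmul, sub_eq_iff_eq_add.1 hn, _root_.zpow_add_one, _root_.zpow_mul, a3,
      _root_.one_zpow, one_mul]
  have a5 : c = coch C.x (chr C.y0 c) := eq_of_chr D fun v => by
    have b1 := congrArg (fun B => chr (B *ᵥ v) c) C.hU
    simp only [one_mulVec, add_mulVec, DL.chr_add, ← mulVec_mulVec, a1 h3, a1 h4, a1 a4, smul_mulVec, DL.chr_zsmul, a3,
      mul_one, vecMulVec_mulVec, op_smul_eq_smul] at b1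
    rw [b1, DL.chr_coch, dotProduct_comm]
    rfl
  obtain ⟨i, hi, h5⟩ := hω.eq_pow_of_mem_rootsOfUnity (ξ := chr C.y0 c) (by
    rw [mem_rootsOfUnity, ← zpow_natCast]; exact a3 _)
  rw [a5, ← h5]
  interval_cases i
  · exact .inl (by rw [pow_zero, map_one])
  · exact .inr (.inl (by rw [pow_one]))
  · exact .inr (.inr (by rw [← map_inv, eq_inv_of_mul_eq_one_left ((pow_succ ω 2).symm.trans hω.pow_eq_one)]))

omit hω

/-- the combinatorial input -/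
theorem aa {Adm : Matrix D.R D.R ℤ → Prop}
    (hA : ∀ A, Adm A → ∃ (n : ℤ) (B : Matrix D.R D.R ℤ), ¬ 3 ∣ n ∧ A = n • B ∧ (B = 1 ∨ B = P ∨ C.Gm B)) :
    Nonempty (AA D Adm w₀) := by
  obtain ⟨ω, hω⟩ := exists_omega
  exact ⟨{
    J := C.J
    s := coch C.x ω
    s_cube := by rw [← map_pow, hω.pow_eq_one, map_one]
    s_ne := fun e => C.x_ne.elim fun j hj => hj ((hω.zpow_eq_one_iff_dvd _).1 (congrFun e j))
    s_fx := (tr_coch hω).2 (by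
      rw [h.eq, vecMul_smul]
      exact C.x_P.smul h.dvd)
    stab := fun v => (tr_coch hω).trans (C.stab v)
    inj := C.inj
    tw := C.tw.imp (fun e => fun a b c => ⟨e.2 a b c, tau_eq_iff.2 (by
      obtain ⟨rfl, -⟩ := e
      rw [h.eq, mul_smul_comm, smul_mul_assoc, mul_one, one_mul])⟩) fun e a b c => tau_eq_iff.2 (by
        rw [h.eq, mul_smul_comm, smul_mul_assoc, e])
    sgn := C.sgn
    fus := fun k v e => by
      rw [tc_mat, mx h, h.eq, mul_smul_comm, smul_mul_assoc, (smul_right_injective _ h.ne).eq_iff] at e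
      have e' : D.Wm (C.J (rp k.1, rp k.2, 1)) * P = D.Wm v⁻¹ * (P * D.Wm v) := by
        rw [← e, ← mul_assoc (D.Wm v⁻¹), ClD.Wm_inv_mul, one_mul]
      refine C.fus k ?_ ?_ <;> rw [e']
      · rw [mul_assoc, mul_assoc, ← mul_assoc (D.Wm v), ClD.Wm_mul_inv, one_mul, ← mul_assoc P, C.P2, one_mul,
          ClD.Wm_inv_mul]
      · rw [trace_mul_comm, mul_assoc, ClD.Wm_mul_inv, mul_one]
    l1 := C.lev h hω C.l1
    l2 := C.lev h hω C.l2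
    l3 := C.lev h hω C.l3
    fixed := fun c => C.fixed h hω
    aut := fun A e => by
      obtain ⟨n, B, h1, rfl, h2⟩ := hA A e
      exact (C.ac h2 h1).imp fun t ht k => (ht k).imp fun v hv => ⟨(tr_coch hω).2 hv.1, by
        rw [mx h, mx h, smul_mul_assoc Q, hv.2, mul_smul_comm]⟩
    sq := fun A e => by
      obtain ⟨n, B, h1, rfl, h2⟩ := hA A e
      exact C.sq h2 fun e => h1 (e ▸ dvd_zero 3) }⟩

end MM

end Cfsg.Agent.KZ.Exc
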