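import Cfsg.Agent.KZ.G2.Vec
import Mathlib.GroupTheory.SpecificGroups.Dihedral

/-!
# KZ, `F₄(q)` and `E₆ ^ (-ε) (q)`: nine irreducible characters (helper84)

`rig` : rigidity of integer vectors; `exists_nine` : nine orthogonal generalized characters with the congruences of
`A₂ × A₂` give nine irreducible characters.
-/

set_option autoImplicit false
set_option linter.unusedSectionVars false

namespace Cfsg.Agent.KZ.Exc

open Cfsg Cfsg.Agent.Characters.Core Finset Cfsg.Agent.KZ.G2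

theorem rig {ι J : Type} [Fintype ι] [Fintype J] [DecidableEq J] (g : J → ι → ℤ) (hJ : 9 ≤ Fintype.card J)
    (hG : ∀ i j, ∑ x, g i x * g j x = if i = j then 9 else 0) (hc : ∀ i j x, 3 ∣ g i x - g j x) (i : J) (x : ι) :
    3 ∣ g i x := by
  classical
  have h1 : ∀ x, ∑ i, g i x ^ 2 ≤ 9 := fun x => by
    have h2 : ∑ y, (∑ i, g i x * g i y) ^ 2 = 9 * ∑ i, g i x ^ 2 := by
      simp only [sq, sum_mul_sum]
      rw [sum_comm, mul_sum]
      refine sum_congr rfl fun i _ => ?_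
      rw [sum_comm, sum_congr rfl fun j _ => show ∑ y, g i x * g i y * (g j x * g j y) =
        g i x * g j x * if i = j then 9 else 0 by
          rw [← hG, mul_sum]
          exact sum_congr rfl fun y _ => by ring]
      simp [mul_comm]
    have h3 := sum_le_univ (fun y => ∑ i, g i x * g i y) {x}
    rw [sum_singleton, h2] at h3
    simp only [← sq] at h3
    nlinarith
  have h2 : ∀ x i, ¬ 3 ∣ g i x → ∀ j, g i x * g j x = 1 := fun x i hx j => by
    have h3 : ∀ j ∈ univ, 0 ≤ g j x ^ 2 - 1 := fun j _ => by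
      have : g j x ≠ 0 := by have := hc i j x; omega
      have := sq_pos_of_ne_zero this
      omega
    have h4 := (sum_eq_zero_iff_of_nonneg h3).1 (le_antisymm (by
      rw [sum_sub_distrib, sum_const, card_univ, nsmul_eq_mul, mul_one]
      have := h1 x
      omega) (sum_nonneg h3))
    have h5 := hc i j x
    rcases sq_eq_one_iff.1 (sub_eq_zero.1 (h4 i (mem_univ _))) with e | e <;>
      rcases sq_eq_one_iff.1 (sub_eq_zero.1 (h4 j (mem_univ _))) with e' | e' <;> rw [e, e'] at h5 ⊢ <;> omega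
  by_contra hx
  obtain ⟨j, hj⟩ := Fintype.exists_ne_of_one_lt_card (by omega) i
  have h3 := hG i j
  rw [if_neg hj.symm, sum_congr rfl fun y _ => show g i y * g j y = g i y * g i y by
    by_cases hy : 3 ∣ g i y
    · obtain ⟨c, e⟩ := hy
      have h4 := sum_le_univ (g i) {x, y}
      rw [sum_pair (by rintro rfl; exact hx ⟨c, e⟩)] at h4
      simp only [sq] at h4
      rw [hG, if_pos rfl, h2 x i hx i, e] at h4
      rw [e, show c = 0 by nlinarith]
      simp
    · rw [h2 y i hy, h2 y i hy], hG, if_pos rfl] at h3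
  omega

variable {H : Type} [Group H] [Fintype H]

theorem ip_zsmul (χ φ : H → ℂ) (n : ℤ) : classInner χ ((n : ℂ) • φ) = n * classInner χ φ := by
  rw [classInner_smul_right, map_intCast]

theorem gen_smul {φ : H → ℂ} (h : IsGeneralizedCharacter H φ) (n : ℤ) : IsGeneralizedCharacter H ((n : ℂ) • φ) := by
  have := finite_irr (G := H)
  have := Fintype.ofFinite (IrrCharacter H)
  obtain ⟨m, rfl⟩ := isGeneralizedCharacter_iff.1 h
  exact isGeneralizedCharacter_iff.2 ⟨fun χ => n * m χ, by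
    rw [smul_sum]
    exact sum_congr rfl fun χ _ => by rw [mul_smul, Int.cast_smul_eq_zsmul]⟩

theorem gen_sum {ι : Type} [Fintype ι] {φ : ι → H → ℂ} (h : ∀ i, IsGeneralizedCharacter H (φ i)) :
    IsGeneralizedCharacter H (∑ i, φ i) := by
  have := finite_irr (G := H)
  have := Fintype.ofFinite (IrrCharacter H)
  choose m hm using fun i => isGeneralizedCharacter_iff.1 (h i)
  exact isGeneralizedCharacter_iff.2 ⟨fun χ => ∑ i, m i χ, by
    simp only [hm, sum_smul]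
    exact sum_comm⟩

/-- all multiplicities are divisible by `n` -/
theorem exists_irr {φ : H → ℂ} (h : IsGeneralizedCharacter H φ) {n : ℤ} (hn : n ≠ 0) (hd : ∀ χ, n ∣ mu φ χ)
    (e : classInner φ φ = (n * n : ℤ)) : ∃ (χ : IrrCharacter H) (ε : ℤˣ), χ.1 = ((ε : ℤ) : ℂ) • (n : ℂ)⁻¹ • φ := by
  have := finite_irr (G := H)
  have := Fintype.ofFinite (IrrCharacter H)
  have h0 : (n : ℂ) ≠ 0 := Int.cast_ne_zero.2 hn
  have h1 : IsGeneralizedCharacter H ((n : ℂ)⁻¹ • φ) := by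
    choose a ha using hd
    obtain ⟨m, rfl⟩ := isGeneralizedCharacter_iff.1 h
    refine isGeneralizedCharacter_iff.2 ⟨a, ?_⟩
    rw [smul_sum]
    refine sum_congr rfl fun χ _ => ?_
    have h2 := congrArg (starRingEnd ℂ) (classInner_sum_zsmul_irr m χ)
    rw [classInner_conj_symm, map_intCast] at h2
    rw [← mu_eq h2, ha, mul_smul, ← Int.cast_smul_eq_zsmul ℂ n, inv_smul_smul₀ h0]
  rcases isIrr_of_generalized h1 (by
    rw [classInner_smul_left, classInner_smul_right, e, map_inv₀, map_intCast]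
    push_cast
    field_simp) with h2 | h2
  · exact ⟨⟨_, h2⟩, 1, by simp⟩
  · exact ⟨⟨_, h2⟩, -1, by simp⟩

/-- the sizes of the classes of `S₃` -/
def cs : Fin 3 → ℤ := ![1, 3, 2]

/-- the orders of the centralisers -/
def cz : Fin 3 → ℤ := ![6, 2, 3]

/-- the characters of `S₃`, the second one with a minus sign -/
def ch : Fin 3 → Fin 3 → ℤ := ![![1, 1, 1], ![-2, 0, 1], ![1, -1, 1]]

/-- the coefficients -/
def co (i k : Fin 3 × Fin 3) : ℤ := ch i.1 k.1 * cs k.1 * (ch i.2 k.2 * cs k.2)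

/-- `36` times the almost character -/
noncomputable def ZZ (R : Fin 3 × Fin 3 → H → ℂ) (i : Fin 3 × Fin 3) : H → ℂ := ∑ k, (co i k : ℂ) • R k

theorem ip_ZZ (R : Fin 3 × Fin 3 → H → ℂ) (i : Fin 3 × Fin 3) (ψ : H → ℂ) :
    classInner (ZZ R i) ψ = ∑ k, co i k * classInner (R k) ψ := by
  rw [ZZ, classInner_sum_left]
  simp only [classInner_smul_left]

theorem ip_ZZ' (R : Fin 3 × Fin 3 → H → ℂ) (i : Fin 3 × Fin 3) (ψ : H → ℂ) :
    classInner ψ (ZZ R i) = ∑ k, co i k * classInner ψ (R k) := by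
  rw [ZZ, classInner_sum_right]
  simp only [ip_zsmul]

theorem co_orth : ∀ i j : Fin 3 × Fin 3, ∑ k, co i k * (co j k * (cz k.1 * cz k.2)) = if i = j then 36 * 36 else 0 := by
  decide +kernel

theorem arith (r : Fin 3 × Fin 3 → ℤ) (h1 : ∀ l, 6 ∣ r (0, l) + 3 * r (1, l) + 2 * r (2, l))
    (h1' : ∀ l, 6 ∣ r (0, l) - 3 * r (1, l) + 2 * r (2, l)) (h2 : ∀ l, 6 ∣ r (l, 0) + 3 * r (l, 1) + 2 * r (l, 2))
    (h2' : ∀ l, 6 ∣ r (l, 0) - 3 * r (l, 1) + 2 * r (l, 2)) (h3 : 4 ∣ r (0, 0) + r (0, 1) + r (1, 0) + r (1, 1))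
    (i : Fin 3 × Fin 3) : 12 ∣ ∑ k, co i k * r k ∧ 36 ∣ ∑ k, co i k * r k - ∑ k, co 0 k * r k := by
  have a0 := h1 0
  have a1 := h1 1
  have a2 := h1 2
  have b0 := h1' 0
  have b1 := h1' 1
  have b2 := h1' 2
  have c0 := h2 0
  have c1 := h2 1
  have c2 := h2 2
  have d0 := h2' 0
  have d1 := h2' 1
  have d2 := h2' 2
  obtain ⟨i, j⟩ := i
  simp only [Fintype.sum_prod_type, Fin.sum_univ_three, co, ch, cs]
  fin_cases i <;> fin_cases j <;> simp <;> omega

variable {R : Fin 3 × Fin 3 → H → ℂ}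
  (hip : ∀ k l, classInner (R k) (R l) = ((if k = l then cz k.1 * cz k.2 else 0 : ℤ) : ℂ))
include hip

theorem ip_ZZ_ZZ (i j : Fin 3 × Fin 3) : classInner (ZZ R i) (ZZ R j) = ((if i = j then 36 * 36 else 0 : ℤ) : ℂ) := by
  rw [← co_orth, ip_ZZ, Int.cast_sum]
  refine sum_congr rfl fun k _ => ?_
  rw [ip_ZZ', sum_eq_single k (fun l _ hl => by rw [hip, if_neg hl.symm]; simp) (by simp), hip, if_pos rfl]
  push_cast
  rfl

/-- **nine irreducible characters** -/
theorem exists_nine (hg : ∀ k, IsGeneralizedCharacter H (R k))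
    (h1 : ∀ χ l, 6 ∣ mu (R (0, l)) χ + 3 * mu (R (1, l)) χ + 2 * mu (R (2, l)) χ)
    (h1' : ∀ χ l, 6 ∣ mu (R (0, l)) χ - 3 * mu (R (1, l)) χ + 2 * mu (R (2, l)) χ)
    (h2 : ∀ χ l, 6 ∣ mu (R (l, 0)) χ + 3 * mu (R (l, 1)) χ + 2 * mu (R (l, 2)) χ)
    (h2' : ∀ χ l, 6 ∣ mu (R (l, 0)) χ - 3 * mu (R (l, 1)) χ + 2 * mu (R (l, 2)) χ)
    (h3 : ∀ χ, 4 ∣ mu (R (0, 0)) χ + mu (R (0, 1)) χ + mu (R (1, 0)) χ + mu (R (1, 1)) χ) (i : Fin 3 × Fin 3) :
    ∃ (χ : IrrCharacter H) (ε : ℤˣ), χ.1 = ((ε : ℤ) : ℂ) • ((36 : ℤ) : ℂ)⁻¹ • ZZ R i := by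
  have := finite_irr (G := H)
  have := Fintype.ofFinite (IrrCharacter H)
  have h4 : ∀ i, IsGeneralizedCharacter H (ZZ R i) := fun i => gen_sum fun k => gen_smul (hg k) _
  have h5 : ∀ i χ, mu (ZZ R i) χ = ∑ k, co i k * mu (R k) χ := fun i χ => mu_eq (by
    rw [ip_ZZ', Int.cast_sum]
    exact sum_congr rfl fun k _ => by rw [mu_spec (hg k), Int.cast_mul])
  have h6 := fun i χ => arith (fun k => mu (R k) χ) (h1 χ) (h1' χ) (h2 χ) (h2' χ) (h3 χ) i
  simp only [← h5] at h6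
  choose g h7 using fun i χ => (h6 i χ).1
  refine exists_irr (h4 i) (by norm_num) (fun χ => ?_) ((ip_ZZ_ZZ hip i i).trans (by rw [if_pos rfl]))
  have h8 := rig g (by simp) (fun i j => ?_) (fun i j χ => ?_) i χ
  · rw [h7]
    omega
  · have h9 := sum_mu (n := if i = j then 36 * 36 else 0) (h4 i) (h4 j) ((ip_ZZ_ZZ hip i j).trans (by split_ifs <;> simp))
    simp only [h7] at h9
    rw [sum_congr rfl fun x _ => show 12 * g i x * (12 * g j x) = 144 * (g i x * g j x) by ring, ← mul_sum] at h9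
    split_ifs at h9 ⊢ <;> omega
  · have h9 := (h6 i χ).2
    have h10 := (h6 j χ).2
    simp only [h7] at h9 h10
    omega

end Cfsg.Agent.KZ.Exc
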